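import Mathlib
import Cfsg.Agent.G2M.Def

/-! Translates of the space of vectors fixed by the root subgroups 10 and 11. -/

set_option autoImplicit false
set_option linter.all false

namespace Cfsg.Agent.G2M.B1t

open Module Finset Cfsg.Agent.G2M

section group
variable {F G : Type*} [Field F] [Group G] (X : G2G F G)

def P (g : G) (r s : ℕ) : Prop := ∃ e : F, (e = 1 ∨ e = -1) ∧ ∀ u : F, g * X.x r u * g⁻¹ = X.x s (e * u)

theorem P.mul {X : G2G F G} {g g' : G} {r s t : ℕ} (h1 : P X g' s t) (h : P X g r s) : P X (g' * g) r t := by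
  obtain ⟨e, he, h2⟩ := h
  obtain ⟨f, hf, h3⟩ := h1
  refine ⟨f * e, ?_, fun u => ?_⟩
  · rcases he with rfl | rfl <;> rcases hf with rfl | rfl <;> simp
  · rw [mul_inv_rev, mul_assoc f, ← h3, ← h2]; group

theorem P.inv {X : G2G F G} {g : G} {r s : ℕ} (h : P X g r s) : P X g⁻¹ s r := by
  obtain ⟨e, he, h2⟩ := h
  have hee : e * e = 1 := by rcases he with rfl | rfl <;> simp
  refine ⟨e, he, fun u => ?_⟩
  have h3 := h2 (e * u)
  rw [← mul_assoc, hee, one_mul] at h3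
  rw [← h3]; group

theorem Pa (r : ℕ) (hr : r < 12) : P X X.na r (ra r) := X.hna r hr
theorem Pb (r : ℕ) (hr : r < 12) : P X X.nb r (rb r) := X.hnb r hr

/-- the element moving (6, 10, 11) to (6, 0, 1) -/
def m : G := X.nb * (X.na * (X.nb * (X.na * (X.nb * (X.na * X.nb)))))

theorem m6 : P X (m X) 6 6 :=
  (Pb X 5 (by norm_num)).mul ((Pa X 1 (by norm_num)).mul ((Pb X 0 (by norm_num)).mul
    ((Pa X 0 (by norm_num)).mul ((Pb X 1 (by norm_num)).mul ((Pa X 5 (by norm_num)).mul (Pb X 6 (by norm_num)))))))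

theorem m10 : P X (m X) 10 0 :=
  (Pb X 1 (by norm_num)).mul ((Pa X 5 (by norm_num)).mul ((Pb X 6 (by norm_num)).mul
    ((Pa X 10 (by norm_num)).mul ((Pb X 11 (by norm_num)).mul ((Pa X 11 (by norm_num)).mul (Pb X 10 (by norm_num)))))))

theorem m11 : P X (m X) 11 1 :=
  (Pb X 0 (by norm_num)).mul ((Pa X 0 (by norm_num)).mul ((Pb X 1 (by norm_num)).mul
    ((Pa X 5 (by norm_num)).mul ((Pb X 6 (by norm_num)).mul ((Pa X 10 (by norm_num)).mul (Pb X 11 (by norm_num)))))))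

theorem x_zero (r : ℕ) (hr : r < 12) : X.x r 0 = 1 := by
  have h := X.add r hr 0 0
  rw [add_zero] at h
  exact (mul_eq_left.1 h.symm)

theorem x_neg (r : ℕ) (hr : r < 12) (t : F) : X.x r (-t) = (X.x r t)⁻¹ := by
  have h := X.add r hr t (-t)
  rw [add_neg_cancel, x_zero X r hr] at h
  exact eq_inv_of_mul_eq_one_right h.symm

theorem comm01 (t u : F) : X.x 0 t * X.x 1 u = X.x 1 u * X.x 0 t := by
  obtain ⟨e, he, h1⟩ := m10 X
  obtain ⟨f, hf, h2⟩ := m11 X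
  have hee : e * e = 1 := by rcases he with rfl | rfl <;> simp
  have hff : f * f = 1 := by rcases hf with rfl | rfl <;> simp
  have h3 := h1 (e * t)
  have h4 := h2 (f * u)
  rw [← mul_assoc, hee, one_mul] at h3
  rw [← mul_assoc, hff, one_mul] at h4
  have h5 := X.comm 10 11 (by simp) (e * t) (f * u)
  rw [← h3, ← h4]
  calc m X * X.x 10 (e * t) * (m X)⁻¹ * (m X * X.x 11 (f * u) * (m X)⁻¹)
      = m X * (X.x 10 (e * t) * X.x 11 (f * u)) * (m X)⁻¹ := by group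
    _ = m X * (X.x 11 (f * u) * X.x 10 (e * t)) * (m X)⁻¹ := by rw [h5]
    _ = _ := by group

theorem c60 : ∃ e : F, e * e = 1 ∧ ∀ t u : F, (X.x 6 t)⁻¹ * X.x 0 u * X.x 6 t = X.x 0 u * X.x 1 (e * t * u) := by
  obtain ⟨a, ha, h1⟩ := m6 X
  obtain ⟨b, hb, h2⟩ := m10 X
  obtain ⟨c, hc, h3⟩ := m11 X
  have haa : a * a = 1 := by rcases ha with rfl | rfl <;> simp
  have hbb : b * b = 1 := by rcases hb with rfl | rfl <;> simp
  have hcc : c * c = 1 := by rcases hc with rfl | rfl <;> simp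
  refine ⟨a * b * c, by linear_combination b * b * c * c * haa + c * c * hbb + hcc, fun t u => ?_⟩
  have h4 := h1 (a * t)
  have h5 := h2 (b * u)
  rw [← mul_assoc, haa, one_mul] at h4
  rw [← mul_assoc, hbb, one_mul] at h5
  have h6 := X.c610 (a * t) (b * u)
  have h7 := h3 (a * t * (b * u))
  rw [show a * b * c * t * u = c * (a * t * (b * u)) by ring, ← h7, ← h4, ← h5]
  calc (m X * X.x 6 (a * t) * (m X)⁻¹)⁻¹ * (m X * X.x 10 (b * u) * (m X)⁻¹) * (m X * X.x 6 (a * t) * (m X)⁻¹)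
      = m X * ((X.x 6 (a * t))⁻¹ * X.x 10 (b * u) * X.x 6 (a * t)) * (m X)⁻¹ := by group
    _ = m X * (X.x 10 (b * u) * X.x 11 (a * t * (b * u))) * (m X)⁻¹ := by rw [h6]
    _ = _ := by group

/-- the element `n` of `r10` moves 6 to 11 -/
theorem n611 (s1 t1 : Fˣ) : ∃ c : F, c ≠ 0 ∧
    ∀ u, (X.h s1 t1 * (X.na * X.nb * X.na⁻¹)) * X.x 6 u * (X.h s1 t1 * (X.na * X.nb * X.na⁻¹))⁻¹ = X.x 11 (c * u) := by
  have h1 : P X (X.na * X.nb * X.na⁻¹) 6 11 :=
    ((Pa X 11 (by norm_num)).mul (Pb X 10 (by norm_num))).mul (Pa X 10 (by norm_num)).inv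
  obtain ⟨e, he, h2⟩ := h1
  have hee : e * e = 1 := by rcases he with rfl | rfl <;> simp
  have he0 : e ≠ 0 := fun h => by rw [h, mul_zero] at hee; exact zero_ne_one hee
  refine ⟨((s1 ^ (ca 11) * t1 ^ (cb 11) : Fˣ) : F) * e, mul_ne_zero (Units.ne_zero _) he0, fun u => ?_⟩
  rw [mul_assoc (((s1 ^ (ca 11) * t1 ^ (cb 11) : Fˣ) : F)), ← X.tor s1 t1 11 (by norm_num) (e * u), ← h2]
  group

end group

section lin
variable {F G : Type*} [Field F] [Fintype F] [DecidableEq F] [Group G] {V : Type*} [AddCommGroup V] [Module ℂ V]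
  (X : G2G F G) {ψ : AddChar F ℂ} (ρ : Representation ℂ G V)

theorem mem_T {v : V} : v ∈ J X ψ ρ [(10, 0), (11, 0)] ↔
    (∀ t, ρ (X.x 10 t) v = v) ∧ (∀ t, ρ (X.x 11 t) v = v) := by
  constructor
  · intro h
    refine ⟨fun t => ?_, fun t => ?_⟩
    · have := h (10, 0) (by simp) t
      simpa using this
    · have := h (11, 0) (by simp) t
      simpa using this
  · rintro ⟨h1, h2⟩ p hp t
    simp only [List.mem_cons, List.not_mem_nil, or_false] at hp
    rcases hp with rfl | rfl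
    · simpa using h1 t
    · simpa using h2 t

theorem T6 {v : V} (hv : v ∈ J X ψ ρ [(10, 0), (11, 0)]) (t : F) : ρ (X.x 6 t) v ∈ J X ψ ρ [(10, 0), (11, 0)] := by
  rw [mem_T] at hv ⊢
  refine ⟨fun u => ?_, fun u => ?_⟩
  · have h := X.c610 t u
    have h2 : X.x 10 u * X.x 6 t = X.x 6 t * (X.x 10 u * X.x 11 (t * u)) := by rw [← h]; group
    rw [← Module.End.mul_apply, ← map_mul, h2, map_mul, map_mul, Module.End.mul_apply, Module.End.mul_apply, hv.2, hv.1]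
  · have h := X.comm 6 11 (by simp) t u
    rw [← Module.End.mul_apply, ← map_mul, ← h, map_mul, Module.End.mul_apply, hv.2]

theorem Tnb {v : V} (hv : v ∈ J X ψ ρ [(10, 0), (11, 0)]) {g : G} (h1 : P X g 10 11) (h2 : P X g 11 10) :
    ρ g v ∈ J X ψ ρ [(10, 0), (11, 0)] := by
  rw [mem_T] at hv ⊢
  obtain ⟨e, he, h1⟩ := h1
  obtain ⟨f, hf, h2⟩ := h2
  have hee : e * e = 1 := by rcases he with rfl | rfl <;> simp
  have hff : f * f = 1 := by rcases hf with rfl | rfl <;> simp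
  refine ⟨fun u => ?_, fun u => ?_⟩
  · have h := h2 (f * u)
    rw [← mul_assoc, hff, one_mul] at h
    rw [← Module.End.mul_apply, ← map_mul, ← h, show g * X.x 11 (f * u) * g⁻¹ * g = g * X.x 11 (f * u) by group,
      map_mul, Module.End.mul_apply, hv.2]
  · have h := h1 (e * u)
    rw [← mul_assoc, hee, one_mul] at h
    rw [← Module.End.mul_apply, ← map_mul, ← h, show g * X.x 10 (e * u) * g⁻¹ * g = g * X.x 10 (e * u) by group,
      map_mul, Module.End.mul_apply, hv.1]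

/-- sum over the group `X_10 X_11` -/
noncomputable def E : V →ₗ[ℂ] V := ∑ t : F, ∑ u : F, ρ (X.x 10 t * X.x 11 u)

theorem E_apply (v : V) : E X ρ v = ∑ t : F, ∑ u : F, ρ (X.x 10 t * X.x 11 u) v := by
  simp [E, LinearMap.sum_apply]

theorem E_T {v : V} (hv : v ∈ J X ψ ρ [(10, 0), (11, 0)]) : E X ρ v = ((Fintype.card F * Fintype.card F : ℕ) : ℂ) • v := by
  rw [mem_T] at hv
  rw [E_apply]
  have : ∀ t u : F, ρ (X.x 10 t * X.x 11 u) v = v := by
    intro t u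
    rw [map_mul, Module.End.mul_apply, hv.2, hv.1]
  simp only [this, Finset.sum_const, Finset.card_univ]
  rw [← Nat.cast_smul_eq_nsmul ℂ, ← Nat.cast_smul_eq_nsmul ℂ, smul_smul]
  push_cast
  rfl

theorem E_10 (s : F) (w : V) : E X ρ (ρ (X.x 10 s) w) = E X ρ w := by
  rw [E_apply, E_apply]
  have h1 : ∀ t u : F, ρ (X.x 10 t * X.x 11 u) (ρ (X.x 10 s) w) = ρ (X.x 10 (t + s) * X.x 11 u) w := by
    intro t u
    rw [← Module.End.mul_apply, ← map_mul, X.add 10 (by norm_num), mul_assoc, mul_assoc, X.comm 10 11 (by simp) s u]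
  simp only [h1]
  exact Fintype.sum_equiv (Equiv.addRight s) _ _ (fun t => rfl)

theorem E_nb {g : G} (h1 : P X g 10 11) (h2 : P X g 11 10) (w : V) : E X ρ (ρ g w) = ρ g (E X ρ w) := by
  obtain ⟨e, he, h1⟩ := h1
  obtain ⟨f, hf, h2⟩ := h2
  have hee : e * e = 1 := by rcases he with rfl | rfl <;> simp
  have hff : f * f = 1 := by rcases hf with rfl | rfl <;> simp
  rw [E_apply, E_apply, map_sum]
  simp only [map_sum]
  have h3 : ∀ t u : F, ρ (X.x 10 t * X.x 11 u) (ρ g w) = ρ g (ρ (X.x 10 (e * u) * X.x 11 (f * t)) w) := by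
    intro t u
    rw [← Module.End.mul_apply, ← map_mul, ← Module.End.mul_apply, ← map_mul]
    congr 2
    have h4 := h2 (f * t)
    have h5 := h1 (e * u)
    rw [← mul_assoc, hff, one_mul] at h4
    rw [← mul_assoc, hee, one_mul] at h5
    rw [← h4, ← h5, X.comm 10 11 (by simp) (e * u) (f * t)]
    group
  simp only [h3]
  rw [Finset.sum_comm]
  have he0 : e ≠ 0 := fun h => by rw [h, mul_zero] at hee; exact zero_ne_one hee
  have hf0 : f ≠ 0 := fun h => by rw [h, mul_zero] at hff; exact zero_ne_one hff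
  refine Fintype.sum_equiv (Equiv.mulLeft₀ e he0) _ _ (fun u => ?_)
  exact Fintype.sum_equiv (Equiv.mulLeft₀ f hf0) _ _ (fun t => rfl)

theorem E_6 (r : F) (w : V) : E X ρ (ρ (X.x 6 r) w) = ρ (X.x 6 r) (E X ρ w) := by
  rw [E_apply, E_apply, map_sum]
  simp only [map_sum]
  refine Finset.sum_congr rfl (fun t _ => ?_)
  have h3 : ∀ u : F, ρ (X.x 10 t * X.x 11 u) (ρ (X.x 6 r) w) = ρ (X.x 6 r) (ρ (X.x 10 t * X.x 11 (r * t + u)) w) := by
    intro u
    rw [← Module.End.mul_apply, ← map_mul, ← Module.End.mul_apply, ← map_mul]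
    congr 2
    have h := X.c610 r t
    have h4 := X.comm 6 11 (by simp) r u
    have h5 : X.x 10 t * X.x 6 r = X.x 6 r * (X.x 10 t * X.x 11 (r * t)) := by rw [← h]; group
    rw [X.add 11 (by norm_num), mul_assoc, ← h4, ← mul_assoc, h5]
    simp only [mul_assoc]
  simp only [h3]
  exact Fintype.sum_equiv (Equiv.addLeft (r * t)) _ _ (fun u => rfl)

variable [FiniteDimensional ℂ V]

theorem sum6 (h0 : dj X ψ ρ [(6, 0), (10, 0), (11, 0)] = 0) {v : V} (hv : v ∈ J X ψ ρ [(10, 0), (11, 0)]) :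
    ∑ u : F, ρ (X.x 6 u) v = 0 := by
  have h1 : J X ψ ρ [(6, 0), (10, 0), (11, 0)] = ⊥ := Submodule.finrank_eq_zero.1 h0
  rw [← Submodule.mem_bot ℂ, ← h1]
  have h2 : ∑ u : F, ρ (X.x 6 u) v ∈ J X ψ ρ [(10, 0), (11, 0)] :=
    Submodule.sum_mem _ (fun u _ => T6 X ρ hv u)
  have h3 : ∀ t, ρ (X.x 6 t) (∑ u : F, ρ (X.x 6 u) v) = ∑ u : F, ρ (X.x 6 u) v := by
    intro t
    rw [map_sum]
    refine Fintype.sum_equiv (Equiv.addLeft t) _ _ (fun u => ?_)
    rw [← Module.End.mul_apply, ← map_mul, ← X.add 6 (by norm_num)]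
    rfl
  intro p hp t
  simp only [List.mem_cons, List.not_mem_nil, or_false] at hp
  rcases hp with rfl | rfl | rfl
  · simpa using h3 t
  · exact h2 (10, 0) (by simp) t
  · exact h2 (11, 0) (by simp) t

theorem E_n (h0 : dj X ψ ρ [(6, 0), (10, 0), (11, 0)] = 0) {v : V} (hv : v ∈ J X ψ ρ [(10, 0), (11, 0)])
    {n : G} {c : F} (hc : c ≠ 0) (hn : ∀ u, n * X.x 6 u * n⁻¹ = X.x 11 (c * u)) : E X ρ (ρ n v) = 0 := by
  rw [E_apply]
  refine Finset.sum_eq_zero (fun t _ => ?_)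
  have h1 : ∑ u : F, ρ (X.x 10 t * X.x 11 u) (ρ n v) = ∑ u : F, ρ (X.x 10 t * X.x 11 (c * u)) (ρ n v) :=
    (Fintype.sum_equiv (Equiv.mulLeft₀ c hc) _ _ (fun u => rfl)).symm
  rw [h1]
  have h2 : ∀ u : F, ρ (X.x 10 t * X.x 11 (c * u)) (ρ n v) = ρ (X.x 10 t * n) (ρ (X.x 6 u) v) := by
    intro u
    rw [← hn u, ← Module.End.mul_apply, ← map_mul, ← Module.End.mul_apply, ← map_mul]
    congr 2
    group
  simp only [h2]
  rw [← map_sum, sum6 X ρ h0 hv, map_zero]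

theorem E_1 (h0 : dj X ψ ρ [(6, 0), (10, 0), (11, 0)] = 0) {v : V} (hv : v ∈ J X ψ ρ [(10, 0), (11, 0)])
    {t : F} (ht : t ≠ 0) : E X ρ (ρ (X.x 1 t) v) = 0 := by
  obtain ⟨n, hn, s1, t1, rfl⟩ := X.r10 t ht
  obtain ⟨c, hc, h1⟩ := n611 X s1 t1
  rw [hn, map_mul, map_mul, Module.End.mul_apply, Module.End.mul_apply, E_10, ((mem_T X ρ).1 hv).1]
  exact E_n X ρ h0 hv hc h1

theorem E_0 (h0 : dj X ψ ρ [(6, 0), (10, 0), (11, 0)] = 0) {v : V} (hv : v ∈ J X ψ ρ [(10, 0), (11, 0)])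
    {s : F} (hs : s ≠ 0) : E X ρ (ρ (X.x 0 s) v) = 0 := by
  have h1 : P X X.nb 10 11 := Pb X 10 (by norm_num)
  have h2 : P X X.nb 11 10 := Pb X 11 (by norm_num)
  obtain ⟨e, he, h3⟩ := Pb X 1 (by norm_num)
  have hee : e * e = 1 := by rcases he with rfl | rfl <;> simp
  have he0 : e ≠ 0 := fun h => by rw [h, mul_zero] at hee; exact zero_ne_one hee
  have h4 := h3 (e * s)
  rw [← mul_assoc, hee, one_mul] at h4
  change X.nb * X.x 1 (e * s) * X.nb⁻¹ = X.x 0 s at h4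
  rw [← h4, map_mul, map_mul, Module.End.mul_apply, Module.End.mul_apply, E_nb X ρ h1 h2,
    E_1 X ρ h0 (Tnb X ρ hv h2.inv h1.inv) (mul_ne_zero he0 hs), map_zero]

theorem E_g (h0 : dj X ψ ρ [(6, 0), (10, 0), (11, 0)] = 0) {v : V} (hv : v ∈ J X ψ ρ [(10, 0), (11, 0)])
    {s t : F} (hst : ¬ (s = 0 ∧ t = 0)) : E X ρ (ρ (X.x 0 s * X.x 1 t) v) = 0 := by
  by_cases hs : s = 0
  · have ht : t ≠ 0 := fun h => hst ⟨hs, h⟩
    rw [hs, x_zero X 0 (by norm_num), one_mul]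
    exact E_1 X ρ h0 hv ht
  · obtain ⟨e, hee, h1⟩ := c60 X
    have h2 := h1 (e * t / s) s
    rw [show e * (e * t / s) * s = t by field_simp; linear_combination t * hee] at h2
    rw [← h2, ← x_neg X 6 (by norm_num), map_mul, map_mul, Module.End.mul_apply, Module.End.mul_apply, E_6,
      E_0 X ρ h0 (T6 X ρ hv _) hs, map_zero]

theorem trans_card (W : Submodule ℂ V) (hW0 : ∀ t, ∀ v ∈ W, ρ (X.x 0 t) v ∈ W)
    (hW1 : ∀ t, ∀ v ∈ W, ρ (X.x 1 t) v ∈ W) (hτ : J X ψ ρ [(10, 0), (11, 0)] ≤ W)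
    (h0 : dj X ψ ρ [(6, 0), (10, 0), (11, 0)] = 0) :
    Fintype.card F ^ 2 * dj X ψ ρ [(10, 0), (11, 0)] ≤ finrank ℂ W := by
  let T := J X ψ ρ [(10, 0), (11, 0)]
  let Φ : (F × F → T) →ₗ[ℂ] V :=
    ∑ p : F × F, (ρ (X.x 0 p.1 * X.x 1 p.2)).comp (T.subtype.comp (LinearMap.proj p))
  have hΦ : ∀ f, Φ f = ∑ p : F × F, ρ (X.x 0 p.1 * X.x 1 p.2) (f p : V) := by
    intro f; simp [Φ, LinearMap.sum_apply]
  have hΦW : ∀ f, Φ f ∈ W := by
    intro f
    rw [hΦ]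
    refine Submodule.sum_mem _ (fun p _ => ?_)
    rw [map_mul, Module.End.mul_apply]
    exact hW0 _ _ (hW1 _ _ (hτ (f p).2))
  have h10 : ∀ a b : G, ∀ v, ρ a (ρ b v) = ρ (a * b) v := fun a b v => by rw [map_mul]; rfl
  have hinj : Function.Injective Φ := by
    rw [← LinearMap.ker_eq_bot, LinearMap.ker_eq_bot']
    intro f hf
    funext p0
    have h1 : E X ρ (ρ (X.x 0 p0.1 * X.x 1 p0.2)⁻¹ (Φ f)) = 0 := by rw [hf, map_zero, map_zero]
    rw [hΦ, map_sum, map_sum] at h1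
    have h2 : ∀ p : F × F, p ≠ p0 →
        E X ρ (ρ (X.x 0 p0.1 * X.x 1 p0.2)⁻¹ (ρ (X.x 0 p.1 * X.x 1 p.2) (f p : V))) = 0 := by
      intro p hp
      rw [h10]
      have h3 : (X.x 0 p0.1 * X.x 1 p0.2)⁻¹ * (X.x 0 p.1 * X.x 1 p.2) =
          X.x 0 (p.1 - p0.1) * X.x 1 (p.2 - p0.2) := by
        rw [mul_inv_rev, ← x_neg X 1 (by norm_num), ← x_neg X 0 (by norm_num), sub_eq_neg_add, sub_eq_neg_add,
          X.add 0 (by norm_num), X.add 1 (by norm_num)]
        have h5 := comm01 X (-p0.1 + p.1) (-p0.2)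
        rw [X.add 0 (by norm_num)] at h5
        calc X.x 1 (-p0.2) * X.x 0 (-p0.1) * (X.x 0 p.1 * X.x 1 p.2)
            = (X.x 1 (-p0.2) * (X.x 0 (-p0.1) * X.x 0 p.1)) * X.x 1 p.2 := by group
          _ = ((X.x 0 (-p0.1) * X.x 0 p.1) * X.x 1 (-p0.2)) * X.x 1 p.2 := by rw [h5]
          _ = _ := by group
      rw [h3]
      refine E_g X ρ h0 (f p).2 ?_
      rintro ⟨h4, h5⟩
      exact hp (Prod.ext (sub_eq_zero.1 h4) (sub_eq_zero.1 h5))
    rw [Finset.sum_eq_single p0 (fun p _ hp => h2 p hp) (by simp)] at h1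
    rw [h10, inv_mul_cancel, map_one, Module.End.one_apply, E_T X ρ (f p0).2] at h1
    rcases smul_eq_zero.1 h1 with h6 | h6
    · exfalso
      have h7 : 0 < Fintype.card F := Fintype.card_pos
      have h8 : Fintype.card F * Fintype.card F = 0 := by exact_mod_cast h6
      have h9 := Nat.mul_pos h7 h7
      omega
    · exact Subtype.ext h6
  have h1 : finrank ℂ (F × F → T) ≤ finrank ℂ W := by
    refine LinearMap.finrank_le_finrank_of_injective (f := Φ.codRestrict W hΦW) ?_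
    intro a b hab
    exact hinj (congrArg Subtype.val hab)
  rw [Module.finrank_pi_fintype, Finset.sum_const, Finset.card_univ, Fintype.card_prod, smul_eq_mul] at h1
  calc Fintype.card F ^ 2 * dj X ψ ρ [(10, 0), (11, 0)] = Fintype.card F * Fintype.card F * finrank ℂ T := by
        rw [pow_two]; rfl
    _ ≤ _ := h1

end lin

end Cfsg.Agent.G2M.B1t
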