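import Mathlib
import Cfsg.Agent.G2M.Def
import Cfsg.Agent.G2M.B1t

/-! The space of vectors fixed by the root subgroups 10 and 11: scalar action of the centralizer. -/

set_option autoImplicit false
set_option linter.all false

namespace Cfsg.Agent.G2M.B1u

open Module Finset Cfsg.Agent.G2M Cfsg.Agent.G2M.B1t

variable {F G : Type*} [Field F] [Fintype F] [DecidableEq F] [Group G] {V : Type*} [AddCommGroup V] [Module ℂ V]
  [FiniteDimensional ℂ V] (X : G2G F G) {ψ : AddChar F ℂ} (ρ : Representation ℂ G V)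

theorem mem3 {b : F} {v : V} : v ∈ J X ψ ρ [(6, b), (10, 0), (11, 0)] ↔
    (∀ t, ρ (X.x 6 t) v = ψ (b * t) • v) ∧ v ∈ J X ψ ρ [(10, 0), (11, 0)] := by
  constructor
  · intro h
    exact ⟨fun t => h (6, b) (List.mem_cons_self ..) t, fun p hp => h p (List.mem_cons_of_mem _ hp)⟩
  · rintro ⟨h1, h2⟩ p hp t
    rcases List.mem_cons.1 hp with rfl | hp
    · exact h1 t
    · exact h2 p hp t

theorem T_h {v : V} (hv : v ∈ J X ψ ρ [(10, 0), (11, 0)]) (s t : Fˣ) : ρ (X.h s t) v ∈ J X ψ ρ [(10, 0), (11, 0)] := by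
  rw [mem_T] at hv ⊢
  refine ⟨fun u => ?_, fun u => ?_⟩
  · have h := X.tor s t 10 (by norm_num) (((s ^ (ca 10) * t ^ (cb 10) : Fˣ)⁻¹ : Fˣ) * u)
    rw [← mul_assoc, ← Units.val_mul, mul_inv_cancel, Units.val_one, one_mul] at h
    have h2 : X.x 10 u * X.h s t = X.h s t * X.x 10 (((s ^ (ca 10) * t ^ (cb 10) : Fˣ)⁻¹ : Fˣ) * u) := by
      rw [← h]; group
    rw [← Module.End.mul_apply, ← map_mul, h2, map_mul, Module.End.mul_apply, hv.1]
  · have h := X.tor s t 11 (by norm_num) (((s ^ (ca 11) * t ^ (cb 11) : Fˣ)⁻¹ : Fˣ) * u)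
    rw [← mul_assoc, ← Units.val_mul, mul_inv_cancel, Units.val_one, one_mul] at h
    have h2 : X.x 11 u * X.h s t = X.h s t * X.x 11 (((s ^ (ca 11) * t ^ (cb 11) : Fˣ)⁻¹ : Fˣ) * u) := by
      rw [← h]; group
    rw [← Module.End.mul_apply, ← map_mul, h2, map_mul, Module.End.mul_apply, hv.2]

theorem tau_le (hψ : ψ ≠ 0) (A : V →ₗ[ℂ] V) (h6 : ∀ t v, A (ρ (X.x 6 t) v) = ρ (X.x 6 t) (A v))
    (h10 : ∀ t v, A (ρ (X.x 10 t) v) = ρ (X.x 10 t) (A v)) (h11 : ∀ t v, A (ρ (X.x 11 t) v) = ρ (X.x 11 t) (A v))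
    (hh : ∀ s t v, A (ρ (X.h s t) v) = ρ (X.h s t) (A v))
    (h1 : ∀ b, b ≠ 0 → dj X ψ ρ [(6, b), (10, 0), (11, 0)] = 1)
    (h0 : dj X ψ ρ [(6, 0), (10, 0), (11, 0)] = 0) :
    ∃ c : ℂ, ∀ v ∈ J X ψ ρ [(10, 0), (11, 0)], A v = c • v := by
  have hprim : ψ.IsPrimitive := AddChar.IsPrimitive.of_ne_one hψ
  have hq : (Fintype.card F : ℂ) ≠ 0 := by exact_mod_cast Fintype.card_ne_zero
  have hAT : ∀ v ∈ J X ψ ρ [(10, 0), (11, 0)], A v ∈ J X ψ ρ [(10, 0), (11, 0)] := by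
    intro v hv
    rw [mem_T] at hv ⊢
    exact ⟨fun t => by rw [← h10, hv.1], fun t => by rw [← h11, hv.2]⟩
  obtain ⟨⟨v1, hv1⟩, hv10, hsp1⟩ := finrank_eq_one_iff'.1 (h1 1 one_ne_zero)
  have hv10' : v1 ≠ 0 := fun h => hv10 (Subtype.ext h)
  have hAv1 : A v1 ∈ J X ψ ρ [(6, 1), (10, 0), (11, 0)] := by
    rw [mem3] at hv1 ⊢
    exact ⟨fun t => by rw [← h6, hv1.1, map_smul], hAT _ hv1.2⟩
  obtain ⟨c, hc⟩ := hsp1 ⟨A v1, hAv1⟩
  have hc' : A v1 = c • v1 := (congrArg Subtype.val hc).symm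
  refine ⟨c, ?_⟩
  have hb : ∀ b, ∀ v ∈ J X ψ ρ [(6, b), (10, 0), (11, 0)], A v = c • v := by
    intro b v hv
    by_cases hb0 : b = 0
    · subst hb0
      have h2 : J X ψ ρ [(6, 0), (10, 0), (11, 0)] = ⊥ := Submodule.finrank_eq_zero.1 h0
      rw [h2, Submodule.mem_bot] at hv
      rw [hv, map_zero, smul_zero]
    · let t : Fˣ := (Units.mk0 b hb0)⁻¹
      have htb : (t : F) * b = 1 := by
        show ((Units.mk0 b hb0)⁻¹ : Fˣ) * b = 1
        rw [Units.val_inv_eq_inv_val, Units.val_mk0, inv_mul_cancel₀ hb0]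
      let w := ρ (X.h 1 t) v1
      have hw : w ∈ J X ψ ρ [(6, b), (10, 0), (11, 0)] := by
        rw [mem3] at hv1 ⊢
        refine ⟨fun u => ?_, T_h X ρ hv1.2 1 t⟩
        have h := X.tor 1 t 6 (by norm_num) (b * u)
        have h2 : (((1 : Fˣ) ^ (ca 6) * t ^ (cb 6) : Fˣ) : F) * (b * u) = u := by
          have : cb 6 = 1 := rfl
          rw [this, one_zpow, one_mul, zpow_one, ← mul_assoc, htb, one_mul]
        rw [h2] at h
        have h3 : X.x 6 u * X.h 1 t = X.h 1 t * X.x 6 (b * u) := by rw [← h]; group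
        show ρ (X.x 6 u) (ρ (X.h 1 t) v1) = ψ (b * u) • ρ (X.h 1 t) v1
        rw [← Module.End.mul_apply, ← map_mul, h3, map_mul, Module.End.mul_apply, hv1.1, one_mul, map_smul]
      have hw0 : w ≠ 0 := by
        intro h
        apply hv10'
        have h2 : ρ (X.h 1 t)⁻¹ w = 0 := by rw [h, map_zero]
        have h3 : ρ (X.h 1 t)⁻¹ w = v1 := by
          show ρ (X.h 1 t)⁻¹ (ρ (X.h 1 t) v1) = v1
          rw [← Module.End.mul_apply, ← map_mul, inv_mul_cancel, map_one, Module.End.one_apply]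
        rw [← h3, h2]
      have hAw : A w = c • w := by
        show A (ρ (X.h 1 t) v1) = c • ρ (X.h 1 t) v1
        rw [hh, hc', map_smul]
      obtain ⟨d, hd⟩ := exists_smul_eq_of_finrank_eq_one (h1 b hb0) (x := ⟨w, hw⟩)
        (fun h => hw0 (congrArg Subtype.val h)) ⟨v, hv⟩
      have hd' : v = d • w := (congrArg Subtype.val hd).symm
      rw [hd', map_smul, hAw, smul_comm]
  intro v hv
  let e : F → V := fun b => ∑ t : F, ψ (-(b * t)) • ρ (X.x 6 t) v
  have he : ∀ b, e b ∈ J X ψ ρ [(6, b), (10, 0), (11, 0)] := by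
    intro b
    rw [mem3]
    constructor
    · intro u
      show ρ (X.x 6 u) (∑ t : F, ψ (-(b * t)) • ρ (X.x 6 t) v) = ψ (b * u) • ∑ t : F, ψ (-(b * t)) • ρ (X.x 6 t) v
      rw [map_sum, Finset.smul_sum (r := ψ (b * u))]
      refine Fintype.sum_equiv (Equiv.addLeft u) _ _ fun t => ?_
      show ρ (X.x 6 u) (ψ (-(b * t)) • ρ (X.x 6 t) v) = ψ (b * u) • ψ (-(b * (u + t))) • ρ (X.x 6 (u + t)) v
      rw [map_smul, X.add 6 (by norm_num), map_mul ρ, smul_smul, ← AddChar.map_add_eq_mul]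
      have : b * u + -(b * (u + t)) = -(b * t) := by ring
      rw [this]; rfl
    · exact Submodule.sum_mem _ fun t _ => Submodule.smul_mem _ _ (T6 X ρ hv t)
  have hsum : ∑ b : F, e b = (Fintype.card F : ℂ) • v := by
    show ∑ b : F, ∑ t : F, ψ (-(b * t)) • ρ (X.x 6 t) v = _
    rw [Finset.sum_comm]
    have h2 : ∀ t : F, ∑ c : F, ψ (-(c * t)) • ρ (X.x 6 t) v = (if t = 0 then (Fintype.card F : ℂ) else 0) • ρ (X.x 6 t) v := by
      intro t
      rw [← Finset.sum_smul]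
      congr 1
      have h3 := AddChar.sum_mulShift (-t) hprim
      have h4 : ∀ c : F, ψ (-(c * t)) = ψ (c * -t) := fun c => by congr 1; ring
      rw [Finset.sum_congr rfl fun c _ => h4 c, h3]
      by_cases ht : t = 0
      · rw [if_pos ht, if_pos (by rw [ht, neg_zero])]
      · rw [if_neg ht, if_neg (neg_ne_zero.2 ht)]; simp
    rw [Finset.sum_congr rfl fun t _ => h2 t, Finset.sum_eq_single (0 : F)]
    · rw [if_pos rfl, x_zero X 6 (by norm_num), map_one, Module.End.one_apply]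
    · intro t _ ht; rw [if_neg ht, zero_smul]
    · intro h; exact absurd (Finset.mem_univ _) h
  have h5 : (Fintype.card F : ℂ) • A v = (Fintype.card F : ℂ) • (c • v) := by
    rw [← map_smul, ← hsum, map_sum, smul_comm, ← hsum, Finset.smul_sum]
    exact Finset.sum_congr rfl fun b _ => hb b _ (he b)
  have h6 := congrArg (fun y => (Fintype.card F : ℂ)⁻¹ • y) h5
  simpa [smul_smul, inv_mul_cancel₀ hq] using h6

end Cfsg.Agent.G2M.B1u
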