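import Cfsg.Agent.G2M.Def

set_option autoImplicit false

/-! S2338, dimension of a subspace on which the long root group 11 is nontrivial. -/

namespace Cfsg.Agent.G2M

open Module Finset

variable {F G : Type*} [Field F] [Fintype F] [DecidableEq F] [Group G] {V : Type*} [AddCommGroup V] [Module ℂ V] [FiniteDimensional ℂ V]
  (X : G2G F G) {ψ : AddChar F ℂ} (ρ : Representation ℂ G V)

namespace BV

omit [FiniteDimensional ℂ V] in
theorem mul_ap (a b : G) (v : V) : ρ (a * b) v = ρ a (ρ b v) := by rw [map_mul]; rfl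

variable (ψ) in
/-- projection -/
noncomputable def pr (s : ℕ) (c : F) : V →ₗ[ℂ] V :=
  (Fintype.card F : ℂ)⁻¹ • ∑ t : F, ψ (-(c * t)) • ρ (X.x s t)

omit [DecidableEq F] [FiniteDimensional ℂ V] in
theorem pr_apply (s : ℕ) (c : F) (v : V) : pr X ψ ρ s c v =
    (Fintype.card F : ℂ)⁻¹ • ∑ t : F, ψ (-(c * t)) • ρ (X.x s t) v := by
  rw [pr, LinearMap.smul_apply, LinearMap.sum_apply]
  rfl

omit [DecidableEq F] [FiniteDimensional ℂ V] in
theorem pr_mem {s : ℕ} (hs : s < 12) (c : F) (v : V) (u : F) :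
    ρ (X.x s u) (pr X ψ ρ s c v) = ψ (c * u) • pr X ψ ρ s c v := by
  rw [pr_apply]
  rw [map_smul, map_sum, smul_comm (ψ (c * u)), Finset.smul_sum (r := ψ (c * u))]
  congr 1
  refine Fintype.sum_equiv (Equiv.addLeft u) _ _ fun t => ?_
  show ρ (X.x s u) (ψ (-(c * t)) • ρ (X.x s t) v) = ψ (c * u) • ψ (-(c * (u + t))) • ρ (X.x s (u + t)) v
  rw [map_smul, X.add s hs, map_mul ρ, smul_smul, ← AddChar.map_add_eq_mul]
  have : c * u + -(c * (u + t)) = -(c * t) := by ring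
  rw [this]; rfl

omit [DecidableEq F] [FiniteDimensional ℂ V] in
theorem pr_W {s : ℕ} (W : Submodule ℂ V) (hst : ∀ t, ∀ v ∈ W, ρ (X.x s t) v ∈ W) (c : F) (v : V) (hv : v ∈ W) :
    pr X ψ ρ s c v ∈ W := by
  rw [pr_apply]
  exact Submodule.smul_mem _ _ (Submodule.sum_mem _ fun t _ => Submodule.smul_mem _ _ (hst t v hv))

omit [FiniteDimensional ℂ V] in
theorem pr_eig (hψ : ψ ≠ 0) {s : ℕ} (c d : F) (v : V) (hv : ∀ t, ρ (X.x s t) v = ψ (d * t) • v) :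
    pr X ψ ρ s c v = if d = c then v else 0 := by
  have hprim : ψ.IsPrimitive := AddChar.IsPrimitive.of_ne_one hψ
  have hq : (Fintype.card F : ℂ) ≠ 0 := by
    exact_mod_cast Fintype.card_ne_zero
  rw [pr_apply]
  have h2 : ∀ t, ψ (-(c * t)) • ρ (X.x s t) v = ψ (t * (d - c)) • v := by
    intro t
    rw [hv, smul_smul, ← AddChar.map_add_eq_mul]
    congr 2; ring
  rw [Finset.sum_congr rfl fun t _ => h2 t, ← Finset.sum_smul, AddChar.sum_mulShift _ hprim]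
  by_cases h : d = c
  · rw [if_pos h, if_pos (sub_eq_zero.2 h), smul_smul, inv_mul_cancel₀ hq, one_smul]
  · rw [if_neg h, if_neg (sub_ne_zero.2 h)]
    simp

omit [FiniteDimensional ℂ V] in
theorem sum_pr (hψ : ψ ≠ 0) {s : ℕ} (hs : s < 12) (v : V) : ∑ c : F, pr X ψ ρ s c v = v := by
  have hprim : ψ.IsPrimitive := AddChar.IsPrimitive.of_ne_one hψ
  have hq : (Fintype.card F : ℂ) ≠ 0 := by
    exact_mod_cast Fintype.card_ne_zero
  have hx0 : X.x s 0 = 1 := by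
    have h := X.add s hs 0 0
    rw [add_zero] at h
    exact (mul_eq_left.1 h.symm)
  rw [Finset.sum_congr rfl fun c _ => pr_apply X ρ s c v]
  rw [← Finset.smul_sum, Finset.sum_comm]
  have h2 : ∀ t : F, ∑ c : F, ψ (-(c * t)) • ρ (X.x s t) v = (if t = 0 then (Fintype.card F : ℂ) else 0) • ρ (X.x s t) v := by
    intro t
    rw [← Finset.sum_smul]
    congr 1
    have h3 := AddChar.sum_mulShift (-t) hprim
    have h4 : ∀ c : F, ψ (-(c * t)) = ψ (c * -t) := fun c => by congr 1; ring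
    rw [Finset.sum_congr rfl fun c _ => h4 c, h3]
    by_cases ht : t = 0
    · rw [if_pos ht, if_pos (by rw [ht, neg_zero])]
    · rw [if_neg ht, if_neg (neg_ne_zero.2 ht)]; simp
  rw [Finset.sum_congr rfl fun t _ => h2 t, Finset.sum_eq_single (0 : F)]
  · rw [if_pos rfl, hx0, map_one, smul_smul, inv_mul_cancel₀ hq, one_smul]; rfl
  · intro t _ ht
    rw [if_neg ht, zero_smul]
  · intro h; exact absurd (Finset.mem_univ _) h

/-- existence of an eigenvector -/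
def E (X : G2G F G) (ψ : AddChar F ℂ) (ρ : Representation ℂ G V) (W : Submodule ℂ V) (e z : F) : Prop :=
  ∃ v ∈ W, v ≠ 0 ∧ (∀ u, ρ (X.x 10 u) v = ψ (e * u) • v) ∧ (∀ u, ρ (X.x 11 u) v = ψ (z * u) • v)

variable {X ρ} {W : Submodule ℂ V}

omit [Fintype F] [DecidableEq F] [FiniteDimensional ℂ V] in
theorem ap_ne (g : G) {v : V} (hv : v ≠ 0) : ρ g v ≠ 0 := by
  intro h
  apply hv
  have h1 : ρ g⁻¹ (ρ g v) = v := by
    rw [← mul_ap, inv_mul_cancel, map_one]; rfl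
  rw [← h1, h, map_zero]

omit [Fintype F] [DecidableEq F] [FiniteDimensional ℂ V] in
theorem E6 (h6 : ∀ t, ∀ v ∈ W, ρ (X.x 6 t) v ∈ W) {e z : F} (h : E X ψ ρ W e z) (t : F) :
    E X ψ ρ W (e + t * z) z := by
  obtain ⟨v, hv, hv0, h10, h11⟩ := h
  refine ⟨ρ (X.x 6 t) v, h6 t v hv, ap_ne _ hv0, fun u => ?_, fun u => ?_⟩
  · have h1 : X.x 10 u * X.x 6 t = X.x 6 t * (X.x 10 u * X.x 11 (t * u)) := by
      rw [← X.c610]; group
    rw [← mul_ap, h1, mul_ap, mul_ap, h11, map_smul, h10, map_smul, map_smul, smul_smul,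
      ← AddChar.map_add_eq_mul]
    congr 2; ring
  · have h1 := X.comm 6 11 (by simp) t u
    rw [← mul_ap, ← h1, mul_ap, h11, map_smul]

omit [Fintype F] [DecidableEq F] [FiniteDimensional ℂ V] in
theorem Eh (hh : ∀ s t, ∀ v ∈ W, ρ (X.h s t) v ∈ W) {e z : F} (h : E X ψ ρ W e z) (c : Fˣ) :
    ∃ e', E X ψ ρ W e' ((c : F) * z) := by
  obtain ⟨v, hv, hv0, h10, h11⟩ := h
  -- s = c⁻¹, t = c : s^3 t^2 = c⁻¹
  have key : ∀ r, r < 12 → ∀ u : F, ∀ d : F, (∀ u, ρ (X.x r u) v = ψ (d * u) • v) →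
      ρ (X.x r u) (ρ (X.h c⁻¹ c) v) =
        ψ ((((c⁻¹ ^ (ca r) * c ^ (cb r) : Fˣ)⁻¹ : Fˣ) : F) * d * u) • ρ (X.h c⁻¹ c) v := by
    intro r hr u d hd
    have h1 := X.tor c⁻¹ c r hr ((((c⁻¹ ^ (ca r) * c ^ (cb r) : Fˣ)⁻¹ : Fˣ) : F) * u)
    rw [← mul_assoc, Units.mul_inv, one_mul] at h1
    have h2 : X.x r u * X.h c⁻¹ c = X.h c⁻¹ c * X.x r ((((c⁻¹ ^ (ca r) * c ^ (cb r) : Fˣ)⁻¹ : Fˣ) : F) * u) := by
      rw [← h1]; group
    rw [← mul_ap, h2, mul_ap, hd, map_smul]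
    congr 2; ring
  refine ⟨_, ρ (X.h c⁻¹ c) v, hh _ _ v hv, ap_ne _ hv0, fun u => key 10 (by norm_num) u e h10, fun u => ?_⟩
  rw [key 11 (by norm_num) u z h11]
  have h3 : (c⁻¹ ^ (ca 11) * c ^ (cb 11) : Fˣ)⁻¹ = c := by
    show (c⁻¹ ^ (3 : ℤ) * c ^ (2 : ℤ) : Fˣ)⁻¹ = c
    group
  rw [h3]

omit [Fintype F] [DecidableEq F] [FiniteDimensional ℂ V] in
theorem Enb (hnb : ∀ v ∈ W, ρ X.nb v ∈ W) {z : F} (hz : z ≠ 0) (h : ∀ z, z ≠ 0 → E X ψ ρ W 0 z) :
    E X ψ ρ W z 0 := by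
  obtain ⟨e1, he1, h1⟩ := X.hnb 10 (by norm_num)
  obtain ⟨e2, he2, h2⟩ := X.hnb 11 (by norm_num)
  have hsq1 : e1 * e1 = 1 := by rcases he1 with rfl | rfl <;> ring
  have hsq2 : e2 * e2 = 1 := by rcases he2 with rfl | rfl <;> ring
  have he20 : e2 ≠ 0 := by rintro rfl; simp at hsq2
  obtain ⟨v, hv, hv0, h10, h11⟩ := h (e2 * z) (mul_ne_zero he20 hz)
  refine ⟨ρ X.nb v, hnb v hv, ap_ne _ hv0, fun u => ?_, fun u => ?_⟩
  · have h3 := h2 (e2 * u)
    have h4 : rb 11 = 10 := rfl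
    rw [h4, ← mul_assoc, hsq2, one_mul] at h3
    have h5 : X.x 10 u * X.nb = X.nb * X.x 11 (e2 * u) := by rw [← h3]; group
    rw [← mul_ap, h5, mul_ap, h11, map_smul]
    congr 2
    calc e2 * z * (e2 * u) = (e2 * e2) * (z * u) := by ring
      _ = z * u := by rw [hsq2, one_mul]
  · have h3 := h1 (e1 * u)
    have h4 : rb 10 = 11 := rfl
    rw [h4, ← mul_assoc, hsq1, one_mul] at h3
    have h5 : X.x 11 u * X.nb = X.nb * X.x 10 (e1 * u) := by rw [← h3]; group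
    rw [← mul_ap, h5, mul_ap, h10, map_smul]
    congr 2
    ring

end BV

open BV in
theorem v1_ge (hψ : ψ ≠ 0) (W : Submodule ℂ V) (h10 : ∀ t, ∀ v ∈ W, ρ (X.x 10 t) v ∈ W)
    (h11 : ∀ t, ∀ v ∈ W, ρ (X.x 11 t) v ∈ W) (h6 : ∀ t, ∀ v ∈ W, ρ (X.x 6 t) v ∈ W)
    (hnb : ∀ v ∈ W, ρ X.nb v ∈ W) (hh : ∀ s t, ∀ v ∈ W, ρ (X.h s t) v ∈ W)
    (hne : ∃ t, ∃ v ∈ W, ρ (X.x 11 t) v ≠ v) : Fintype.card F ^ 2 - 1 ≤ finrank ℂ W := by
  classical
  -- a first eigenvector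
  obtain ⟨e0, z0, hz0, hE0⟩ : ∃ e z, z ≠ 0 ∧ E X ψ ρ W e z := by
    obtain ⟨t, v, hv, hne⟩ := hne
    obtain ⟨z, hz, hpz⟩ : ∃ z, z ≠ 0 ∧ pr X ψ ρ 11 z v ≠ 0 := by
      by_contra hno
      push Not at hno
      apply hne
      have h1 := sum_pr X ρ hψ (s := 11) (by norm_num) v
      rw [Finset.sum_eq_single (0 : F) (fun z _ hz => hno z hz) (fun h => absurd (Finset.mem_univ _) h)] at h1
      have h2 := pr_mem X ρ (ψ := ψ) (s := 11) (by norm_num) 0 v t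
      rw [zero_mul, AddChar.map_zero_eq_one, one_smul, h1] at h2
      exact h2
    obtain ⟨e, he⟩ : ∃ e, pr X ψ ρ 10 e (pr X ψ ρ 11 z v) ≠ 0 := by
      by_contra hno
      push Not at hno
      apply hpz
      rw [← sum_pr X ρ hψ (s := 10) (by norm_num) (pr X ψ ρ 11 z v)]
      exact Finset.sum_eq_zero fun e _ => hno e
    refine ⟨e, z, hz, pr X ψ ρ 10 e (pr X ψ ρ 11 z v), pr_W X ρ W h10 _ _ (pr_W X ρ W h11 _ _ hv), he,
      fun u => pr_mem X ρ (by norm_num) _ _ _, fun u => ?_⟩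
    rw [pr_apply X ρ 10, map_smul, map_sum, smul_comm (ψ (z * u)), Finset.smul_sum (r := ψ (z * u))]
    congr 1
    refine Finset.sum_congr rfl fun a _ => ?_
    have h1 := X.comm 10 11 (by simp) a u
    rw [map_smul, ← mul_ap, ← h1, mul_ap, pr_mem X ρ (by norm_num), map_smul, smul_comm]
  have hE1 : ∀ z, z ≠ 0 → ∀ e, E X ψ ρ W e z := by
    intro z hz e
    obtain ⟨e', he'⟩ := Eh hh hE0 (Units.mk0 (z * z0⁻¹) (mul_ne_zero hz (inv_ne_zero hz0)))
    rw [Units.val_mk0, inv_mul_cancel_right₀ hz0] at he'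
    have h1 := E6 h6 he' ((e - e') * z⁻¹)
    rwa [inv_mul_cancel_right₀ hz, add_sub_cancel] at h1
  have hE : ∀ p : {p : F × F // p ≠ 0}, E X ψ ρ W p.1.1 p.1.2 := by
    rintro ⟨⟨e, z⟩, hp⟩
    by_cases hz : z = 0
    · subst hz
      exact Enb hnb (by rintro rfl; exact hp rfl) (fun z hz => hE1 z hz 0)
    · exact hE1 z hz e
  choose v hvW hv0 hv10 hv11 using hE
  have hli : LinearIndependent ℂ (fun p => (⟨v p, hvW p⟩ : W)) := by
    rw [Fintype.linearIndependent_iff]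
    intro g hg p
    have h1 : ∑ i, g i • v i = 0 := by
      have := congrArg (Subtype.val) hg
      simpa using this
    have h2 := congrArg (fun w => pr X ψ ρ 11 p.1.2 (pr X ψ ρ 10 p.1.1 w)) h1
    simp only [map_sum, map_smul, map_zero] at h2
    rw [Finset.sum_eq_single p] at h2
    · rw [pr_eig X ρ hψ p.1.1 p.1.1 _ (hv10 p), if_pos rfl, pr_eig X ρ hψ p.1.2 p.1.2 _ (hv11 p), if_pos rfl] at h2
      exact (smul_eq_zero.1 h2).resolve_right (hv0 p)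
    · intro i _ hi
      rw [pr_eig X ρ hψ p.1.1 i.1.1 _ (hv10 i)]
      by_cases h3 : i.1.1 = p.1.1
      · rw [if_pos h3, pr_eig X ρ hψ p.1.2 i.1.2 _ (hv11 i), if_neg, smul_zero]
        intro h4
        exact hi (Subtype.ext (Prod.ext h3 h4))
      · rw [if_neg h3, map_zero, smul_zero]
    · intro h; exact absurd (Finset.mem_univ _) h
  have h5 := hli.fintype_card_le_finrank
  rw [Fintype.card_subtype_compl, Fintype.card_subtype_eq, Fintype.card_prod, ← pow_two] at h5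
  exact h5

end Cfsg.Agent.G2M
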