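import Mathlib

set_option autoImplicit false

namespace Cfsg.Agent.G2M
open Module

variable {G V : Type*} [Group G] [AddCommGroup V] [Module ℂ V]

/-- eigenspace of `z` for the eigenvalue `c` -/
def E (ρ : Representation ℂ G V) (z : G) (c : ℂ) : Submodule ℂ V := LinearMap.ker (ρ z - c • (1 : V →ₗ[ℂ] V))

theorem mem_E (ρ : Representation ℂ G V) (z : G) (c : ℂ) (v : V) : v ∈ E ρ z c ↔ ρ z v = c • v := by
  rw [E, LinearMap.mem_ker, LinearMap.sub_apply, LinearMap.smul_apply, Module.End.one_apply, sub_eq_zero]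

theorem E_stable (ρ : Representation ℂ G V) (z : G) (c : ℂ) (g : G) (hg : g * z = z * g) (v : V) (hv : v ∈ E ρ z c) : ρ g v ∈ E ρ z c := by
  rw [mem_E] at hv ⊢
  rw [← Module.End.mul_apply, ← map_mul, ← hg, map_mul, Module.End.mul_apply, hv, map_smul]

theorem E_eq_eigenspace (ρ : Representation ℂ G V) (z : G) (c : ℂ) : E ρ z c = Module.End.eigenspace (ρ z) c := by
  ext v
  rw [mem_E, Module.End.mem_eigenspace_iff]

theorem z3_le [FiniteDimensional ℂ V] (ρ : Representation ℂ G V) (z : G) {ω : ℂ} (h3 : ω ^ 3 = 1) (h1 : ω ≠ 1) :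
    finrank ℂ (E ρ z 1) + finrank ℂ (E ρ z ω) + finrank ℂ (E ρ z (ω ^ 2)) ≤ finrank ℂ V := by
  have h0 : ω ≠ 0 := by rintro rfl; norm_num at h3
  have h2 : ω ^ 2 ≠ 1 := by
    intro h
    apply h1
    calc ω = ω ^ 2 * ω := by rw [h, one_mul]
      _ = ω ^ 3 := by ring
      _ = 1 := h3
  have h4 : ω ^ 2 ≠ ω := by
    intro h
    apply h1
    have h5 : ω * ω = ω * 1 := by rw [mul_one, ← pow_two, h]
    exact mul_left_cancel₀ h0 h5
  have hd1 : E ρ z 1 ⊓ E ρ z ω = ⊥ := by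
    rw [eq_bot_iff]
    intro v hv
    have h5 := (mem_E _ _ _ _).1 hv.1
    have h6 := (mem_E _ _ _ _).1 hv.2
    rw [h5] at h6
    have h7 : (1 - ω) • v = 0 := by rw [sub_smul, h6, sub_self]
    exact (smul_eq_zero.1 h7).resolve_left (sub_ne_zero.2 (Ne.symm h1))
  have hd2 : (E ρ z 1 ⊔ E ρ z ω) ⊓ E ρ z (ω ^ 2) = ⊥ := by
    rw [eq_bot_iff]
    intro v hv
    obtain ⟨a, ha, b, hb, hab⟩ := Submodule.mem_sup.1 hv.1
    have h5 := (mem_E _ _ _ _).1 ha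
    have h6 := (mem_E _ _ _ _).1 hb
    have h7 := (mem_E _ _ _ _).1 hv.2
    have h8 : (1 : ℂ) • a + ω • b = ω ^ 2 • (a + b) := by
      rw [hab, ← h7, ← hab, map_add, h5, h6]
    have h9 : (1 - ω ^ 2) • a + (ω - ω ^ 2) • b = 0 := by
      have : (1 - ω ^ 2) • a + (ω - ω ^ 2) • b = (1 : ℂ) • a + ω • b - ω ^ 2 • (a + b) := by module
      rw [this, h8, sub_self]
    have h10 : (1 - ω ^ 2) • a = 0 ∧ (ω - ω ^ 2) • b = 0 := by
      have h11 : (1 - ω ^ 2) • a ∈ E ρ z 1 ⊓ E ρ z ω := by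
        refine ⟨Submodule.smul_mem _ _ ha, ?_⟩
        have h12 : (1 - ω ^ 2) • a = -((ω - ω ^ 2) • b) := eq_neg_of_add_eq_zero_left h9
        rw [h12]
        exact Submodule.neg_mem _ (Submodule.smul_mem _ _ hb)
      rw [hd1] at h11
      have h12 : (1 - ω ^ 2) • a = 0 := h11
      rw [h12, zero_add] at h9
      exact ⟨h12, h9⟩
    have ha0 : a = 0 := (smul_eq_zero.1 h10.1).resolve_left (sub_ne_zero.2 (Ne.symm h2))
    have hb0 : b = 0 := (smul_eq_zero.1 h10.2).resolve_left (sub_ne_zero.2 (Ne.symm h4))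
    rw [← hab, ha0, hb0, add_zero]
    exact Submodule.zero_mem _
  have e1 := Submodule.finrank_sup_add_finrank_inf_eq (E ρ z 1) (E ρ z ω)
  have e2 := Submodule.finrank_sup_add_finrank_inf_eq (E ρ z 1 ⊔ E ρ z ω) (E ρ z (ω ^ 2))
  rw [hd1, finrank_bot] at e1
  rw [hd2, finrank_bot] at e2
  have e3 := Submodule.finrank_le (E ρ z 1 ⊔ E ρ z ω ⊔ E ρ z (ω ^ 2))
  omega

theorem z3_map (ρ : Representation ℂ G V) (z n : G) (hn : n * z * n⁻¹ = z⁻¹) {c d : ℂ} (hcd : c * d = 1) (v : V) (hv : v ∈ E ρ z c) :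
    ρ n v ∈ E ρ z d := by
  rw [mem_E] at hv ⊢
  have h1 : z * n = n * z⁻¹ := by
    have h2 : n * z⁻¹ * n⁻¹ = z := by
      have h3 := congrArg (·⁻¹) hn
      simp only [mul_inv_rev, inv_inv] at h3
      rw [mul_assoc]; exact h3
    calc z * n = (n * z⁻¹ * n⁻¹) * n := by rw [h2]
      _ = n * z⁻¹ := by group
  have hd : ρ z⁻¹ v = d • v := by
    have h4 : ρ z⁻¹ (ρ z v) = v := by
      rw [← Module.End.mul_apply, ← map_mul, inv_mul_cancel, map_one, Module.End.one_apply]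
    rw [hv, map_smul] at h4
    calc ρ z⁻¹ v = (c * d) • ρ z⁻¹ v := by rw [hcd, one_smul]
      _ = d • (c • ρ z⁻¹ v) := by rw [smul_smul, mul_comm]
      _ = d • v := by rw [h4]
  rw [← Module.End.mul_apply, ← map_mul, h1, map_mul, Module.End.mul_apply, hd, map_smul]

theorem z3_le_of_map [FiniteDimensional ℂ V] (ρ : Representation ℂ G V) (n : G) (W W' : Submodule ℂ V) (h : ∀ v ∈ W, ρ n v ∈ W') :
    finrank ℂ W ≤ finrank ℂ W' := by
  let f : W →ₗ[ℂ] W' := (ρ n).restrict h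
  apply LinearMap.finrank_le_finrank_of_injective (f := f)
  intro a b hab
  have h1 : ρ n a = ρ n b := congrArg Subtype.val hab
  have h2 := congrArg (ρ n⁻¹) h1
  rw [← Module.End.mul_apply, ← Module.End.mul_apply, ← map_mul, inv_mul_cancel, map_one, Module.End.one_apply, Module.End.one_apply] at h2
  exact Subtype.ext h2

theorem z3_eq [FiniteDimensional ℂ V] (ρ : Representation ℂ G V) (z n : G) (hn : n * z * n⁻¹ = z⁻¹) {ω : ℂ} (h3 : ω ^ 3 = 1) :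
    finrank ℂ (E ρ z ω) = finrank ℂ (E ρ z (ω ^ 2)) :=
  le_antisymm (z3_le_of_map ρ n _ _ (z3_map ρ z n hn (by rw [← h3]; ring)))
    (z3_le_of_map ρ n _ _ (z3_map ρ z n hn (by rw [← h3]; ring)))

theorem z3_top (ρ : Representation ℂ G V) (z : G) (hz : z ^ 3 = 1) {ω : ℂ} (h3 : ω ^ 3 = 1) (h1 : ω ≠ 1) :
    E ρ z 1 ⊔ E ρ z ω ⊔ E ρ z (ω ^ 2) = ⊤ := by
  have hs : 1 + ω + ω ^ 2 = 0 := by
    have h4 : (ω - 1) * (1 + ω + ω ^ 2) = 0 := by
      have : (ω - 1) * (1 + ω + ω ^ 2) = ω ^ 3 - 1 := by ring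
      rw [this, h3, sub_self]
    exact (mul_eq_zero.1 h4).resolve_left (sub_ne_zero.2 h1)
  have hz3 : ∀ v, ρ z (ρ z (ρ z v)) = v := by
    intro v
    rw [← Module.End.mul_apply, ← Module.End.mul_apply, ← map_mul, ← map_mul]
    have : z * z * z = 1 := by rw [← hz, pow_succ, pow_two]
    rw [this, map_one, Module.End.one_apply]
  have key : ∀ c : ℂ, c ^ 3 = 1 → ∀ v : V, (1 / 3 : ℂ) • (v + c ^ 2 • ρ z v + c • ρ z (ρ z v)) ∈ E ρ z c := by
    intro c hc v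
    rw [mem_E, map_smul, map_add, map_add, map_smul, map_smul, hz3, smul_comm c]
    congr 1
    have h5 : c • (v + c ^ 2 • ρ z v + c • ρ z (ρ z v)) = c • v + c ^ 3 • ρ z v + c ^ 2 • ρ z (ρ z v) := by module
    rw [h5, hc]
    module
  rw [eq_top_iff]
  intro v _
  have k1 := key 1 (one_pow 3) v
  have k2 := key ω h3 v
  have k3 := key (ω ^ 2) (by rw [← pow_mul, mul_comm, pow_mul, h3, one_pow]) v
  have h6 : v = (1 / 3 : ℂ) • (v + (1:ℂ) ^ 2 • ρ z v + (1:ℂ) • ρ z (ρ z v)) + (1 / 3 : ℂ) • (v + ω ^ 2 • ρ z v + ω • ρ z (ρ z v)) +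
      (1 / 3 : ℂ) • (v + (ω ^ 2) ^ 2 • ρ z v + ω ^ 2 • ρ z (ρ z v)) := by
    have h7 : (ω ^ 2) ^ 2 = ω := by
      calc (ω ^ 2) ^ 2 = ω ^ 3 * ω := by ring
        _ = ω := by rw [h3, one_mul]
    rw [h7]
    have h8 : (1 / 3 : ℂ) • (v + (1:ℂ) ^ 2 • ρ z v + (1:ℂ) • ρ z (ρ z v)) + (1 / 3 : ℂ) • (v + ω ^ 2 • ρ z v + ω • ρ z (ρ z v)) +
      (1 / 3 : ℂ) • (v + ω • ρ z v + ω ^ 2 • ρ z (ρ z v)) = v + ((1 / 3 : ℂ) * (1 + ω + ω ^ 2)) • ρ z v + ((1 / 3 : ℂ) * (1 + ω + ω ^ 2)) • ρ z (ρ z v) := by module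
    rw [h8, hs, mul_zero, zero_smul, zero_smul, add_zero, add_zero]
  rw [h6]
  exact Submodule.add_mem _ (Submodule.add_mem _ (Submodule.mem_sup_left (Submodule.mem_sup_left k1))
    (Submodule.mem_sup_left (Submodule.mem_sup_right k2))) (Submodule.mem_sup_right k3)

end Cfsg.Agent.G2M
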