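import Mathlib
import Cfsg.Agent.G2M.Def
import Cfsg.Agent.G2M.R
import Cfsg.Agent.G2M.Z3
import Cfsg.Agent.G2M.BV
import Cfsg.Agent.G2M.B1t
import Cfsg.Agent.G2M.B1u

/-! Piece B1 (final count). -/

set_option autoImplicit false
set_option linter.all false

namespace Cfsg.Agent.G2M.B1f

open Module Finset Cfsg.Agent.G2M Cfsg.Agent.G2M.B1t Cfsg.Agent.G2M.B1u

variable {F G : Type*} [Field F] [Fintype F] [DecidableEq F] [Group G] {V : Type*} [AddCommGroup V] [Module ℂ V]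
  [FiniteDimensional ℂ V] (X : G2G F G) {ψ : AddChar F ℂ} (ρ : Representation ℂ G V)

theorem h_one : X.h 1 1 = 1 := by
  have h := X.h_mul 1 1 1 1
  rw [mul_one] at h
  exact (mul_eq_left.1 h.symm)

theorem z_cube {w : Fˣ} (hw : w ^ 3 = 1) : (X.h w 1) ^ 3 = 1 := by
  rw [pow_succ, pow_two, ← X.h_mul, ← X.h_mul, mul_one, mul_one, ← pow_two, ← pow_succ, hw, h_one]

theorem z_na {w : Fˣ} (hw : w ^ 3 = 1) : X.na * X.h w 1 * X.na⁻¹ = (X.h w 1)⁻¹ := by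
  rw [X.na_h, hw, mul_one]
  refine eq_inv_of_mul_eq_one_left ?_
  rw [← X.h_mul, inv_mul_cancel, mul_one, h_one]

theorem z_nb {w : Fˣ} : X.nb * X.h w 1 = X.h w 1 * X.nb := by
  have h := X.nb_h w 1
  rw [mul_one, inv_one] at h
  calc X.nb * X.h w 1 = (X.nb * X.h w 1 * X.nb⁻¹) * X.nb := by group
    _ = X.h w 1 * X.nb := by rw [h]

theorem z_h {w : Fˣ} (s t : Fˣ) : X.h s t * X.h w 1 = X.h w 1 * X.h s t := by
  rw [← X.h_mul, ← X.h_mul, mul_comm s w, mul_comm t 1]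

theorem z_x {w : Fˣ} (hw : w ^ 3 = 1) {r : ℕ} (hr : r = 0 ∨ r = 1 ∨ r = 6 ∨ r = 10 ∨ r = 11) (u : F) :
    X.x r u * X.h w 1 = X.h w 1 * X.x r u := by
  have h3 : w ^ (3 : ℤ) = 1 := by exact_mod_cast hw
  have h3' : w ^ (-3 : ℤ) = 1 := by rw [zpow_neg, h3, inv_one]
  have key : ∀ r : ℕ, r < 12 → w ^ (ca r) = 1 → X.x r u * X.h w 1 = X.h w 1 * X.x r u := by
    intro r hr hc
    have h := X.tor w 1 r hr u
    rw [hc, one_zpow, mul_one, Units.val_one, one_mul] at h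
    calc X.x r u * X.h w 1 = (X.h w 1 * X.x r u * (X.h w 1)⁻¹) * X.h w 1 := by rw [h]
      _ = _ := by group
  rcases hr with rfl | rfl | rfl | rfl | rfl
  · exact key 0 (by norm_num) h3'
  · exact key 1 (by norm_num) h3'
  · exact key 6 (by norm_num) (by show w ^ (0 : ℤ) = 1; exact zpow_zero w)
  · exact key 10 (by norm_num) h3
  · exact key 11 (by norm_num) h3

theorem exists_omega : ∃ ω : ℂ, ω ^ 3 = 1 ∧ ω ≠ 1 := by
  have h := Complex.isPrimitiveRoot_exp 3 (by norm_num)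
  exact ⟨_, h.pow_eq_one, h.ne_one (by norm_num)⟩

/-- some vector of the eigenspace is moved by `X_11` -/
theorem hne_of (hψ : ψ ≠ 0) {w : Fˣ} (hw : w ^ 3 = 1) (hw1 : (w : F) ≠ 1)
    (h9 : dj X ψ ρ [(9, 1), (11, 1)] ≠ 0) {ω : ℂ} (h3 : ω ^ 3 = 1) (hω : ω ≠ 1) :
    ∃ t, ∃ v ∈ E ρ (X.h w 1) ω, ρ (X.x 11 t) v ≠ v := by
  by_contra hno
  push Not at hno
  have hs : 1 + ω + ω ^ 2 = 0 := by
    have h4 : (ω - 1) * (1 + ω + ω ^ 2) = 0 := by
      have : (ω - 1) * (1 + ω + ω ^ 2) = ω ^ 3 - 1 := by ring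
      rw [this, h3, sub_self]
    exact (mul_eq_zero.1 h4).resolve_left (sub_ne_zero.2 hω)
  have hmul : ∀ a b : G, ∀ v, ρ a (ρ b v) = ρ (a * b) v := fun a b v => by rw [map_mul]; rfl
  have hz3 := z_cube X hw
  have hna := z_na X hw
  -- the other eigenspace
  have hno2 : ∀ t, ∀ v ∈ E ρ (X.h w 1) (ω ^ 2), ρ (X.x 11 t) v = v := by
    intro t v hv
    have h1 : ρ X.na v ∈ E ρ (X.h w 1) ω := z3_map ρ _ X.na hna (by rw [← h3]; ring) v hv
    obtain ⟨e, he, h2⟩ := X.hna 11 (by norm_num)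
    have hr : ra 11 = 11 := rfl
    rw [hr] at h2
    have h4 := hno (e * t) _ h1
    rw [← h2 t, hmul, show X.na * X.x 11 t * X.na⁻¹ * X.na = X.na * X.x 11 t by group, ← hmul] at h4
    have h5 := congrArg (ρ X.na⁻¹) h4
    have h6 : ∀ y, ρ X.na⁻¹ (ρ X.na y) = y := by
      intro y; rw [hmul, inv_mul_cancel, map_one, Module.End.one_apply]
    rwa [h6, h6] at h5
  obtain ⟨t0, ht0⟩ : ∃ t : F, ψ t ≠ 1 := AddChar.ne_one_iff.1 hψ
  -- `z` acts trivially on `J[(11,1)]`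
  have hfix : ∀ v, (∀ t, ρ (X.x 11 t) v = ψ t • v) → ρ (X.h w 1) v = v := by
    intro v hv
    have hzv : ∀ t, ρ (X.x 11 t) (ρ (X.h w 1) v) = ψ t • ρ (X.h w 1) v := by
      intro t
      rw [hmul, z_x X hw (by simp), ← hmul, hv, map_smul]
    have hzzv : ∀ t, ρ (X.x 11 t) (ρ (X.h w 1) (ρ (X.h w 1) v)) = ψ t • ρ (X.h w 1) (ρ (X.h w 1) v) := by
      intro t
      rw [hmul, z_x X hw (by simp), ← hmul, hzv, map_smul]
    have hzzz : ρ (X.h w 1) (ρ (X.h w 1) (ρ (X.h w 1) v)) = v := by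
      rw [hmul, hmul, ← pow_two, ← pow_succ, hz3, map_one, Module.End.one_apply]
    have hzero : ∀ μ : ℂ, μ ^ 3 = 1 → (∀ t, ∀ v ∈ E ρ (X.h w 1) μ, ρ (X.x 11 t) v = v) →
        v + μ ^ 2 • ρ (X.h w 1) v + μ • ρ (X.h w 1) (ρ (X.h w 1) v) = 0 := by
      intro μ hμ hall
      have h1 : v + μ ^ 2 • ρ (X.h w 1) v + μ • ρ (X.h w 1) (ρ (X.h w 1) v) ∈ E ρ (X.h w 1) μ := by
        rw [mem_E, map_add, map_add, map_smul, map_smul, hzzz, smul_add, smul_add, smul_smul, smul_smul,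
          show μ * μ ^ 2 = 1 by rw [← hμ]; ring, one_smul, show μ * μ = μ ^ 2 by ring]
        abel
      have h2 := hall t0 _ h1
      rw [map_add, map_add, map_smul, map_smul, hv, hzv, hzzv, smul_comm _ (ψ t0), smul_comm _ (ψ t0), ← smul_add,
        ← smul_add] at h2
      have h5 : (ψ t0 - 1) • (v + μ ^ 2 • ρ (X.h w 1) v + μ • ρ (X.h w 1) (ρ (X.h w 1) v)) = 0 := by
        rw [sub_smul, one_smul, h2, sub_self]
      exact (smul_eq_zero.1 h5).resolve_left (sub_ne_zero.2 ht0)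
    have e1 := hzero ω h3 hno
    have e2 := hzero (ω ^ 2) (by rw [← pow_mul, mul_comm, pow_mul, h3, one_pow]) hno2
    have hω4 : (ω ^ 2) ^ 2 = ω := by
      calc (ω ^ 2) ^ 2 = ω ^ 3 * ω := by ring
        _ = ω := by rw [h3, one_mul]
    rw [hω4] at e2
    have e3 : (ω ^ 2 - ω) • (ρ (X.h w 1) v - ρ (X.h w 1) (ρ (X.h w 1) v)) = 0 := by
      have : (ω ^ 2 - ω) • (ρ (X.h w 1) v - ρ (X.h w 1) (ρ (X.h w 1) v)) =
          (v + ω ^ 2 • ρ (X.h w 1) v + ω • ρ (X.h w 1) (ρ (X.h w 1) v)) -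
          (v + ω • ρ (X.h w 1) v + ω ^ 2 • ρ (X.h w 1) (ρ (X.h w 1) v)) := by module
      rw [this, e1, e2, sub_self]
    have hne : ω ^ 2 - ω ≠ 0 := by
      have h0 : ω ≠ 0 := by rintro rfl; norm_num at h3
      have : ω ^ 2 - ω = ω * (ω - 1) := by ring
      rw [this]
      exact mul_ne_zero h0 (sub_ne_zero.2 hω)
    have e4 := sub_eq_zero.1 ((smul_eq_zero.1 e3).resolve_left hne)
    have e5 := congrArg (fun y => ρ (X.h w 1)⁻¹ y) e4
    simp only [hmul] at e5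
    rw [inv_mul_cancel, map_one, Module.End.one_apply, inv_mul_cancel_left] at e5
    exact e5.symm
  obtain ⟨v, hv, hv0⟩ : ∃ v ∈ J X ψ ρ [(9, 1), (11, 1)], v ≠ 0 := by
    by_contra hh
    push Not at hh
    apply h9
    have : J X ψ ρ [(9, 1), (11, 1)] = ⊥ := by
      rw [eq_bot_iff]; intro v hv; rw [Submodule.mem_bot]; exact hh v hv
    rw [dj, this, finrank_bot]
  have hv9 : ∀ t, ρ (X.x 9 t) v = ψ t • v := fun t => by
    have := hv (9, 1) (by simp) t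
    simpa using this
  have hv11 : ∀ t, ρ (X.x 11 t) v = ψ t • v := fun t => by
    have := hv (11, 1) (by simp) t
    simpa using this
  have hzv := hfix v hv11
  have h6 : ∀ t, ψ (((w : F) ^ 2 - 1) * t) = 1 := by
    intro t
    have h := X.tor w 1 9 (by norm_num) t
    have hc : ca 9 = 2 := rfl
    rw [hc, one_zpow, mul_one] at h
    have h7 : X.h w 1 * X.x 9 t = X.x 9 (((w ^ (2 : ℤ) : Fˣ) : F) * t) * X.h w 1 := by rw [← h]; group
    have h8 : ρ (X.h w 1) (ρ (X.x 9 t) v) = ρ (X.x 9 (((w ^ (2 : ℤ) : Fˣ) : F) * t)) (ρ (X.h w 1) v) := by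
      rw [hmul, hmul, h7]
    rw [hzv, hv9, hv9, map_smul, hzv] at h8
    have h9 : (ψ t - ψ (((w ^ (2 : ℤ) : Fˣ) : F) * t)) • v = 0 := by rw [sub_smul, h8, sub_self]
    have h10 := sub_eq_zero.1 ((smul_eq_zero.1 h9).resolve_right hv0)
    have hw2 : ((w ^ (2 : ℤ) : Fˣ) : F) = (w : F) ^ 2 := by
      rw [show (2 : ℤ) = ((2 : ℕ) : ℤ) by norm_num, zpow_natCast, Units.val_pow_eq_pow_val]
    rw [hw2] at h10
    rw [sub_mul, one_mul, AddChar.map_sub_eq_div, ← h10]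
    exact div_self (by
      intro h0
      have := AddChar.map_neg_eq_inv ψ t
      have h11 : ψ (t + -t) = ψ t * ψ (-t) := AddChar.map_add_eq_mul ψ t (-t)
      rw [add_neg_cancel, AddChar.map_zero_eq_one, h0, zero_mul] at h11
      exact one_ne_zero h11)
  have hw2 : (w : F) ^ 2 - 1 ≠ 0 := by
    intro h
    apply hw1
    have h7 : (w : F) ^ 3 = 1 := by
      have := congrArg Units.val hw
      simpa using this
    have h8 : (w : F) ^ 2 = 1 := sub_eq_zero.1 h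
    calc (w : F) = (w : F) ^ 2 * w := by rw [h8, one_mul]
      _ = (w : F) ^ 3 := by ring
      _ = 1 := h7
  have h7 := h6 (((w : F) ^ 2 - 1)⁻¹ * t0)
  rw [← mul_assoc, mul_inv_cancel₀ hw2, one_mul] at h7
  exact ht0 h7

theorem b_one (hψ : ψ ≠ 0) (w : Fˣ) (hw : (w : F) ^ 3 = 1) (hw1 : (w : F) ≠ 1) (hq : 4 < Fintype.card F)
    (hV : finrank ℂ V < Fintype.card F ^ 3 + 1)
    (hz : ∀ z, z ≠ 0 → ∀ d, dj X ψ ρ [(9, d), (11, z)] = Fintype.card F)
    (hZ : ∀ z, z ≠ 0 → dj X ψ ρ [(10, 0), (11, z)] = Fintype.card F)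
    (h1 : ∀ b, b ≠ 0 → dj X ψ ρ [(6, b), (10, 0), (11, 0)] = 1)
    (h0 : dj X ψ ρ [(6, 0), (10, 0), (11, 0)] = 0) : False := by
  have hmul : ∀ a b : G, ∀ v, ρ a (ρ b v) = ρ (a * b) v := fun a b v => by rw [map_mul]; rfl
  have hw' : w ^ 3 = 1 := Units.ext (by rw [Units.val_pow_eq_pow_val, hw, Units.val_one])
  have h9 : dj X ψ ρ [(9, 1), (11, 1)] ≠ 0 := by
    rw [hz 1 one_ne_zero 1]; omega
  have hz3 := z_cube X hw'
  obtain ⟨ω, h3, hω⟩ := exists_omega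
  have hs : 1 + ω + ω ^ 2 = 0 := by
    have h4 : (ω - 1) * (1 + ω + ω ^ 2) = 0 := by
      have : (ω - 1) * (1 + ω + ω ^ 2) = ω ^ 3 - 1 := by ring
      rw [this, h3, sub_self]
    exact (mul_eq_zero.1 h4).resolve_left (sub_ne_zero.2 hω)
  have hω23 : (ω ^ 2) ^ 3 = 1 := by rw [← pow_mul, mul_comm, pow_mul, h3, one_pow]
  have hω2 : ω ^ 2 ≠ 1 := by
    intro h
    apply hω
    calc ω = ω ^ 2 * ω := by rw [h, one_mul]
      _ = ω ^ 3 := by ring
      _ = 1 := h3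
  -- lower bound for the nontrivial eigenspaces
  have hlow : ∀ μ : ℂ, μ ^ 3 = 1 → μ ≠ 1 → Fintype.card F ^ 2 - 1 ≤ finrank ℂ (E ρ (X.h w 1) μ) := by
    intro μ hμ hμ1
    exact v1_ge X ρ hψ (E ρ (X.h w 1) μ)
      (fun t => E_stable ρ _ μ _ (z_x X hw' (by simp) t))
      (fun t => E_stable ρ _ μ _ (z_x X hw' (by simp) t))
      (fun t => E_stable ρ _ μ _ (z_x X hw' (by simp) t))
      (E_stable ρ _ μ _ (z_nb X))
      (fun s t => E_stable ρ _ μ _ (z_h X s t))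
      (hne_of X ρ hψ hw' hw1 h9 hμ hμ1)
  have hsum := z3_le ρ (X.h w 1) h3 hω
  have heq := z3_eq ρ (X.h w 1) X.na (z_na X hw') h3
  have l1 := hlow ω h3 hω
  have l2 := hlow (ω ^ 2) hω23 hω2
  -- the space tau
  obtain ⟨c, hc⟩ := tau_le X ρ hψ (ρ (X.h w 1))
    (fun t v => by rw [hmul, hmul, z_x X hw' (by simp)]) (fun t v => by rw [hmul, hmul, z_x X hw' (by simp)])
    (fun t v => by rw [hmul, hmul, z_x X hw' (by simp)]) (fun s t v => by rw [hmul, hmul, z_h X]) h1 h0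
  have hdim : Fintype.card F - 1 ≤ dj X ψ ρ [(10, 0), (11, 0)] := by
    rw [dj_split X ρ hψ (s := 6) (by norm_num) [(10, 0), (11, 0)] (fun t v hv => T6 X ρ hv t)]
    calc Fintype.card F - 1 = ∑ b ∈ Finset.univ.erase (0 : F), 1 := by
          rw [Finset.sum_const, smul_eq_mul, mul_one, Finset.card_erase_of_mem (Finset.mem_univ _), Finset.card_univ]
      _ = ∑ b ∈ Finset.univ.erase (0 : F), dj X ψ ρ ((6, b) :: [(10, 0), (11, 0)]) :=
          Finset.sum_congr rfl (fun b hb => (h1 b (Finset.ne_of_mem_erase hb)).symm)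
      _ ≤ _ := Finset.sum_le_sum_of_subset (Finset.erase_subset _ _)
  have htr := trans_card X ρ (E ρ (X.h w 1) c)
    (fun t => E_stable ρ _ c _ (z_x X hw' (by simp) t)) (fun t => E_stable ρ _ c _ (z_x X hw' (by simp) t))
    (fun v hv => (mem_E ρ _ c v).2 (hc v hv)) h0
  have hbig : Fintype.card F ^ 2 * (Fintype.card F - 1) ≤ finrank ℂ (E ρ (X.h w 1) c) :=
    le_trans (Nat.mul_le_mul_left _ hdim) htr
  -- c is a cube root of one
  have hc3 : c ^ 3 = 1 := by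
    obtain ⟨v, hv, hv0⟩ : ∃ v ∈ J X ψ ρ [(10, 0), (11, 0)], v ≠ 0 := by
      by_contra hh
      push Not at hh
      have h5 : J X ψ ρ [(10, 0), (11, 0)] = ⊥ := by
        rw [eq_bot_iff]; intro v hv; rw [Submodule.mem_bot]; exact hh v hv
      have h6 : dj X ψ ρ [(10, 0), (11, 0)] = 0 := by rw [dj, h5, finrank_bot]
      omega
    have h5 : ρ ((X.h w 1) ^ 3) v = (c ^ 3) • v := by
      rw [pow_succ, pow_two, ← hmul, ← hmul, hc v hv, map_smul, hc v hv, map_smul, map_smul, hc v hv, smul_smul, smul_smul]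
      congr 1; ring
    rw [hz3, map_one, Module.End.one_apply] at h5
    have h6 : (c ^ 3 - 1) • v = 0 := by rw [sub_smul, one_smul, ← h5, sub_self]
    exact sub_eq_zero.1 ((smul_eq_zero.1 h6).resolve_right hv0)
  have hcases : c = 1 ∨ c = ω ∨ c = ω ^ 2 := by
    have h5 : (c - 1) * ((c - ω) * (c - ω ^ 2)) = 0 := by
      have : (c - 1) * ((c - ω) * (c - ω ^ 2)) = (c ^ 3 - 1) - (1 + ω + ω ^ 2) * (c ^ 2 - c) + (ω ^ 3 - 1) * (c - 1) := by ring
      rw [this, hc3, hs, h3]; ring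
    rcases mul_eq_zero.1 h5 with h | h
    · exact Or.inl (sub_eq_zero.1 h)
    · rcases mul_eq_zero.1 h with h | h
      · exact Or.inr (Or.inl (sub_eq_zero.1 h))
      · exact Or.inr (Or.inr (sub_eq_zero.1 h))
  obtain ⟨k, hk⟩ : ∃ k, Fintype.card F = k + 1 := ⟨Fintype.card F - 1, by omega⟩
  rw [hk] at hV l1 l2 hbig hq
  have e1 : (k + 1) ^ 2 - 1 = k * k + 2 * k := by
    have : (k + 1) ^ 2 = k * k + 2 * k + 1 := by ring
    omega
  rw [e1] at l1 l2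
  rw [Nat.add_sub_cancel] at hbig
  have hk4 : 4 ≤ k := by omega
  have hM : 0 < (k + 1) ^ 2 := by positivity
  have e4 : (k + 1) ^ 2 * 4 ≤ (k + 1) ^ 2 * k := Nat.mul_le_mul_left _ hk4
  rcases hcases with rfl | rfl | rfl
  · nlinarith
  · nlinarith [hM, e4]
  · nlinarith [hM, e4]

end Cfsg.Agent.G2M.B1f
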