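import Cfsg.Agent.G2M.R

set_option autoImplicit false

/-! S2338, the end of pieces B1 / B2 (`z0 = h w 1` scalar on `J[(10,0),(11,z)]`). -/

namespace Cfsg.Agent.G2M
open Module Finset

variable {F G : Type*} [Field F] [Fintype F] [DecidableEq F] [Group G] {V : Type*} [AddCommGroup V] [Module ℂ V] [FiniteDimensional ℂ V]
  (X : G2G F G) {ψ : AddChar F ℂ} (ρ : Representation ℂ G V)

theorem BEndL.inv_app (g : G) (v : V) : ρ g⁻¹ (ρ g v) = v := by
  rw [← Module.End.mul_apply, ← map_mul, inv_mul_cancel, map_one, Module.End.one_apply]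

/-- a submodule `W` containing all `J ((s, c) :: l)` contains `J l` when `x s` preserves `J l` -/
theorem BEndL.split_le (hψ : ψ ≠ 0) {s : ℕ} (hs : s < 12) (l : List (ℕ × F)) (hst : ∀ t, ∀ v ∈ J X ψ ρ l, ρ (X.x s t) v ∈ J X ψ ρ l)
    (W : Submodule ℂ V) (hW : ∀ c, J X ψ ρ ((s, c) :: l) ≤ W) : J X ψ ρ l ≤ W := by
  have hprim : ψ.IsPrimitive := AddChar.IsPrimitive.of_ne_one hψ
  have hq : (Fintype.card F : ℂ) ≠ 0 := by
    exact_mod_cast Fintype.card_ne_zero
  have hx0 : X.x s 0 = 1 := by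
    have h := X.add s hs 0 0
    rw [add_zero] at h
    exact (mul_eq_left.1 h.symm)
  let e : F → V → V := fun c v => (Fintype.card F : ℂ)⁻¹ • ∑ t : F, ψ (-(c * t)) • ρ (X.x s t) v
  have he1 : ∀ c, ∀ v ∈ J X ψ ρ l, e c v ∈ J X ψ ρ ((s, c) :: l) := by
    intro c v hv
    rw [mem_J_cons]
    constructor
    · intro u
      show ρ (X.x s u) ((Fintype.card F : ℂ)⁻¹ • ∑ t : F, ψ (-(c * t)) • ρ (X.x s t) v) =
        ψ (c * u) • ((Fintype.card F : ℂ)⁻¹ • ∑ t : F, ψ (-(c * t)) • ρ (X.x s t) v)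
      rw [map_smul, map_sum, smul_comm (ψ (c * u)), Finset.smul_sum (r := ψ (c * u))]
      congr 1
      refine Fintype.sum_equiv (Equiv.addLeft u) _ _ fun t => ?_
      show ρ (X.x s u) (ψ (-(c * t)) • ρ (X.x s t) v) = ψ (c * u) • ψ (-(c * (u + t))) • ρ (X.x s (u + t)) v
      rw [map_smul, X.add s hs, map_mul ρ, smul_smul, ← AddChar.map_add_eq_mul]
      have : c * u + -(c * (u + t)) = -(c * t) := by ring
      rw [this]; rfl
    · show (Fintype.card F : ℂ)⁻¹ • ∑ t : F, ψ (-(c * t)) • ρ (X.x s t) v ∈ J X ψ ρ l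
      exact Submodule.smul_mem _ _ (Submodule.sum_mem _ fun t _ => Submodule.smul_mem _ _ (hst t v hv))
  have he3 : ∀ v, ∑ c : F, e c v = v := by
    intro v
    show ∑ c : F, (Fintype.card F : ℂ)⁻¹ • ∑ t : F, ψ (-(c * t)) • ρ (X.x s t) v = v
    rw [← Finset.smul_sum, Finset.sum_comm]
    have h2 : ∀ t : F, ∑ c : F, ψ (-(c * t)) • ρ (X.x s t) v = (if t = 0 then (Fintype.card F : ℂ) else 0) • ρ (X.x s t) v := by
      intro t
      rw [← Finset.sum_smul]
      congr 1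
      have h3 := AddChar.sum_mulShift (-t) hprim
      have h4 : ∀ c : F, ψ (-(c * t)) = ψ (c * -t) := fun c => by congr 1; ring
      rw [Finset.sum_congr rfl fun c _ => h4 c, h3]
      by_cases ht : t = 0
      · rw [if_pos ht, if_pos (by rw [ht, neg_zero])]
      · rw [if_neg ht, if_neg (neg_ne_zero.2 ht)]; simp
    rw [Finset.sum_congr rfl fun t _ => h2 t, Finset.sum_eq_single (0 : F)]
    · rw [if_pos rfl, hx0, map_one, smul_smul, inv_mul_cancel₀ hq, one_smul]; rfl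
    · intro t _ ht
      rw [if_neg ht, zero_smul]
    · intro h; exact absurd (Finset.mem_univ _) h
  intro v hv
  rw [← he3 v]
  exact Submodule.sum_mem _ fun c _ => hW c (he1 c v hv)

/-- the end -/
theorem bend_lam (hψ : ψ ≠ 0) (w : Fˣ) (hw : (w : F) ^ 3 = 1) (hw1 : (w : F) ≠ 1) (z : F) (hz : z ≠ 0) (lam : ℂ) (hlam : lam ≠ 0)
    (h9 : dj X ψ ρ [(9, 1), (11, z)] ≠ 0) (hV : ∀ v ∈ J X ψ ρ [(10, 0), (11, z)], ρ (X.h w 1) v = lam • v) : False := by
  have hm : ∀ (x y : G) (v : V), ρ (x * y) v = ρ x (ρ y v) := by intro x y v; rw [map_mul]; rfl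
  -- the eigenspace of z0
  let W : Submodule ℂ V := LinearMap.ker (ρ (X.h w 1) - lam • (1 : Module.End ℂ V))
  have hWm : ∀ v, v ∈ W ↔ ρ (X.h w 1) v = lam • v := by
    intro v
    rw [LinearMap.mem_ker, LinearMap.sub_apply, sub_eq_zero]
    rfl
  have hcomm6 : ∀ t, X.h w 1 * X.x 6 t = X.x 6 t * X.h w 1 := by
    intro t
    have h := X.tor w 1 6 (by norm_num) t
    have h2 : ((w ^ (ca 6) * (1 : Fˣ) ^ (cb 6) : Fˣ) : F) = 1 := by simp [ca]
    rw [h2, one_mul] at h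
    rw [← mul_inv_eq_iff_eq_mul]; exact h
  have h1 : ∀ e, J X ψ ρ [(10, e), (11, z)] ≤ W := by
    intro e v hv
    have h2 := (mem_J_cons X ρ).1 hv
    have h3 := (mem_J_cons X ρ).1 h2.2
    set t : F := -(e / z) with ht
    have h4 : ρ (X.x 6 t) v ∈ J X ψ ρ [(10, 0), (11, z)] := by
      rw [mem_J_cons, mem_J_cons]
      refine ⟨fun u => ?_, fun u => ?_, ?_⟩
      · have h5 := X.c610 t u
        have h6 : X.x 10 u * X.x 6 t = X.x 6 t * (X.x 10 u * X.x 11 (t * u)) := by rw [← h5]; group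
        rw [← hm, h6, hm, hm, h3.1, map_smul, h2.1, smul_smul, ← AddChar.map_add_eq_mul, map_smul]
        congr 2
        rw [ht]; field_simp; ring
      · have h5 := X.comm 6 11 (by simp) t u
        rw [← hm, ← h5, hm, h3.1, map_smul]
      · intro p hp; simp at hp
    have h5 := hV _ h4
    rw [← hm, hcomm6, hm] at h5
    rw [hWm]
    have h6 := congrArg (ρ (X.x 6 t)⁻¹) h5
    rwa [BEndL.inv_app, map_smul, BEndL.inv_app] at h6
  have h2 : J X ψ ρ [(11, z)] ≤ W := by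
    refine BEndL.split_le X ρ hψ (s := 10) (by norm_num) [(11, z)] (fun t v hv => ?_) W h1
    have h3 := (mem_J_cons X ρ).1 hv
    rw [mem_J_cons]
    refine ⟨fun u => ?_, fun p hp => by simp at hp⟩
    rw [← hm, ← X.comm 10 11 (by simp) t u, hm, h3.1, map_smul]
  obtain ⟨v, hv0⟩ : ∃ v : J X ψ ρ [(9, 1), (11, z)], v ≠ 0 := by
    by_contra hcon
    push Not at hcon
    apply h9
    show finrank ℂ (J X ψ ρ [(9, 1), (11, z)]) = 0
    haveI : Subsingleton (J X ψ ρ [(9, 1), (11, z)]) := ⟨fun a b => (hcon a).trans (hcon b).symm⟩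
    exact finrank_zero_of_subsingleton
  obtain ⟨v, hv⟩ := v
  have hv0 : v ≠ 0 := fun h => hv0 (Subtype.ext h)
  have h3 := (mem_J_cons X ρ).1 hv
  have h4 := (hWm v).1 (h2 h3.2)
  apply hψ
  have hw2 : (w : F) ^ 2 - 1 ≠ 0 := by
    intro h
    apply hw1
    have h5 : (w : F) ^ 2 = 1 := by linear_combination h
    calc (w : F) = (w : F) ^ 2 * w := by rw [h5, one_mul]
      _ = 1 := by rw [← hw]; ring
  have h5 : ∀ u : F, ψ (((w : F) ^ 2 - 1) * u) = 1 := by
    intro u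
    have h6 := X.tor w 1 9 (by norm_num) u
    have h7 : ((w ^ (ca 9) * (1 : Fˣ) ^ (cb 9) : Fˣ) : F) = (w : F) ^ 2 := by simp [ca]
    rw [h7] at h6
    have h8 : X.h w 1 * X.x 9 u = X.x 9 ((w : F) ^ 2 * u) * X.h w 1 := by rw [← h6]; group
    have h9' := congrArg (fun g => ρ g v) h8
    simp only [hm] at h9'
    rw [h3.1, map_smul, h4, map_smul, h3.1, smul_smul, smul_smul] at h9'
    have h10 := smul_left_injective ℂ hv0 h9'
    have h11 : ψ (1 * u) = ψ (1 * ((w : F) ^ 2 * u)) := by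
      apply mul_left_cancel₀ hlam
      linear_combination h10
    rw [one_mul, one_mul] at h11
    have h12 : ψ ((w : F) ^ 2 * u) = ψ (((w : F) ^ 2 - 1) * u) * ψ u := by
      rw [← AddChar.map_add_eq_mul]; congr 1; ring
    rw [← h11] at h12
    have h13 : ψ u ≠ 0 := by
      intro h0
      have := AddChar.map_add_eq_mul ψ u (-u)
      rw [add_neg_cancel, AddChar.map_zero_eq_one, h0, zero_mul] at this
      exact one_ne_zero this
    exact mul_right_cancel₀ h13 (by rw [one_mul]; exact h12.symm)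
  refine DFunLike.ext _ _ fun x => ?_
  have h6 := h5 (((w : F) ^ 2 - 1)⁻¹ * x)
  rw [mul_inv_cancel_left₀ hw2] at h6
  rw [h6]; rfl

end Cfsg.Agent.G2M
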