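import Cfsg.Agent.G2M.B2a
import Cfsg.Agent.G2M.B2b
import Cfsg.Agent.G2M.B2e
import Cfsg.Agent.G2M.BEndL
import Cfsg.Agent.G2M.B2s3c

/-! # S2338, b_two (assembly, helper9) -/

set_option autoImplicit false

namespace Cfsg.Agent.G2M
namespace B2fin9
open Module Finset

variable {F G : Type*} [Field F] [Fintype F] [DecidableEq F] [Group G] {V : Type*} [AddCommGroup V] [Module ℂ V] [FiniteDimensional ℂ V]
  (X : G2G F G) {ψ : AddChar F ℂ} (ρ : Representation ℂ G V)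

theorem b_two (hψ : ψ ≠ 0) (w : Fˣ) (hw : (w : F) ^ 3 = 1) (hw1 : (w : F) ≠ 1) (hq : 4 < Fintype.card F) (hirr : ρ.IsIrreducible)
    (hz : ∀ z, z ≠ 0 → ∀ d, dj X ψ ρ [(9, d), (11, z)] = Fintype.card F) (hZ : ∀ z, z ≠ 0 → dj X ψ ρ [(10, 0), (11, z)] = Fintype.card F)
    (h1 : ∀ b, b ≠ 0 → dj X ψ ρ [(6, b), (10, 0), (11, 0)] = 1) (h0 : dj X ψ ρ [(6, 0), (10, 0), (11, 0)] = 1) : False := by
  have hV : 1 < finrank ℂ V := by
    have a1 : dj X ψ ρ [(10, 0), (11, 1)] ≤ finrank ℂ V := Submodule.finrank_le _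
    rw [hZ 1 one_ne_zero] at a1
    omega
  obtain ⟨⟨v, hvJ⟩, hv00, hvs⟩ := finrank_eq_one_iff'.1 h0
  have hv0 : v ≠ 0 := fun h => hv00 (Subtype.ext h)
  have hlineJ : ∀ w ∈ J X ψ ρ [(6, 0), (10, 0), (11, 0)], ∀ v ∈ J X ψ ρ [(6, 0), (10, 0), (11, 0)],
      v ≠ 0 → ∃ c : ℂ, w = c • v := by
    intro a ha b hb hb0
    obtain ⟨c, hc⟩ := exists_smul_eq_of_finrank_eq_one h0 (x := (⟨b, hb⟩ : J X ψ ρ [(6, 0), (10, 0), (11, 0)]))
      (fun h => hb0 (congrArg Subtype.val h)) ⟨a, ha⟩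
    exact ⟨c, (congrArg Subtype.val hc).symm⟩
  obtain ⟨hfix, hh, hna⟩ := B2a.b2_line (X := X) (ρ := ρ) (by omega) hlineJ hvJ hv0
  have h6 := hfix 6 (Or.inr (by norm_num)) (by norm_num)
  have h7 := hfix 7 (Or.inr (by norm_num)) (by norm_num)
  have h10 := hfix 10 (Or.inr (by norm_num)) (by norm_num)
  have h11 := hfix 11 (Or.inr (by norm_num)) (by norm_num)
  have hnb := B2a.nb_not (X := X) (ρ := ρ) hirr hV hv0 h6 h7 hna
  have hline : ∀ w, (∀ t, ρ (X.x 6 t) w = w) → (∀ t, ρ (X.x 10 t) w = w) → (∀ t, ρ (X.x 11 t) w = w) → ∃ c : ℂ, w = c • v := by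
    intro a a1 a2 a3
    refine hlineJ a ?_ v hvJ hv0
    intro p hp t
    simp only [List.mem_cons, List.not_mem_nil, or_false] at hp
    rcases hp with rfl | rfl | rfl
    · simpa using a1 t
    · simpa using a2 t
    · simpa using a3 t
  have h5 := b2_alpha X ρ hv0 h6 h10 h11 hline (fun s t => by obtain ⟨c, _, hc⟩ := hh s t; exact ⟨c, hc⟩)
    (fun c hc => hnb ⟨c, hc⟩)
  obtain ⟨lam, hlam, hl⟩ := hh w 1
  have hw3 : w ^ 3 = 1 := by
    apply Units.ext; simpa using hw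
  let W : Submodule ℂ V := LinearMap.ker (ρ (X.h w 1) - lam • (1 : Module.End ℂ V))
  have hW : ∀ y, y ∈ W ↔ ρ (X.h w 1) y = lam • y := by
    intro y
    rw [LinearMap.mem_ker, LinearMap.sub_apply, sub_eq_zero]
    rfl
  have hWx : ∀ r ∈ [0, 1, 5, 6, 10, 11], ∀ t, ∀ y ∈ W, ρ (X.x r t) y ∈ W := by
    intro r hr t y hy
    rw [hW] at hy ⊢
    rw [z0_comm X ρ w hw hr, hy, map_smul]
  -- z0 and nb, na
  have gnb : X.h w 1 * X.nb = X.nb * X.h w 1 := by
    have := X.nb_h w 1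
    rw [mul_one, inv_one] at this
    have h' : X.nb * X.h w 1 = X.h w 1 * X.nb := by
      conv_rhs => rw [← this]
      group
    exact h'.symm
  have gna1 : X.na * X.h w⁻¹ 1 * X.na⁻¹ = X.h w 1 := by
    have := X.na_h w⁻¹ 1
    have e : (w⁻¹ : Fˣ) ^ 3 * 1 = 1 := by rw [mul_one, inv_pow, hw3, inv_one]
    rw [e, inv_inv] at this
    exact this
  have gnb1 : X.nb * X.h w⁻¹ 1 * X.nb⁻¹ = X.h w⁻¹ 1 := by
    have := X.nb_h w⁻¹ 1
    rw [mul_one, inv_one] at this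
    exact this
  have gnc : X.h w 1 * (X.na * X.nb * X.na⁻¹) = (X.na * X.nb * X.na⁻¹) * X.h w 1 := by
    have e1 : X.h w 1 * X.na = X.na * X.h w⁻¹ 1 := by rw [← gna1]; group
    have e2 : X.h w⁻¹ 1 * X.nb = X.nb * X.h w⁻¹ 1 := by
      have e3 : X.nb * X.h w⁻¹ 1 = X.h w⁻¹ 1 * X.nb := by
        conv_rhs => rw [← gnb1]
        group
      exact e3.symm
    have e4 : X.h w⁻¹ 1 * X.na⁻¹ = X.na⁻¹ * X.h w 1 := by rw [← gna1]; group
    calc X.h w 1 * (X.na * X.nb * X.na⁻¹) = (X.h w 1 * X.na) * X.nb * X.na⁻¹ := by group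
      _ = X.na * (X.h w⁻¹ 1 * X.nb) * X.na⁻¹ := by rw [e1]; group
      _ = X.na * X.nb * (X.h w⁻¹ 1 * X.na⁻¹) := by rw [e2]; group
      _ = _ := by rw [e4]; group
  have hWc : ∀ y ∈ W, ρ (X.na * X.nb * X.na⁻¹) y ∈ W := by
    intro y hy
    rw [hW] at hy ⊢
    rw [← B2s3.mulap, gnc, B2s3.mulap, hy, map_smul]
  have hvW : v ∈ W := (hW v).2 hl
  have hnbv : ρ X.nb v ∈ W := by
    rw [hW, ← B2s3.mulap, gnb, B2s3.mulap, hl, map_smul]
  have hprW : ∀ b : F, B2s3.pr X ρ ψ b (ρ X.nb v) ∈ W := by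
    intro b
    rw [B2s3.pr]
    apply Submodule.sum_mem
    intro u _
    exact Submodule.smul_mem _ _ (hWx 6 (by decide) u _ hnbv)
  have hst : ∀ t, ∀ y ∈ J X ψ ρ [(10, 0), (11, 0)], ρ (X.x 6 t) y ∈ J X ψ ρ [(10, 0), (11, 0)] := by
    intro t y hy p hp u
    have y10 : ∀ u, ρ (X.x 10 u) y = y := fun u => by simpa using hy (10, 0) (by simp) u
    have y11 : ∀ u, ρ (X.x 11 u) y = y := fun u => by simpa using hy (11, 0) (by simp) u
    simp only [List.mem_cons, List.not_mem_nil, or_false] at hp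
    rcases hp with rfl | rfl
    · show ρ (X.x 10 u) (ρ (X.x 6 t) y) = ψ (0 * u) • ρ (X.x 6 t) y
      have e : X.x 10 u * X.x 6 t = X.x 6 t * (X.x 10 u * X.x 11 (t * u)) := by
        rw [← X.c610 t u]; group
      rw [← B2s3.mulap, e, B2s3.mulap, B2s3.mulap, y11, y10]; simp
    · show ρ (X.x 11 u) (ρ (X.x 6 t) y) = ψ (0 * u) • ρ (X.x 6 t) y
      rw [← B2s3.mulap, ← B2s3.c611, B2s3.mulap, y11]; simp
  have hτ : J X ψ ρ [(10, 0), (11, 0)] ≤ W := by
    apply J_le_of X ρ hψ (s := 6) (by norm_num) _ hst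
    intro c y hy
    by_cases hc : c = 0
    · subst hc
      obtain ⟨a, ha⟩ := hlineJ y hy v hvJ hv0
      rw [ha]
      exact Submodule.smul_mem _ _ hvW
    · -- the vector pr c (nb v)
      have hne : B2s3.pr X ρ ψ c (ρ X.nb v) ≠ 0 := by
        intro h
        have k := B2s3.key5 X ρ hψ h6 h5 hc
        rw [h, map_zero, map_zero] at k
        have k2 : ((Fintype.card F : ℂ) + 1) ≠ 0 := by
          exact_mod_cast Nat.succ_ne_zero (Fintype.card F)
        exact (smul_ne_zero k2 hv0) k.symm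
      have n10 : ∀ u, ρ (X.x 10 u) (ρ X.nb v) = ρ X.nb v := by
        intro u
        obtain ⟨e1, he1, b1⟩ := (B2s3.cnb X 11 (by norm_num) : B2s3.Cj X X.nb 11 10)
        have h : X.x 10 u * X.nb = X.nb * X.x 11 (e1 * u) := by
          have := b1 (e1 * u)
          rw [← mul_assoc, B2s3.sgn_sq he1, one_mul] at this
          have this' : X.nb * X.x 11 (e1 * u) * X.nb⁻¹ = X.x 10 u := this
          rw [← this']; group
        rw [← B2s3.mulap, h, B2s3.mulap, h11]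
      have n11 : ∀ u, ρ (X.x 11 u) (ρ X.nb v) = ρ X.nb v := by
        intro u
        obtain ⟨e1, he1, b1⟩ := (B2s3.cnb X 10 (by norm_num) : B2s3.Cj X X.nb 10 11)
        have h : X.x 11 u * X.nb = X.nb * X.x 10 (e1 * u) := by
          have := b1 (e1 * u)
          rw [← mul_assoc, B2s3.sgn_sq he1, one_mul] at this
          have this' : X.nb * X.x 10 (e1 * u) * X.nb⁻¹ = X.x 11 u := this
          rw [← this']; group
        rw [← B2s3.mulap, h, B2s3.mulap, h10]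
      have hmem : B2s3.pr X ρ ψ c (ρ X.nb v) ∈ J X ψ ρ [(6, c), (10, 0), (11, 0)] := by
        intro p hp t
        simp only [List.mem_cons, List.not_mem_nil, or_false] at hp
        rcases hp with rfl | rfl | rfl
        · exact B2s3.pr_x6 X ρ c t _
        · simpa using B2s3.pr_fix10 X ρ c n10 n11 t
        · simpa using B2s3.pr_fix11 X ρ c n11 t
      obtain ⟨a, ha⟩ := exists_smul_eq_of_finrank_eq_one (h1 c hc)
        (x := (⟨_, hmem⟩ : J X ψ ρ [(6, c), (10, 0), (11, 0)])) (fun h => hne (congrArg Subtype.val h)) ⟨y, hy⟩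
      have ha' : a • B2s3.pr X ρ ψ c (ρ X.nb v) = y := congrArg Subtype.val ha
      rw [← ha']
      exact Submodule.smul_mem _ _ (hprW c)
  have h3 := B2s3.b2_step3 X ρ hψ hv0 h6 h10 h11 (by obtain ⟨c, _, hc⟩ := hna; exact ⟨c, hc⟩) hline h5 h1 W
    (hWx 5 (by decide)) (hWx 10 (by decide)) hWc hτ (z := 1) one_ne_zero
  have h4 : J X ψ ρ [(10, 0), (11, 1)] ⊓ W = J X ψ ρ [(10, 0), (11, 1)] := by
    apply Submodule.eq_of_le_of_finrank_le inf_le_left
    have : finrank ℂ (J X ψ ρ [(10, 0), (11, 1)]) = Fintype.card F := hZ 1 one_ne_zero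
    rw [this]; exact h3
  refine bend_lam X ρ hψ w hw hw1 1 one_ne_zero lam hlam ?_ ?_
  · rw [hz 1 one_ne_zero]; exact Fintype.card_ne_zero
  · intro y hy
    have : y ∈ J X ψ ρ [(10, 0), (11, 1)] ⊓ W := by rw [h4]; exact hy
    exact (hW y).1 this.2

end B2fin9
end Cfsg.Agent.G2M
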