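import Cfsg.Agent.G2M.B1h27
import Cfsg.Agent.G2M.B2a
import Cfsg.Agent.G2M.B2b
import Cfsg.Agent.G2M.B2s3c

set_option autoImplicit false
set_option linter.unusedSectionVars false

/-!
S2338, B2 assembly.
-/

namespace Cfsg.Agent.G2M.B2h27

open Module Finset Cfsg.Agent.G2M

variable {F G : Type*} [Field F] [Fintype F] [DecidableEq F] [Group G] {V : Type*} [AddCommGroup V] [Module ℂ V]
  [FiniteDimensional ℂ V] (X : G2G F G) {ψ : AddChar F ℂ} (ρ : Representation ℂ G V)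

theorem b_two (hψ : ψ ≠ 0) (w : Fˣ) (hw : (w : F) ^ 3 = 1) (hw1 : (w : F) ≠ 1) (hq : 4 < Fintype.card F) (hirr : ρ.IsIrreducible)
    (hz : ∀ z, z ≠ 0 → ∀ d, dj X ψ ρ [(9, d), (11, z)] = Fintype.card F) (hZ : ∀ z, z ≠ 0 → dj X ψ ρ [(10, 0), (11, z)] = Fintype.card F)
    (h1 : ∀ b, b ≠ 0 → dj X ψ ρ [(6, b), (10, 0), (11, 0)] = 1) (h0 : dj X ψ ρ [(6, 0), (10, 0), (11, 0)] = 1) : False := by
  obtain ⟨⟨v, hv⟩, hv0, hspan⟩ := finrank_eq_one_iff'.mp h0
  have hv0 : v ≠ 0 := fun h => hv0 (Subtype.ext h)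
  have hline0 : ∀ w ∈ J X ψ ρ [(6, 0), (10, 0), (11, 0)], ∃ c : ℂ, w = c • v := by
    intro w hw
    obtain ⟨c, hc⟩ := hspan ⟨w, hw⟩
    exact ⟨c, (congrArg Subtype.val hc).symm⟩
  have h1' : ∀ w ∈ J X ψ ρ [(6, 0), (10, 0), (11, 0)], ∀ v ∈ J X ψ ρ [(6, 0), (10, 0), (11, 0)],
      v ≠ 0 → ∃ c : ℂ, w = c • v := by
    intro a ha b hb hb0
    obtain ⟨c, hc⟩ := hline0 a ha
    obtain ⟨d, hd⟩ := hline0 b hb
    have hd0 : d ≠ 0 := by rintro rfl; exact hb0 (by rw [hd, zero_smul])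
    exact ⟨c / d, by rw [hd, smul_smul, div_mul_cancel₀ c hd0, hc]⟩
  obtain ⟨hfix, hh, hna⟩ := B2a.b2_line (X := X) (ρ := ρ) (by omega) h1' hv hv0
  have h6 := hfix 6 (Or.inr (by norm_num)) (by norm_num)
  have h7 := hfix 7 (Or.inr (by norm_num)) (by norm_num)
  have h10 := hfix 10 (Or.inr (by norm_num)) (by norm_num)
  have h11 := hfix 11 (Or.inr (by norm_num)) (by norm_num)
  have hV : 1 < finrank ℂ V := by
    have h2 : finrank ℂ (J X ψ ρ [(10, 0), (11, (1 : F))]) = Fintype.card F := hZ 1 one_ne_zero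
    have h3 := Submodule.finrank_le (J X ψ ρ [(10, 0), (11, (1 : F))])
    omega
  have hnb := B2a.nb_not (X := X) (ρ := ρ) hirr hV hv0 h6 h7 hna
  have hmemJ0 : ∀ w : V, (∀ t, ρ (X.x 6 t) w = w) → (∀ t, ρ (X.x 10 t) w = w) → (∀ t, ρ (X.x 11 t) w = w) →
      w ∈ J X ψ ρ [(6, 0), (10, 0), (11, 0)] := by
    intro w a b c
    rw [mem_J_cons, mem_J_cons, mem_J_cons]
    refine ⟨fun t => ?_, fun t => ?_, fun t => ?_, fun p hp => by simp at hp⟩
    · rw [zero_mul, AddChar.map_zero_eq_one, one_smul]; exact a t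
    · rw [zero_mul, AddChar.map_zero_eq_one, one_smul]; exact b t
    · rw [zero_mul, AddChar.map_zero_eq_one, one_smul]; exact c t
  have hline : ∀ w, (∀ t, ρ (X.x 6 t) w = w) → (∀ t, ρ (X.x 10 t) w = w) → (∀ t, ρ (X.x 11 t) w = w) → ∃ c : ℂ, w = c • v :=
    fun w a b c => hline0 w (hmemJ0 w a b c)
  have h5 := b2_alpha X ρ hv0 h6 h10 h11 hline (fun s t => let ⟨c, _, h⟩ := hh s t; ⟨c, h⟩) (fun c h => hnb ⟨c, h⟩)
  obtain ⟨lam, hlam0, hlam⟩ := hh w 1
  let W : Submodule ℂ V := LinearMap.ker (ρ (X.h w 1) - lam • (1 : Module.End ℂ V))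
  have hW : ∀ y, y ∈ W ↔ ρ (X.h w 1) y = lam • y := by
    intro y
    rw [LinearMap.mem_ker, LinearMap.sub_apply, sub_eq_zero]; rfl
  have hWg : ∀ g : G, X.h w 1 * g = g * X.h w 1 → ∀ y ∈ W, ρ g y ∈ W := by
    intro g hg y hy
    rw [hW] at hy ⊢
    rw [← Module.End.mul_apply, ← map_mul, hg, map_mul, Module.End.mul_apply, hy, map_smul]
  have hvW : v ∈ W := (hW v).mpr hlam
  have hw3 : w ^ 3 = 1 := by ext; push_cast; exact hw
  have cnb : X.h w 1 * X.nb = X.nb * X.h w 1 := by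
    have h2 := X.nb_h w 1
    rw [mul_one, inv_one] at h2
    calc X.h w 1 * X.nb = (X.nb * X.h w 1 * X.nb⁻¹) * X.nb := by rw [h2]
      _ = _ := by group
  have cnb' : X.h w⁻¹ 1 * X.nb = X.nb * X.h w⁻¹ 1 := by
    have h2 := X.nb_h w⁻¹ 1
    rw [mul_one, inv_one] at h2
    calc X.h w⁻¹ 1 * X.nb = (X.nb * X.h w⁻¹ 1 * X.nb⁻¹) * X.nb := by rw [h2]
      _ = _ := by group
  have cna : X.h w 1 * X.na = X.na * X.h w⁻¹ 1 := by
    have h2 := X.na_h w⁻¹ 1
    rw [inv_inv, mul_one, inv_pow, hw3, inv_one] at h2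
    rw [← h2]; group
  have cnc : X.h w 1 * (X.na * X.nb * X.na⁻¹) = (X.na * X.nb * X.na⁻¹) * X.h w 1 := by
    have e1 : X.h w⁻¹ 1 * X.na⁻¹ = X.na⁻¹ * X.h w 1 := by
      calc X.h w⁻¹ 1 * X.na⁻¹ = X.na⁻¹ * (X.na * X.h w⁻¹ 1) * X.na⁻¹ := by group
        _ = _ := by rw [← cna]; group
    calc X.h w 1 * (X.na * X.nb * X.na⁻¹) = (X.h w 1 * X.na) * X.nb * X.na⁻¹ := by group
      _ = X.na * (X.h w⁻¹ 1 * X.nb) * X.na⁻¹ := by rw [cna]; group
      _ = X.na * X.nb * (X.h w⁻¹ 1 * X.na⁻¹) := by rw [cnb']; group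
      _ = _ := by rw [e1]; group
  have ch : ∀ s t, X.h w 1 * X.h s t = X.h s t * X.h w 1 := by
    intro s t
    rw [← X.h_mul, ← X.h_mul, mul_comm w s, mul_comm 1 t]
  have c6 := B1h27.z0_comm X hw (r := 6) (by norm_num) (Or.inl rfl)
  have c5 := B1h27.z0_comm X hw (r := 5) (by norm_num) (Or.inl rfl)
  have c10 := B1h27.z0_comm X hw (r := 10) (by norm_num) (Or.inr (Or.inl rfl))
  -- tau ≤ W
  have hvt : v ∈ J X ψ ρ [(10, 0), (11, 0)] := ((mem_J_cons X ρ).mp hv).2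
  have hyt : ρ X.nb v ∈ J X ψ ρ [(10, 0), (11, 0)] := by
    obtain ⟨a, ha, hA⟩ := X.hnb 10 (by norm_num)
    obtain ⟨b, hb, hB⟩ := X.hnb 11 (by norm_num)
    have e11 : rb 11 = 10 := rfl
    have e10 : rb 10 = 11 := rfl
    rw [e11] at hB
    rw [e10] at hA
    rw [Tr.mem_tau]
    refine ⟨fun t => ?_, fun t => ?_⟩
    · have h2 : X.x 10 t * X.nb = X.nb * X.x 11 (b * t) := by rw [Tr.eq_conj X hb hB t]; group
      rw [← Module.End.mul_apply, ← map_mul, h2, map_mul, Module.End.mul_apply, h11]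
    · have h2 : X.x 11 t * X.nb = X.nb * X.x 10 (a * t) := by rw [Tr.eq_conj X ha hA t]; group
      rw [← Module.End.mul_apply, ← map_mul, h2, map_mul, Module.End.mul_apply, h10]
  have hyW : ρ X.nb v ∈ W := hWg _ cnb v hvW
  have hJ6 : ∀ c, ∀ y ∈ J X ψ ρ [(10, 0), (11, 0)], ∑ u : F, ψ (-(c * u)) • ρ (X.x 6 u) y ∈ J X ψ ρ [(6, c), (10, 0), (11, 0)] := by
    intro c y hy
    rw [mem_J_cons]
    refine ⟨fun t => ?_, Submodule.sum_mem _ fun u _ => Submodule.smul_mem _ _ (Tr.tau_6 X ρ hy u)⟩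
    rw [map_sum, Finset.smul_sum]
    refine Fintype.sum_equiv (Equiv.addLeft t) _ _ fun u => ?_
    rw [map_smul, ← Module.End.mul_apply, ← map_mul, ← X.add 6 (by norm_num), smul_smul, ← AddChar.map_add_eq_mul]
    change _ = ψ (c * t + -(c * (t + u))) • (ρ (X.x 6 (t + u))) y
    congr 2
    ring
  have hex : ∃ b : F, b ≠ 0 ∧ ∑ u : F, ψ (-(b * u)) • ρ (X.x 6 u) (ρ X.nb v) ≠ 0 := by
    by_contra hcon
    simp only [not_exists, not_and, not_not] at hcon
    apply hnb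
    -- y is in every submodule containing J(6,0)
    have hy0 : ρ X.nb v = (Fintype.card F : ℂ)⁻¹ • ∑ u : F, ψ (-(0 * u)) • ρ (X.x 6 u) (ρ X.nb v) := by
      have h2 : ∑ c : F, ∑ u : F, ψ (-(c * u)) • ρ (X.x 6 u) (ρ X.nb v) = (Fintype.card F : ℂ) • ρ X.nb v := by
        rw [Finset.sum_comm]
        have h3 : ∀ u : F, ∑ c : F, ψ (-(c * u)) • ρ (X.x 6 u) (ρ X.nb v) = (if u = 0 then (Fintype.card F : ℂ) else 0) • ρ (X.x 6 u) (ρ X.nb v) := by
          intro u
          rw [← Finset.sum_smul]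
          congr 1
          have h4 := AddChar.sum_mulShift (R := F) (R' := ℂ) (-u) (AddChar.IsPrimitive.of_ne_one hψ)
          simp only [neg_eq_zero, Nat.cast_ite, Nat.cast_zero] at h4
          rw [← h4]
          refine Finset.sum_congr rfl fun c _ => ?_
          congr 1; ring
        simp only [h3]
        rw [Finset.sum_eq_single 0]
        · rw [if_pos rfl, Tr.x_zero X (by norm_num), map_one, Module.End.one_apply]
        · intro u _ hu; rw [if_neg hu, zero_smul]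
        · intro h; exact absurd (Finset.mem_univ _) h
      rw [Finset.sum_eq_single 0] at h2
      · rw [h2, smul_smul, inv_mul_cancel₀ (Nat.cast_ne_zero.mpr Fintype.card_ne_zero), one_smul]
      · intro c _ hc; exact hcon c hc
      · intro h; exact absurd (Finset.mem_univ _) h
    obtain ⟨c, hc⟩ := hline0 _ (hJ6 0 _ hyt)
    refine ⟨(Fintype.card F : ℂ)⁻¹ * c, ?_⟩
    rw [mul_smul, ← hc]; exact hy0
  obtain ⟨b, hb0, hyb⟩ := hex
  set yb : V := ∑ u : F, ψ (-(b * u)) • ρ (X.x 6 u) (ρ X.nb v) with hybdef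
  have hybW : yb ∈ W := Submodule.sum_mem _ fun u _ => Submodule.smul_mem _ _ (hWg _ (c6 u) _ hyW)
  have hybJ : yb ∈ J X ψ ρ [(6, b), (10, 0), (11, 0)] := hJ6 b _ hyt
  have hτ : J X ψ ρ [(10, 0), (11, 0)] ≤ W := by
    have key : ∀ c, J X ψ ρ [(6, c), (10, 0), (11, 0)] ≤ W := by
      intro c
      by_cases hc : c = 0
      · subst hc
        intro y hy
        obtain ⟨d, rfl⟩ := hline0 y hy
        exact W.smul_mem _ hvW
      · -- torus
        set t : Fˣ := Units.mk0 (b / c) (div_ne_zero hb0 hc) with ht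
        set y' : V := ρ (X.h 1 t) yb with hy'
        have hy'W : y' ∈ W := hWg _ (ch 1 t) _ hybW
        have hconj : ∀ r, r < 12 → ∀ u : F, X.x r ((((1 : Fˣ) ^ (ca r) * t ^ (cb r) : Fˣ) : F) * u) * X.h 1 t = X.h 1 t * X.x r u := by
          intro r hr u
          rw [← X.tor 1 t r hr u]; group
        have hy'J : y' ∈ J X ψ ρ [(6, c), (10, 0), (11, 0)] := by
          rw [mem_J_cons, mem_J_cons, mem_J_cons] at hybJ ⊢
          obtain ⟨k6, k10, k11, _⟩ := hybJ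
          refine ⟨fun u => ?_, fun u => ?_, fun u => ?_, fun p hp => by simp at hp⟩
          · have h2 := hconj 6 (by norm_num) ((t : F)⁻¹ * u)
            have h3 : (((1 : Fˣ) ^ (ca 6) * t ^ (cb 6) : Fˣ) : F) = (t : F) := by
              have : cb 6 = 1 := rfl
              rw [this, one_zpow, one_mul, zpow_one]
            rw [h3, ← mul_assoc, mul_inv_cancel₀ (Units.ne_zero t), one_mul] at h2
            rw [hy', ← Module.End.mul_apply, ← map_mul, h2, map_mul, Module.End.mul_apply, k6, map_smul]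
            congr 2
            rw [ht, Units.val_mk0]; field_simp
          · have h2 := hconj 10 (by norm_num) ((((1 : Fˣ) ^ (ca 10) * t ^ (cb 10) : Fˣ) : F)⁻¹ * u)
            rw [← mul_assoc, mul_inv_cancel₀ (Units.ne_zero _), one_mul] at h2
            rw [hy', ← Module.End.mul_apply, ← map_mul, h2, map_mul, Module.End.mul_apply, k10, map_smul, zero_mul, zero_mul]
          · have h2 := hconj 11 (by norm_num) ((((1 : Fˣ) ^ (ca 11) * t ^ (cb 11) : Fˣ) : F)⁻¹ * u)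
            rw [← mul_assoc, mul_inv_cancel₀ (Units.ne_zero _), one_mul] at h2
            rw [hy', ← Module.End.mul_apply, ← map_mul, h2, map_mul, Module.End.mul_apply, k11, map_smul, zero_mul, zero_mul]
        have hy'0 : y' ≠ 0 := by
          intro h
          apply hyb
          have h3 : ρ (X.h 1 t)⁻¹ (ρ (X.h 1 t) yb) = 0 := by rw [← hy', h, map_zero]
          rw [← Module.End.mul_apply, ← map_mul, inv_mul_cancel, map_one, Module.End.one_apply] at h3
          exact h3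
        intro y hy
        obtain ⟨d, hd⟩ := (finrank_eq_one_iff_of_nonzero' (⟨y', hy'J⟩ : J X ψ ρ [(6, c), (10, 0), (11, 0)])
          (fun h => hy'0 (congrArg Subtype.val h))).mp (h1 c hc) ⟨y, hy⟩
        have hd' : d • y' = y := congrArg Subtype.val hd
        rw [← hd']
        exact W.smul_mem _ hy'W
    intro y hy
    have h2 : ∑ c : F, ∑ u : F, ψ (-(c * u)) • ρ (X.x 6 u) y = (Fintype.card F : ℂ) • y := by
      rw [Finset.sum_comm]
      have h3 : ∀ u : F, ∑ c : F, ψ (-(c * u)) • ρ (X.x 6 u) y = (if u = 0 then (Fintype.card F : ℂ) else 0) • ρ (X.x 6 u) y := by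
        intro u
        rw [← Finset.sum_smul]
        congr 1
        have h4 := AddChar.sum_mulShift (R := F) (R' := ℂ) (-u) (AddChar.IsPrimitive.of_ne_one hψ)
        simp only [neg_eq_zero, Nat.cast_ite, Nat.cast_zero] at h4
        rw [← h4]
        refine Finset.sum_congr rfl fun c _ => ?_
        congr 1; ring
      simp only [h3]
      rw [Finset.sum_eq_single 0]
      · rw [if_pos rfl, Tr.x_zero X (by norm_num), map_one, Module.End.one_apply]
      · intro u _ hu; rw [if_neg hu, zero_smul]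
      · intro h; exact absurd (Finset.mem_univ _) h
    have h3 : y = (Fintype.card F : ℂ)⁻¹ • ∑ c : F, ∑ u : F, ψ (-(c * u)) • ρ (X.x 6 u) y := by
      rw [h2, smul_smul, inv_mul_cancel₀ (Nat.cast_ne_zero.mpr Fintype.card_ne_zero), one_smul]
    rw [h3]
    exact W.smul_mem _ (Submodule.sum_mem _ fun c _ => key c (hJ6 c y hy))
  have hcard := B2s3.b2_step3 X ρ hψ hv0 h6 h10 h11 (let ⟨c, _, h⟩ := hna; ⟨c, h⟩) hline h5 h1 W (fun t => hWg _ (c5 t)) (fun t => hWg _ (c10 t))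
    (hWg _ cnc) hτ (z := 1) one_ne_zero
  have hUW : J X ψ ρ [(10, 0), (11, (1 : F))] ⊓ W = J X ψ ρ [(10, 0), (11, 1)] := by
    apply Submodule.eq_of_le_of_finrank_le inf_le_left
    have h5 : finrank ℂ (J X ψ ρ [(10, 0), (11, (1 : F))]) = Fintype.card F := hZ 1 one_ne_zero
    rw [h5]; exact hcard
  refine B1h27.fin_contra X ρ hψ w hw hw1 1 one_ne_zero ?_ lam hlam0 ?_
  · rw [hz 1 one_ne_zero]; exact Fintype.card_ne_zero
  · intro x hx
    have : x ∈ J X ψ ρ [(10, 0), (11, (1 : F))] ⊓ W := by rw [hUW]; exact hx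
    exact (hW x).mp this.2

end Cfsg.Agent.G2M.B2h27
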