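import Cfsg.Agent.G2M.Def

set_option autoImplicit false
set_option maxHeartbeats 1000000

/-! S2338, B2 step 3 (helper29) -/

namespace Cfsg.Agent.G2M.S3x

open Module Finset

variable {F G : Type*} [Field F] [Fintype F] [DecidableEq F] [Group G] {V : Type*} [AddCommGroup V] [Module ℂ V]
  (X : G2G F G) {ψ : AddChar F ℂ} (ρ : Representation ℂ G V)

omit [Fintype F] [DecidableEq F] in
theorem mv {a b c d : G} (h : a * b = c * d) (v : V) : ρ a (ρ b v) = ρ c (ρ d v) := by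
  rw [← Module.End.mul_apply, ← map_mul, h, map_mul, Module.End.mul_apply]

omit [Fintype F] [DecidableEq F] in
theorem rna {r : ℕ} (hr : r < 12) : ∃ e : F, e * e = 1 ∧ ∀ u v, ρ (X.x (ra r) u) (ρ X.na v) = ρ X.na (ρ (X.x r (e * u)) v) := by
  obtain ⟨e, he, h⟩ := X.hna r hr
  have hee : e * e = 1 := by rcases he with rfl | rfl <;> ring
  refine ⟨e, hee, fun u v => mv ρ ?_ v⟩
  have h1 := h (e * u)
  rw [← mul_assoc e e u, hee, one_mul] at h1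
  rw [← h1]; group

omit [Fintype F] [DecidableEq F] in
theorem rnai {r : ℕ} (hr : r < 12) : ∃ e : F, e * e = 1 ∧ ∀ u v, ρ (X.x r u) (ρ X.na⁻¹ v) = ρ X.na⁻¹ (ρ (X.x (ra r) (e * u)) v) := by
  obtain ⟨e, he, h⟩ := X.hna r hr
  have hee : e * e = 1 := by rcases he with rfl | rfl <;> ring
  refine ⟨e, hee, fun u v => mv ρ ?_ v⟩
  rw [← h u]; group

omit [Fintype F] [DecidableEq F] in
theorem rnb {r : ℕ} (hr : r < 12) : ∃ e : F, e * e = 1 ∧ ∀ u v, ρ (X.x (rb r) u) (ρ X.nb v) = ρ X.nb (ρ (X.x r (e * u)) v) := by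
  obtain ⟨e, he, h⟩ := X.hnb r hr
  have hee : e * e = 1 := by rcases he with rfl | rfl <;> ring
  refine ⟨e, hee, fun u v => mv ρ ?_ v⟩
  have h1 := h (e * u)
  rw [← mul_assoc e e u, hee, one_mul] at h1
  rw [← h1]; group

omit [Fintype F] [DecidableEq F] in
theorem rnbi {r : ℕ} (hr : r < 12) : ∃ e : F, e * e = 1 ∧ ∀ u v, ρ (X.x r u) (ρ X.nb⁻¹ v) = ρ X.nb⁻¹ (ρ (X.x (rb r) (e * u)) v) := by
  obtain ⟨e, he, h⟩ := X.hnb r hr
  have hee : e * e = 1 := by rcases he with rfl | rfl <;> ring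
  refine ⟨e, hee, fun u v => mv ρ ?_ v⟩
  rw [← h u]; group

omit [Fintype F] [DecidableEq F] in
theorem rth {r : ℕ} (hr : r < 12) (s t : Fˣ) : ∃ c : F, c ≠ 0 ∧ ∀ u v, ρ (X.x r u) (ρ (X.h s t) v) = ρ (X.h s t) (ρ (X.x r (c * u)) v) := by
  have h := X.tor s t r hr
  set d : Fˣ := s ^ (ca r) * t ^ (cb r) with hd
  refine ⟨((d⁻¹ : Fˣ) : F), Units.ne_zero _, fun u v => mv ρ ?_ v⟩
  have h1 := h (((d⁻¹ : Fˣ) : F) * u)
  rw [← mul_assoc, ← Units.val_mul, mul_inv_cancel, Units.val_one, one_mul] at h1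
  rw [← h1]; group

omit [Fintype F] [DecidableEq F] in
theorem x0 {r : ℕ} (hr : r < 12) : X.x r 0 = 1 := by
  have h := X.add r hr 0 0
  rw [add_zero] at h
  exact (mul_eq_left.1 h.symm)

omit [Fintype F] [DecidableEq F] in
theorem xadd {r : ℕ} (hr : r < 12) (s t : F) (v : V) : ρ (X.x r s) (ρ (X.x r t) v) = ρ (X.x r (s + t)) v := by
  rw [X.add r hr, map_mul, Module.End.mul_apply]

omit [Fintype F] [DecidableEq F] in
theorem xinv {r : ℕ} (hr : r < 12) (s : F) : (X.x r s)⁻¹ = X.x r (-s) := by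
  rw [inv_eq_iff_mul_eq_one, ← X.add r hr, add_neg_cancel, x0 X hr]

/-- fixed by `X_10`, `X_11` -/
def Tau (w : V) : Prop := (∀ u, ρ (X.x 10 u) w = w) ∧ (∀ u, ρ (X.x 11 u) w = w)

def P (ψ : AddChar F ℂ) (b : F) : V →ₗ[ℂ] V := ∑ r : F, ψ (-(b * r)) • ρ (X.x 6 r)
def EQ : V →ₗ[ℂ] V := ∑ s : F, ∑ t : F, ρ (X.x 10 s) * ρ (X.x 11 t)

omit [DecidableEq F] in
theorem P_apply (b : F) (w : V) : P X ρ ψ b w = ∑ r : F, ψ (-(b * r)) • ρ (X.x 6 r) w := by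
  simp [P, LinearMap.sum_apply]

omit [DecidableEq F] in
theorem EQ_apply (w : V) : EQ X ρ w = ∑ s : F, ∑ t : F, ρ (X.x 10 s) (ρ (X.x 11 t) w) := by
  simp [EQ, LinearMap.sum_apply]

omit [Fintype F] [DecidableEq F] in
theorem tau6 {w : V} (h : Tau X ρ w) (r : F) : Tau X ρ (ρ (X.x 6 r) w) := by
  constructor
  · intro u
    have h1 : X.x 10 u * X.x 6 r = X.x 6 r * (X.x 10 u * X.x 11 (r * u)) := by
      rw [← X.c610 r u]; group
    rw [mv ρ h1, map_mul, Module.End.mul_apply, h.2, h.1]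
  · intro u
    have h1 := X.comm 6 11 (by simp) r u
    rw [mv ρ h1.symm, h.2]

omit [Fintype F] [DecidableEq F] in
theorem tauNb {w : V} (h : Tau X ρ w) : Tau X ρ (ρ X.nb w) := by
  constructor
  · intro u
    obtain ⟨e, -, he⟩ : ∃ e : F, e * e = 1 ∧ ∀ u v, ρ (X.x 10 u) (ρ X.nb v) = ρ X.nb (ρ (X.x 11 (e * u)) v) := rnb X ρ (r := 11) (by norm_num)
    rw [he, h.2]
  · intro u
    obtain ⟨e, -, he⟩ : ∃ e : F, e * e = 1 ∧ ∀ u v, ρ (X.x 11 u) (ρ X.nb v) = ρ X.nb (ρ (X.x 10 (e * u)) v) := rnb X ρ (r := 10) (by norm_num)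
    rw [he, h.1]

omit [Fintype F] [DecidableEq F] in
theorem tauNbi {w : V} (h : Tau X ρ w) : Tau X ρ (ρ X.nb⁻¹ w) := by
  constructor
  · intro u
    obtain ⟨e, -, he⟩ : ∃ e : F, e * e = 1 ∧ ∀ u v, ρ (X.x 10 u) (ρ X.nb⁻¹ v) = ρ X.nb⁻¹ (ρ (X.x 11 (e * u)) v) := rnbi X ρ (r := 10) (by norm_num)
    rw [he, h.2]
  · intro u
    obtain ⟨e, -, he⟩ : ∃ e : F, e * e = 1 ∧ ∀ u v, ρ (X.x 11 u) (ρ X.nb⁻¹ v) = ρ X.nb⁻¹ (ρ (X.x 10 (e * u)) v) := rnbi X ρ (r := 11) (by norm_num)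
    rw [he, h.1]

omit [DecidableEq F] in
theorem tauP {w : V} (h : Tau X ρ w) (b : F) : Tau X ρ (P X ρ ψ b w) := by
  constructor
  · intro u
    rw [P_apply, map_sum]
    exact Finset.sum_congr rfl fun r _ => by rw [map_smul, (tau6 X ρ h r).1]
  · intro u
    rw [P_apply, map_sum]
    exact Finset.sum_congr rfl fun r _ => by rw [map_smul, (tau6 X ρ h r).2]

omit [DecidableEq F] in
theorem P6 (b u : F) (w : V) : ρ (X.x 6 u) (P X ρ ψ b w) = ψ (b * u) • P X ρ ψ b w := by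
  rw [P_apply, map_sum, Finset.smul_sum]
  refine Fintype.sum_equiv (Equiv.addLeft u) _ _ fun t => ?_
  show ρ (X.x 6 u) (ψ (-(b * t)) • ρ (X.x 6 t) w) = ψ (b * u) • ψ (-(b * (u + t))) • ρ (X.x 6 (u + t)) w
  rw [map_smul, xadd X ρ (by norm_num), smul_smul, ← AddChar.map_add_eq_mul]
  congr 2; ring

omit [DecidableEq F] in
theorem EQ_tau {w : V} (h : Tau X ρ w) : EQ X ρ w = ((Fintype.card F : ℂ) * Fintype.card F) • w := by
  rw [EQ_apply]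
  simp only [h.2, h.1, Finset.sum_const, Finset.card_univ, ← Nat.cast_smul_eq_nsmul ℂ, smul_smul]

omit [DecidableEq F] in
theorem EQ10 (u : F) (w : V) : EQ X ρ (ρ (X.x 10 u) w) = EQ X ρ w := by
  rw [EQ_apply, EQ_apply]
  refine Fintype.sum_equiv (Equiv.addRight u) _ _ fun s => ?_
  refine Finset.sum_congr rfl fun t _ => ?_
  have h1 := X.comm 10 11 (by simp) u t
  rw [mv ρ h1.symm, xadd X ρ (by norm_num)]; rfl

omit [DecidableEq F] in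
theorem EQ6 (u : F) (w : V) : EQ X ρ (ρ (X.x 6 u) w) = ρ (X.x 6 u) (EQ X ρ w) := by
  rw [EQ_apply, EQ_apply, map_sum]
  refine Finset.sum_congr rfl fun s _ => ?_
  rw [map_sum]
  refine Fintype.sum_equiv (Equiv.addLeft (u * s)) _ _ fun t => ?_
  show ρ (X.x 10 s) (ρ (X.x 11 t) (ρ (X.x 6 u) w)) = ρ (X.x 6 u) (ρ (X.x 10 s) (ρ (X.x 11 (u * s + t)) w))
  have h1 := X.comm 6 11 (by simp) u t
  have h2 : X.x 10 s * X.x 6 u = X.x 6 u * (X.x 10 s * X.x 11 (u * s)) := by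
    rw [← X.c610 u s]; group
  rw [mv ρ h1.symm, mv ρ h2, map_mul, Module.End.mul_apply, xadd X ρ (by norm_num)]

omit [DecidableEq F] in
theorem EQnb (w : V) : EQ X ρ (ρ X.nb w) = ρ X.nb (EQ X ρ w) := by
  obtain ⟨e, hee, he⟩ : ∃ e : F, e * e = 1 ∧ ∀ u v, ρ (X.x 10 u) (ρ X.nb v) = ρ X.nb (ρ (X.x 11 (e * u)) v) := rnb X ρ (r := 11) (by norm_num)
  obtain ⟨f, hff, hf⟩ : ∃ e : F, e * e = 1 ∧ ∀ u v, ρ (X.x 11 u) (ρ X.nb v) = ρ X.nb (ρ (X.x 10 (e * u)) v) := rnb X ρ (r := 10) (by norm_num)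
  have he0 : e ≠ 0 := fun h => by simp [h] at hee
  have hf0 : f ≠ 0 := fun h => by simp [h] at hff
  rw [EQ_apply, EQ_apply, map_sum, Finset.sum_comm]
  refine Fintype.sum_equiv (Equiv.mulLeft₀ f hf0) _ _ fun t => ?_
  rw [map_sum]
  refine Fintype.sum_equiv (Equiv.mulLeft₀ e he0) _ _ fun s => ?_
  show ρ (X.x 10 s) (ρ (X.x 11 t) (ρ X.nb w)) = ρ X.nb (ρ (X.x 10 (f * t)) (ρ (X.x 11 (e * s)) w))
  rw [hf, he, mv ρ (X.comm 10 11 (by simp) (f * t) (e * s))]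

omit [DecidableEq F] in
theorem EQh (a b : Fˣ) (w : V) : EQ X ρ (ρ (X.h a b) w) = ρ (X.h a b) (EQ X ρ w) := by
  obtain ⟨e, he0, he⟩ := rth X ρ (r := 10) (by norm_num) a b
  obtain ⟨f, hf0, hf⟩ := rth X ρ (r := 11) (by norm_num) a b
  rw [EQ_apply, EQ_apply, map_sum]
  refine Fintype.sum_equiv (Equiv.mulLeft₀ e he0) _ _ fun s => ?_
  rw [map_sum]
  refine Fintype.sum_equiv (Equiv.mulLeft₀ f hf0) _ _ fun t => ?_
  show ρ (X.x 10 s) (ρ (X.x 11 t) (ρ (X.h a b) w)) = ρ (X.h a b) (ρ (X.x 10 (e * s)) (ρ (X.x 11 (f * t)) w))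
  rw [hf, he]

/-- K1 -/
theorem k1 (hψ : ψ ≠ 0) {b : F} (hb : b ≠ 0) {w : V} (hw : Tau X ρ w) (h6 : ∀ u, ρ (X.x 6 u) w = ψ (b * u) • w) {t : F} (ht : t ≠ 0) :
    EQ X ρ (ρ (X.x 1 t) w) = 0 := by
  have hprim : ψ.IsPrimitive := AddChar.IsPrimitive.of_ne_one hψ
  obtain ⟨n, hn, s1, t1, hn1⟩ := X.r10 t ht
  rw [hn, map_mul, map_mul, Module.End.mul_apply, Module.End.mul_apply, hw.1, EQ10, hn1, map_mul, Module.End.mul_apply, EQh]
  have h0 : EQ X ρ (ρ (X.na * X.nb * X.na⁻¹) w) = 0 := by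
    obtain ⟨e1, h1, na11⟩ : ∃ e : F, e * e = 1 ∧ ∀ u v, ρ (X.x 11 u) (ρ X.na v) = ρ X.na (ρ (X.x 11 (e * u)) v) := rna X ρ (r := 11) (by norm_num)
    obtain ⟨e2, h2, nb10⟩ : ∃ e : F, e * e = 1 ∧ ∀ u v, ρ (X.x 11 u) (ρ X.nb v) = ρ X.nb (ρ (X.x 10 (e * u)) v) := rnb X ρ (r := 10) (by norm_num)
    obtain ⟨e3, h3, na10⟩ : ∃ e : F, e * e = 1 ∧ ∀ u v, ρ (X.x 10 u) (ρ X.na⁻¹ v) = ρ X.na⁻¹ (ρ (X.x 6 (e * u)) v) := rnai X ρ (r := 10) (by norm_num)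
    rw [EQ_apply]
    apply Finset.sum_eq_zero
    intro s _
    rw [← map_sum]
    have h4 : ∀ t, ρ (X.x 11 t) (ρ (X.na * X.nb * X.na⁻¹) w) = ψ (t * (b * (e3 * (e2 * e1)))) • ρ (X.na * X.nb * X.na⁻¹) w := by
      intro t
      rw [map_mul, map_mul, Module.End.mul_apply, Module.End.mul_apply, na11, nb10, na10, h6, map_smul, map_smul, map_smul]
      congr 2; ring
    rw [Finset.sum_congr rfl fun t _ => h4 t, ← Finset.sum_smul, AddChar.sum_mulShift _ hprim]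
    have he1 : e1 ≠ 0 := fun h => by simp [h] at h1
    have he2 : e2 ≠ 0 := fun h => by simp [h] at h2
    have he3 : e3 ≠ 0 := fun h => by simp [h] at h3
    rw [if_neg (mul_ne_zero hb (mul_ne_zero he3 (mul_ne_zero he2 he1)))]
    simp
  rw [h0, map_zero]

/-- sum of all `P b` -/
theorem sumP (hψ : ψ ≠ 0) (w : V) : ∑ b : F, P X ρ ψ b w = (Fintype.card F : ℂ) • w := by
  have hprim : ψ.IsPrimitive := AddChar.IsPrimitive.of_ne_one hψ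
  simp only [P_apply]
  rw [Finset.sum_comm]
  have h1 : ∀ r : F, ∑ b : F, ψ (-(b * r)) • ρ (X.x 6 r) w = (if r = 0 then (Fintype.card F : ℂ) • w else 0) := by
    intro r
    rw [← Finset.sum_smul]
    have h2 : ∀ b : F, ψ (-(b * r)) = ψ (b * (-r)) := fun b => by congr 1; ring
    rw [Finset.sum_congr rfl fun b _ => h2 b, AddChar.sum_mulShift _ hprim]
    by_cases hr : r = 0
    · rw [if_pos (by rw [hr, neg_zero]), if_pos hr, hr, x0 X (by norm_num), map_one]; rfl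
    · rw [if_neg (by simpa using hr), if_neg hr, Nat.cast_zero, zero_smul]
  rw [Finset.sum_congr rfl fun r _ => h1 r, Finset.sum_ite_eq' Finset.univ (0 : F)]
  simp

section main
variable {v : V} (hv : Tau X ρ v) (h6 : ∀ u, ρ (X.x 6 u) v = v)
  (hline : ∀ w, (∀ t, ρ (X.x 6 t) w = w) → Tau X ρ w → ∃ c : ℂ, w = c • v)
  (H2 : ∀ t : F, t ≠ 0 → ∑ u : F, ρ (X.x 6 u) (ρ (X.x 5 t) v) = - v)

include hv h6 hline H2

/-- K2 -/
theorem k2 (hv0 : v ≠ 0) {t : F} (ht : t ≠ 0) : EQ X ρ (ρ (X.x 1 t) v) = -((Fintype.card F : ℂ) • v) := by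
  obtain ⟨e1, h1, na11⟩ : ∃ e : F, e * e = 1 ∧ ∀ u v, ρ (X.x 11 u) (ρ X.na v) = ρ X.na (ρ (X.x 11 (e * u)) v) := rna X ρ (r := 11) (by norm_num)
  obtain ⟨e2, h2, na6⟩ : ∃ e : F, e * e = 1 ∧ ∀ u v, ρ (X.x 10 u) (ρ X.na v) = ρ X.na (ρ (X.x 6 (e * u)) v) := rna X ρ (r := 6) (by norm_num)
  obtain ⟨e3, h3, na10⟩ : ∃ e : F, e * e = 1 ∧ ∀ u v, ρ (X.x 6 u) (ρ X.na v) = ρ X.na (ρ (X.x 10 (e * u)) v) := rna X ρ (r := 10) (by norm_num)
  obtain ⟨e5, h5, na5⟩ : ∃ e : F, e * e = 1 ∧ ∀ u v, ρ (X.x 1 u) (ρ X.na v) = ρ X.na (ρ (X.x 5 (e * u)) v) := rna X ρ (r := 5) (by norm_num)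
  have he2 : e2 ≠ 0 := fun h => by simp [h] at h2
  have he5 : e5 ≠ 0 := fun h => by simp [h] at h5
  obtain ⟨c, hc⟩ := hline (ρ X.na v) (fun u => by rw [na10, hv.1]) ⟨fun u => by rw [na6, h6], fun u => by rw [na11, hv.2]⟩
  have hinj : Function.Injective (ρ X.na) := by
    intro a b hab
    have := congrArg (ρ X.na⁻¹) hab
    rwa [← Module.End.mul_apply, ← Module.End.mul_apply, ← map_mul, inv_mul_cancel, map_one] at this
  have hc0 : c ≠ 0 := by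
    intro h
    rw [h, zero_smul] at hc
    exact hv0 (hinj (by rw [hc, map_zero]))
  have key : ∀ t : F, ρ (X.x 1 t) v = c⁻¹ • ρ X.na (ρ (X.x 5 (e5 * t)) v) := by
    intro t
    rw [← na5, hc, map_smul, smul_smul, inv_mul_cancel₀ hc0, one_smul]
  have h11 : ∀ r : F, ρ (X.x 11 r) (ρ (X.x 1 t) v) = ρ (X.x 1 t) v := by
    intro r
    rw [key, map_smul, na11]
    congr 2
    obtain ⟨e, -, he⟩ := X.c511 (e5 * t) (e1 * r)
    have h7 : X.x 11 (e1 * r) * X.x 5 (e5 * t) = X.x 5 (e5 * t) * (X.x 11 (e1 * r) * X.x 10 (e * (e5 * t) * (e1 * r))) := by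
      rw [← he]; group
    rw [mv ρ h7, map_mul, Module.End.mul_apply, hv.1, hv.2]
  rw [EQ_apply]
  simp only [h11, Finset.sum_const, Finset.card_univ]
  rw [← Finset.smul_sum]
  have h8 : ∑ s : F, ρ (X.x 10 s) (ρ (X.x 1 t) v) = -v := by
    have h9 := congrArg (fun w => c⁻¹ • ρ X.na w) (H2 (e5 * t) (mul_ne_zero he5 ht))
    simp only [map_neg, map_sum, Finset.smul_sum, hc, smul_neg, smul_smul, inv_mul_cancel₀ hc0, one_smul] at h9
    rw [← h9]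
    refine Fintype.sum_equiv (Equiv.mulLeft₀ e2 he2) _ _ fun s => ?_
    show ρ (X.x 10 s) (ρ (X.x 1 t) v) = c⁻¹ • ρ X.na (ρ (X.x 6 (e2 * s)) (ρ (X.x 5 (e5 * t)) v))
    rw [key, map_smul, na6]
  rw [h8, smul_neg, ← Nat.cast_smul_eq_nsmul ℂ]

/-- K3 -/
theorem k3 (hψ : ψ ≠ 0) (hv0 : v ≠ 0) {u : V} (hu : Tau X ρ u) {c : ℂ} (hc : P X ρ ψ 0 u = c • v) {t : F} (ht : t ≠ 0) :
    EQ X ρ (ρ (X.x 1 t) u) = -(c • v) := by
  have hq : (Fintype.card F : ℂ) ≠ 0 := by exact_mod_cast Fintype.card_ne_zero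
  have h1 : u = (Fintype.card F : ℂ)⁻¹ • ∑ b : F, P X ρ ψ b u := by
    rw [sumP X ρ hψ, smul_smul, inv_mul_cancel₀ hq, one_smul]
  rw [h1, map_smul, map_smul, map_sum, map_sum, Finset.sum_eq_single (0 : F), hc, map_smul, map_smul,
    k2 X ρ hv h6 hline H2 hv0 ht, smul_neg, smul_neg, smul_smul, smul_smul]
  · congr 2; field_simp
  · intro b _ hb
    exact k1 X ρ hψ hb (tauP X ρ hu b) (fun u' => P6 X ρ b u' u) ht
  · intro h; exact absurd (Finset.mem_univ _) h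

/-- K4 -/
theorem k4 (hψ : ψ ≠ 0) (hv0 : v ≠ 0) {u : V} (hu : Tau X ρ u) {c : ℂ} (hc : P X ρ ψ 0 (ρ X.nb⁻¹ u) = c • v) {s : F} (hs : s ≠ 0) :
    EQ X ρ (ρ (X.x 0 s) u) = -(c • ρ X.nb v) := by
  obtain ⟨e, hee, he⟩ : ∃ e : F, e * e = 1 ∧ ∀ u v, ρ (X.x 0 u) (ρ X.nb v) = ρ X.nb (ρ (X.x 1 (e * u)) v) := rnb X ρ (r := 1) (by norm_num)
  have he0 : e ≠ 0 := fun h => by simp [h] at hee
  have h1 : u = ρ X.nb (ρ X.nb⁻¹ u) := by
    rw [← Module.End.mul_apply, ← map_mul, mul_inv_cancel, map_one]; rfl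
  have h2 : EQ X ρ (ρ (X.x 0 s) (ρ X.nb (ρ X.nb⁻¹ u))) = -(c • ρ X.nb v) := by
    rw [he, EQnb, k3 X ρ hv h6 hline H2 hψ hv0 (tauNbi X ρ hu) hc (mul_ne_zero he0 hs), map_neg, map_smul]
  rw [← h1] at h2; exact h2

/-- K5 -/
theorem k5 (hψ : ψ ≠ 0) (b : F) :
    P X ρ ψ 0 (ρ X.nb⁻¹ (P X ρ ψ b (ρ X.nb v))) = (if b = 0 then (1 : ℂ) else (Fintype.card F : ℂ) + 1) • v := by
  have hprim : ψ.IsPrimitive := AddChar.IsPrimitive.of_ne_one hψ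
  obtain ⟨e, hee, he⟩ : ∃ e : F, e * e = 1 ∧ ∀ u v, ρ (X.x 6 u) (ρ X.nb v) = ρ X.nb (ρ (X.x 5 (e * u)) v) := rnb X ρ (r := 5) (by norm_num)
  have he0 : e ≠ 0 := fun h => by simp [h] at hee
  have hn : ∀ w, ρ X.nb⁻¹ (ρ X.nb w) = w := by
    intro w
    rw [← Module.End.mul_apply, ← map_mul, inv_mul_cancel, map_one]; rfl
  have h1 : ρ X.nb⁻¹ (P X ρ ψ b (ρ X.nb v)) = ∑ r : F, ψ (-(b * r)) • ρ (X.x 5 (e * r)) v := by
    rw [P_apply, map_sum]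
    exact Finset.sum_congr rfl fun r _ => by rw [map_smul, he, hn]
  have h2 : ∀ t : F, P X ρ ψ 0 (ρ (X.x 5 t) v) = if t = 0 then ((Fintype.card F : ℂ) + 1) • v - v else -v := by
    intro t
    rw [P_apply]
    simp only [zero_mul, neg_zero, AddChar.map_zero_eq_one, one_smul]
    by_cases ht : t = 0
    · rw [if_pos ht, ht, x0 X (by norm_num), map_one]
      simp only [Module.End.one_apply, h6, Finset.sum_const, Finset.card_univ]
      rw [add_smul, one_smul, add_sub_cancel_right, Nat.cast_smul_eq_nsmul]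
    · rw [if_neg ht, H2 t ht]
  have h3 : ∀ t : F, P X ρ ψ 0 (ρ (X.x 5 t) v) = (if t = 0 then ((Fintype.card F : ℂ)) • v else 0) - (if t = 0 then (0 : V) else v) := by
    intro t
    rw [h2]
    by_cases ht : t = 0
    · simp [ht, add_smul]
    · simp [ht]
  rw [h1, map_sum]
  have h4 : ∀ r : F, P X ρ ψ 0 (ψ (-(b * r)) • ρ (X.x 5 (e * r)) v) =
      (if r = 0 then ((Fintype.card F : ℂ) + 1) • v else 0) - ψ (r * (-b)) • v := by
    intro r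
    rw [map_smul, h2]
    by_cases hr : r = 0
    · simp [hr]
    · rw [if_neg (mul_ne_zero he0 hr), if_neg hr, zero_sub, smul_neg]
      congr 3; ring
  rw [Finset.sum_congr rfl fun r _ => h4 r, Finset.sum_sub_distrib, Finset.sum_ite_eq' Finset.univ (0 : F), ← Finset.sum_smul,
    AddChar.sum_mulShift _ hprim]
  by_cases hb : b = 0
  · simp [hb, add_smul]
  · simp [hb]

/-- K6 -/
theorem k6 (hψ : ψ ≠ 0) (hv0 : v ≠ 0) (b : F) {s : F} (hs : s ≠ 0) :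
    ∑ t : F, EQ X ρ (ρ (X.x 0 s) (ρ (X.x 1 t) (P X ρ ψ b (ρ X.nb v)))) =
      -((if b = 0 then (1 : ℂ) else (Fintype.card F : ℂ) + 1) • P X ρ ψ b (ρ X.nb v)) := by
  set c : ℂ := (if b = 0 then (1 : ℂ) else (Fintype.card F : ℂ) + 1) with hc
  have hwt : Tau X ρ (P X ρ ψ b (ρ X.nb v)) := tauP X ρ (tauNb X ρ hv) b
  have h4 := k4 X ρ hv h6 hline H2 hψ hv0 hwt (k5 X ρ hv h6 hline H2 hψ b) hs
  rw [← hc] at h4
  have h1 : ∀ r : F, EQ X ρ (ρ (X.x 0 s) (ρ (X.x 1 (r * s)) (P X ρ ψ b (ρ X.nb v)))) = -(c • (ψ (-(b * -r)) • ρ (X.x 6 (-r)) (ρ X.nb v))) := by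
    intro r
    have h2 : X.x 0 s * X.x 1 (r * s) = X.x 6 (-r) * (X.x 0 s * X.x 6 r) := by
      rw [← X.c60 r s, xinv X (by norm_num)]; group
    rw [mv ρ h2, EQ6, map_mul, Module.End.mul_apply, P6, map_smul, map_smul, h4, smul_neg, map_neg, map_smul, map_smul, smul_comm]
    congr 4; ring
  have h3 : ∑ t : F, EQ X ρ (ρ (X.x 0 s) (ρ (X.x 1 t) (P X ρ ψ b (ρ X.nb v)))) =
      ∑ r : F, EQ X ρ (ρ (X.x 0 s) (ρ (X.x 1 (r * s)) (P X ρ ψ b (ρ X.nb v)))) :=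
    (Fintype.sum_equiv (Equiv.mulRight₀ s hs) _ _ fun r => rfl).symm
  rw [h3, Finset.sum_congr rfl fun r _ => h1 r, Finset.sum_neg_distrib, ← Finset.smul_sum]
  congr 2
  rw [P_apply]
  exact Fintype.sum_equiv (Equiv.neg F) _ _ fun r => rfl

/-- K7 -/
theorem k7 (hψ : ψ ≠ 0) (hv0 : v ≠ 0) (b : F) :
    ∑ t : F, EQ X ρ (ρ (X.x 0 0) (ρ (X.x 1 t) (P X ρ ψ b (ρ X.nb v)))) =
      (if b = 0 then (Fintype.card F : ℂ) else (Fintype.card F : ℂ) * Fintype.card F) • P X ρ ψ b (ρ X.nb v) := by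
  have hwt : Tau X ρ (P X ρ ψ b (ρ X.nb v)) := tauP X ρ (tauNb X ρ hv) b
  have h1 : ∀ t : F, EQ X ρ (ρ (X.x 0 0) (ρ (X.x 1 t) (P X ρ ψ b (ρ X.nb v)))) =
      (if t = 0 then ((Fintype.card F : ℂ) * Fintype.card F + (if b = 0 then (Fintype.card F : ℂ) else 0)) • P X ρ ψ b (ρ X.nb v) else 0)
       - (if b = 0 then (Fintype.card F : ℂ) else 0) • P X ρ ψ b (ρ X.nb v) := by
    intro t
    rw [x0 X (by norm_num), map_one, Module.End.one_apply]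
    by_cases ht : t = 0
    · rw [if_pos ht, ht, x0 X (by norm_num), map_one, Module.End.one_apply, EQ_tau X ρ hwt, add_smul, add_sub_cancel_right]
    · rw [if_neg ht, zero_sub]
      by_cases hb : b = 0
      · rw [if_pos hb]
        obtain ⟨a, ha⟩ := hline (P X ρ ψ b (ρ X.nb v)) (fun u => by rw [P6, hb, zero_mul, AddChar.map_zero_eq_one, one_smul]) hwt
        rw [ha, map_smul, map_smul, k2 X ρ hv h6 hline H2 hv0 ht, smul_neg, smul_comm]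
      · rw [if_neg hb, zero_smul, neg_zero]
        exact k1 X ρ hψ hb hwt (fun u' => P6 X ρ b u' _) ht
  rw [Finset.sum_congr rfl fun r _ => h1 r, Finset.sum_sub_distrib, Finset.sum_ite_eq' Finset.univ (0 : F), Finset.sum_const,
    Finset.card_univ, if_pos (Finset.mem_univ _), ← Nat.cast_smul_eq_nsmul ℂ, smul_smul, ← sub_smul]
  congr 1
  by_cases hb : b = 0
  · simp [hb]
  · simp [hb]

/-- the main vectors -/
def Phi (X : G2G F G) (ρ : Representation ℂ G V) (ψ : AddChar F ℂ) (z : F) (w : V) : V :=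
  ∑ s : F, ψ (-(z * s)) • ∑ t : F, ρ (X.x 0 s) (ρ (X.x 1 t) w)

theorem k8 (hψ : ψ ≠ 0) (hv0 : v ≠ 0) {z : F} (hz : z ≠ 0) (b : F) :
    ∃ m : ℂ, m ≠ 0 ∧ EQ X ρ (Phi X ρ ψ z (P X ρ ψ b (ρ X.nb v))) = m • P X ρ ψ b (ρ X.nb v) := by
  have hprim : ψ.IsPrimitive := AddChar.IsPrimitive.of_ne_one hψ
  set w := P X ρ ψ b (ρ X.nb v) with hw
  set c : ℂ := (if b = 0 then (1 : ℂ) else (Fintype.card F : ℂ) + 1) with hc
  set d : ℂ := (if b = 0 then (Fintype.card F : ℂ) else (Fintype.card F : ℂ) * Fintype.card F) with hd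
  refine ⟨d + c, ?_, ?_⟩
  · by_cases hb : b = 0
    · rw [hc, hd, if_pos hb, if_pos hb]
      exact Nat.cast_add_one_ne_zero (R := ℂ) _
    · rw [hc, hd, if_neg hb, if_neg hb, ← add_assoc, ← Nat.cast_mul, ← Nat.cast_add]
      exact Nat.cast_add_one_ne_zero (R := ℂ) _
  · have h1 : ∀ s : F, EQ X ρ (ψ (-(z * s)) • ∑ t : F, ρ (X.x 0 s) (ρ (X.x 1 t) w)) =
        (if s = 0 then (d + c) • w else 0) - ψ (s * (-z)) • (c • w) := by
      intro s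
      rw [map_smul, map_sum]
      by_cases hs : s = 0
      · rw [if_pos hs, hs, k7 X ρ hv h6 hline H2 hψ hv0 b]
        simp only [mul_zero, neg_zero, zero_mul, AddChar.map_zero_eq_one, one_smul]
        rw [add_smul, add_sub_cancel_right]
      · rw [if_neg hs, k6 X ρ hv h6 hline H2 hψ hv0 b hs, zero_sub, smul_neg]
        congr 3; ring
    rw [Phi, map_sum, Finset.sum_congr rfl fun r _ => h1 r, Finset.sum_sub_distrib, Finset.sum_ite_eq' Finset.univ (0 : F), ← Finset.sum_smul,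
      AddChar.sum_mulShift _ hprim, if_pos (Finset.mem_univ _), if_neg (by simpa using hz), Nat.cast_zero, zero_smul, sub_zero]

theorem wne (hψ : ψ ≠ 0) (hv0 : v ≠ 0) (b : F) : P X ρ ψ b (ρ X.nb v) ≠ 0 := by
  intro h
  have h1 := k5 X ρ hv h6 hline H2 hψ b
  rw [h, map_zero, map_zero] at h1
  rcases smul_eq_zero.1 h1.symm with h2 | h2
  · by_cases hb : b = 0
    · rw [if_pos hb] at h2; exact one_ne_zero h2
    · rw [if_neg hb] at h2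
      exact Nat.cast_add_one_ne_zero (R := ℂ) _ h2
  · exact hv0 h2

theorem indep (hψ : ψ ≠ 0) (hv0 : v ≠ 0) {z : F} (hz : z ≠ 0) :
    LinearIndependent ℂ (fun b : F => Phi X ρ ψ z (P X ρ ψ b (ρ X.nb v))) := by
  have hprim : ψ.IsPrimitive := AddChar.IsPrimitive.of_ne_one hψ
  rw [Fintype.linearIndependent_iff]
  intro g hg c
  choose m hm0 hm using fun b => k8 X ρ hv h6 hline H2 hψ hv0 hz b
  have h1 := congrArg (fun y => P X ρ ψ c (EQ X ρ y)) hg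
  simp only [map_sum, map_smul, hm, map_zero] at h1
  have h2 : ∀ b : F, P X ρ ψ c (P X ρ ψ b (ρ X.nb v)) = if b = c then (Fintype.card F : ℂ) • P X ρ ψ b (ρ X.nb v) else 0 := by
    intro b
    rw [P_apply X ρ c]
    have h3 : ∀ r : F, ψ (-(c * r)) • ρ (X.x 6 r) (P X ρ ψ b (ρ X.nb v)) = ψ (r * (b - c)) • P X ρ ψ b (ρ X.nb v) := by
      intro r
      rw [P6, smul_smul, ← AddChar.map_add_eq_mul]
      congr 2; ring
    rw [Finset.sum_congr rfl fun r _ => h3 r, ← Finset.sum_smul, AddChar.sum_mulShift _ hprim]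
    by_cases hb : b = c
    · rw [if_pos (by rw [hb, sub_self]), if_pos hb]
    · rw [if_neg (sub_ne_zero.2 hb), if_neg hb, Nat.cast_zero, zero_smul]
  rw [Finset.sum_eq_single c] at h1
  · rw [h2, if_pos rfl, smul_smul, smul_smul] at h1
    rcases smul_eq_zero.1 h1 with h4 | h4
    · rcases mul_eq_zero.1 h4 with h5 | h5
      · rcases mul_eq_zero.1 h5 with h6' | h6'
        · exact h6'
        · exact absurd h6' (hm0 c)
      · exact absurd h5 (by exact_mod_cast Fintype.card_ne_zero)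
    · exact absurd h4 (wne X ρ hv h6 hline H2 hψ hv0 c)
  · intro b _ hb
    rw [h2, if_neg hb, smul_zero, smul_zero]
  · intro h; exact absurd (Finset.mem_univ _) h

end main

omit [DecidableEq F] in
theorem phiJ (hψ : ψ ≠ 0) (z : F) (w : V) : Phi X ρ ψ z w ∈ J X ψ ρ [(0, z), (1, 0)] := by
  intro p hp u
  rcases List.mem_cons.1 hp with rfl | hp
  · show ρ (X.x 0 u) (Phi X ρ ψ z w) = ψ (z * u) • Phi X ρ ψ z w
    rw [Phi, map_sum, Finset.smul_sum]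
    refine Fintype.sum_equiv (Equiv.addLeft u) _ _ fun t => ?_
    show ρ (X.x 0 u) (ψ (-(z * t)) • ∑ t' : F, ρ (X.x 0 t) (ρ (X.x 1 t') w)) =
      ψ (z * u) • ψ (-(z * (u + t))) • ∑ t' : F, ρ (X.x 0 (u + t)) (ρ (X.x 1 t') w)
    rw [map_smul, map_sum, smul_smul, ← AddChar.map_add_eq_mul]
    congr 1
    · congr 1; ring
    · exact Finset.sum_congr rfl fun t' _ => by rw [xadd X ρ (by norm_num)]
  · have hp' : p = (1, 0) := by simpa using hp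
    rw [hp']
    show ρ (X.x 1 u) (Phi X ρ ψ z w) = ψ (0 * u) • Phi X ρ ψ z w
    rw [zero_mul, AddChar.map_zero_eq_one, one_smul, Phi, map_sum]
    refine Finset.sum_congr rfl fun s _ => ?_
    rw [map_smul, map_sum]
    congr 1
    refine Fintype.sum_equiv (Equiv.addLeft u) _ _ fun t => ?_
    show ρ (X.x 1 u) (ρ (X.x 0 s) (ρ (X.x 1 t) w)) = ρ (X.x 0 s) (ρ (X.x 1 (u + t)) w)
    rw [mv ρ (X.comm 0 1 (by simp) s u).symm, xadd X ρ (by norm_num)]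

omit [Fintype F] [DecidableEq F] in
theorem Jna {r r' : ℕ} (hr : r < 12) (hr' : r' < 12) : ∃ e : F, e * e = 1 ∧ ∀ z w, w ∈ J X ψ ρ [(r, z), (r', 0)] →
    ρ X.na w ∈ J X ψ ρ [(ra r, e * z), (ra r', 0)] := by
  obtain ⟨e, hee, he⟩ := rna X ρ hr
  obtain ⟨f, hff, hf⟩ := rna X ρ hr'
  refine ⟨e, hee, fun z w hw p hp u => ?_⟩
  rcases List.mem_cons.1 hp with rfl | hp
  · show ρ (X.x (ra r) u) (ρ X.na w) = ψ (e * z * u) • ρ X.na w
    rw [he, hw (r, z) (by simp), map_smul]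
    congr 2; ring
  · have hp' : p = (ra r', 0) := by simpa using hp
    rw [hp']
    show ρ (X.x (ra r') u) (ρ X.na w) = ψ (0 * u) • ρ X.na w
    rw [hf, hw (r', 0) (by simp), map_smul]
    simp

omit [Fintype F] [DecidableEq F] in
theorem Jnb {r r' : ℕ} (hr : r < 12) (hr' : r' < 12) : ∃ e : F, e * e = 1 ∧ ∀ z w, w ∈ J X ψ ρ [(r, z), (r', 0)] →
    ρ X.nb w ∈ J X ψ ρ [(rb r, e * z), (rb r', 0)] := by
  obtain ⟨e, hee, he⟩ := rnb X ρ hr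
  obtain ⟨f, hff, hf⟩ := rnb X ρ hr'
  refine ⟨e, hee, fun z w hw p hp u => ?_⟩
  rcases List.mem_cons.1 hp with rfl | hp
  · show ρ (X.x (rb r) u) (ρ X.nb w) = ψ (e * z * u) • ρ X.nb w
    rw [he, hw (r, z) (by simp), map_smul]
    congr 2; ring
  · have hp' : p = (rb r', 0) := by simpa using hp
    rw [hp']
    show ρ (X.x (rb r') u) (ρ X.nb w) = ψ (0 * u) • ρ X.nb w
    rw [hf, hw (r', 0) (by simp), map_smul]
    simp

/-- transfer to the opposite -/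
theorem trans (z : F) : ∃ z' : F, (z ≠ 0 → z' ≠ 0) ∧ ∀ w, w ∈ J X ψ ρ [(0, z'), (1, 0)] →
    ρ X.nb (ρ X.na (ρ X.nb (ρ X.na (ρ X.nb (ρ X.na w))))) ∈ J X ψ ρ [(10, 0), (11, z)] := by
  obtain ⟨e1, h1, k1⟩ : ∃ e : F, e * e = 1 ∧ ∀ z w, w ∈ J X ψ ρ [(0, z), (1, 0)] → ρ X.na w ∈ J X ψ ρ [(0, e * z), (5, 0)] := Jna X ρ (by norm_num) (by norm_num)
  obtain ⟨e2, h2, k2⟩ : ∃ e : F, e * e = 1 ∧ ∀ z w, w ∈ J X ψ ρ [(0, z), (5, 0)] → ρ X.nb w ∈ J X ψ ρ [(1, e * z), (6, 0)] := Jnb X ρ (by norm_num) (by norm_num)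
  obtain ⟨e3, h3, k3⟩ : ∃ e : F, e * e = 1 ∧ ∀ z w, w ∈ J X ψ ρ [(1, z), (6, 0)] → ρ X.na w ∈ J X ψ ρ [(5, e * z), (10, 0)] := Jna X ρ (by norm_num) (by norm_num)
  obtain ⟨e4, h4, k4⟩ : ∃ e : F, e * e = 1 ∧ ∀ z w, w ∈ J X ψ ρ [(5, z), (10, 0)] → ρ X.nb w ∈ J X ψ ρ [(6, e * z), (11, 0)] := Jnb X ρ (by norm_num) (by norm_num)
  obtain ⟨e5, h5, k5⟩ : ∃ e : F, e * e = 1 ∧ ∀ z w, w ∈ J X ψ ρ [(6, z), (11, 0)] → ρ X.na w ∈ J X ψ ρ [(10, e * z), (11, 0)] := Jna X ρ (by norm_num) (by norm_num)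
  obtain ⟨e6, h6, k6⟩ : ∃ e : F, e * e = 1 ∧ ∀ z w, w ∈ J X ψ ρ [(10, z), (11, 0)] → ρ X.nb w ∈ J X ψ ρ [(11, e * z), (10, 0)] := Jnb X ρ (by norm_num) (by norm_num)
  have nz : ∀ e : F, e * e = 1 → e ≠ 0 := fun e he h => by simp [h] at he
  refine ⟨e1 * (e2 * (e3 * (e4 * (e5 * (e6 * z))))), fun hz => mul_ne_zero (nz _ h1) (mul_ne_zero (nz _ h2) (mul_ne_zero (nz _ h3)
    (mul_ne_zero (nz _ h4) (mul_ne_zero (nz _ h5) (mul_ne_zero (nz _ h6) hz))))), fun w hw => ?_⟩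
  have a1 := k6 _ _ (k5 _ _ (k4 _ _ (k3 _ _ (k2 _ _ (k1 _ _ hw)))))
  have a2 : e6 * (e5 * (e4 * (e3 * (e2 * (e1 * (e1 * (e2 * (e3 * (e4 * (e5 * (e6 * z))))))))))) = z := by
    have : e6 * (e5 * (e4 * (e3 * (e2 * (e1 * (e1 * (e2 * (e3 * (e4 * (e5 * (e6 * z))))))))))) =
      (e1 * e1) * ((e2 * e2) * ((e3 * e3) * ((e4 * e4) * ((e5 * e5) * ((e6 * e6) * z))))) := by ring
    rw [this, h1, h2, h3, h4, h5, h6]; ring
  rw [a2] at a1
  intro p hp u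
  apply a1 p _ u
  simp only [List.mem_cons, List.not_mem_nil, or_false] at hp ⊢
  tauto

/-- step 3 of `b_two`: for every submodule `W` containing `v` and stable under `X_0, X_1, X_6, na, nb` -/
theorem step3 [FiniteDimensional ℂ V] (hψ : ψ ≠ 0) {v : V} (hv0 : v ≠ 0) (h6 : ∀ t, ρ (X.x 6 t) v = v) (h10 : ∀ t, ρ (X.x 10 t) v = v)
    (h11 : ∀ t, ρ (X.x 11 t) v = v)
    (hline : ∀ w, (∀ t, ρ (X.x 6 t) w = w) → (∀ t, ρ (X.x 10 t) w = w) → (∀ t, ρ (X.x 11 t) w = w) → ∃ c : ℂ, w = c • v)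
    (h5 : ∀ t : F, t ≠ 0 → ∑ u : F, ρ (X.x 6 u) (ρ (X.x 5 t) v) = -v)
    (W : Submodule ℂ V) (hvW : v ∈ W) (W0 : ∀ t, ∀ w ∈ W, ρ (X.x 0 t) w ∈ W) (W1 : ∀ t, ∀ w ∈ W, ρ (X.x 1 t) w ∈ W)
    (W6 : ∀ t, ∀ w ∈ W, ρ (X.x 6 t) w ∈ W) (Wa : ∀ w ∈ W, ρ X.na w ∈ W) (Wb : ∀ w ∈ W, ρ X.nb w ∈ W) {z : F} (hz : z ≠ 0) :
    Fintype.card F ≤ finrank ℂ ↥(J X ψ ρ [(10, 0), (11, z)] ⊓ W) := by
  obtain ⟨z', hz', htr⟩ := trans X ρ (ψ := ψ) z
  have hind := indep X ρ (v := v) ⟨h10, h11⟩ h6 (fun w hw6 hwt => hline w hw6 hwt.1 hwt.2) h5 hψ hv0 (hz' hz)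
  have hinj : ∀ g : G, Function.Injective (ρ g) := by
    intro g a b hab
    have := congrArg (ρ g⁻¹) hab
    rwa [← Module.End.mul_apply, ← Module.End.mul_apply, ← map_mul, inv_mul_cancel, map_one] at this
  let T : V →ₗ[ℂ] V := ρ X.nb ∘ₗ ρ X.na ∘ₗ ρ X.nb ∘ₗ ρ X.na ∘ₗ ρ X.nb ∘ₗ ρ X.na
  have hT : LinearMap.ker T = ⊥ := LinearMap.ker_eq_bot.2
    ((hinj _).comp ((hinj _).comp ((hinj _).comp ((hinj _).comp ((hinj _).comp (hinj _))))))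
  have hind2 := hind.map' T hT
  have hmemW : ∀ b : F, Phi X ρ ψ z' (P X ρ ψ b (ρ X.nb v)) ∈ W := by
    intro b
    have hb : P X ρ ψ b (ρ X.nb v) ∈ W := by
      rw [P_apply]
      exact Submodule.sum_mem _ fun r _ => Submodule.smul_mem _ _ (W6 _ _ (Wb _ hvW))
    exact Submodule.sum_mem _ fun s _ => Submodule.smul_mem _ _ (Submodule.sum_mem _ fun t _ => W0 _ _ (W1 _ _ hb))
  let y : F → ↥(J X ψ ρ [(10, 0), (11, z)] ⊓ W) := fun b => ⟨T (Phi X ρ ψ z' (P X ρ ψ b (ρ X.nb v))),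
    htr _ (phiJ X ρ hψ z' _), Wb _ (Wa _ (Wb _ (Wa _ (Wb _ (Wa _ (hmemW b))))))⟩
  have hy : LinearIndependent ℂ y := by
    apply LinearIndependent.of_comp (J X ψ ρ [(10, 0), (11, z)] ⊓ W).subtype
    exact hind2
  exact hy.fintype_card_le_finrank

end Cfsg.Agent.G2M.S3x
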