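import Cfsg.Agent.G2M.Def
import Cfsg.Agent.G2M.B2a
import Cfsg.Agent.G2M.B2b
import Cfsg.Agent.G2M.B2e
import Cfsg.Agent.G2M.B2s3x

set_option autoImplicit false
set_option maxHeartbeats 1000000

/-! S2338, b_two assembly (helper29) -/

namespace Cfsg.Agent.G2M.B2h29

open Module Finset Cfsg.Agent.G2M

variable {F G : Type*} [Field F] [Fintype F] [DecidableEq F] [Group G] {V : Type*} [AddCommGroup V] [Module ℂ V] [FiniteDimensional ℂ V]
  (X : G2G F G) {ψ : AddChar F ℂ} (ρ : Representation ℂ G V)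

theorem b_two (hψ : ψ ≠ 0) (w : Fˣ) (hw : (w : F) ^ 3 = 1) (hw1 : (w : F) ≠ 1) (hq : 4 < Fintype.card F) (hirr : ρ.IsIrreducible)
    (hV : finrank ℂ V < Fintype.card F ^ 3 + 1)
    (hz : ∀ z, z ≠ 0 → ∀ d, dj X ψ ρ [(9, d), (11, z)] = Fintype.card F) (hZ : ∀ z, z ≠ 0 → dj X ψ ρ [(10, 0), (11, z)] = Fintype.card F)
    (h1 : ∀ b, b ≠ 0 → dj X ψ ρ [(6, b), (10, 0), (11, 0)] = 1) (h0 : dj X ψ ρ [(6, 0), (10, 0), (11, 0)] = 1) : False := by
  have hw3 : w ^ 3 = 1 := by apply Units.ext; simpa using hw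
  obtain ⟨⟨v, hvJ⟩, hv0', hspan⟩ := finrank_eq_one_iff'.1 h0
  have hv0 : v ≠ 0 := fun h => hv0' (Subtype.ext h)
  have hl : ∀ u ∈ J X ψ ρ [(6, 0), (10, 0), (11, 0)], ∃ c : ℂ, u = c • v := by
    intro u hu
    obtain ⟨c, hc⟩ := hspan ⟨u, hu⟩
    exact ⟨c, (congrArg Subtype.val hc).symm⟩
  have hl2 : ∀ u ∈ J X ψ ρ [(6, 0), (10, 0), (11, 0)], ∀ u' ∈ J X ψ ρ [(6, 0), (10, 0), (11, 0)], u' ≠ 0 → ∃ c : ℂ, u = c • u' := by
    intro u hu u' hu' hu0
    obtain ⟨c, hc⟩ := hl u hu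
    obtain ⟨c', hc'⟩ := hl u' hu'
    have hc0 : c' ≠ 0 := by rintro rfl; rw [zero_smul] at hc'; exact hu0 hc'
    exact ⟨c * c'⁻¹, by rw [hc', smul_smul, mul_assoc, inv_mul_cancel₀ hc0, mul_one, hc]⟩
  obtain ⟨hfix, hh, hna⟩ := B2a.b2_line (X := X) (ρ := ρ) (by omega) hl2 hvJ hv0
  have h6 := hfix 6 (Or.inr (by norm_num)) (by norm_num)
  have h7 := hfix 7 (Or.inr (by norm_num)) (by norm_num)
  have h10 := hfix 10 (Or.inr (by norm_num)) (by norm_num)
  have h11 := hfix 11 (Or.inr (by norm_num)) (by norm_num)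
  have hV1 : 1 < finrank ℂ V := by
    have h2 : dj X ψ ρ [(10, 0), (11, 1)] ≤ finrank ℂ V := Submodule.finrank_le _
    rw [hZ 1 one_ne_zero] at h2
    omega
  have hnb := B2a.nb_not (X := X) (ρ := ρ) hirr hV1 hv0 h6 h7 hna
  have hline : ∀ u, (∀ t, ρ (X.x 6 t) u = u) → (∀ t, ρ (X.x 10 t) u = u) → (∀ t, ρ (X.x 11 t) u = u) → ∃ c : ℂ, u = c • v := by
    intro u a b c
    apply hl
    intro p hp t
    simp only [List.mem_cons, List.not_mem_nil, or_false] at hp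
    rcases hp with rfl | rfl | rfl
    · simpa using a t
    · simpa using b t
    · simpa using c t
  have h5 := b2_alpha X ρ hv0 h6 h10 h11 hline (fun s t => by obtain ⟨c, -, hc⟩ := hh s t; exact ⟨c, hc⟩) (fun c hc => hnb ⟨c, hc⟩)
  -- the element z0
  have h11' : X.h 1 1 = 1 := by
    have := X.h_mul 1 1 1 1
    rw [mul_one] at this
    exact mul_eq_left.1 this.symm
  have hzn : X.h w 1 * (X.na * X.h w 1) = X.na := by
    have h2 := X.na_h w 1
    rw [hw3, mul_one] at h2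
    have h3 : X.na * X.h w 1 = X.h w⁻¹ 1 * X.na := by rw [← h2]; group
    rw [h3, ← mul_assoc, ← X.h_mul, mul_inv_cancel, mul_one, h11', one_mul]
  have hzb : X.h w 1 * X.nb = X.nb * X.h w 1 := by
    have h2 := X.nb_h w 1
    rw [inv_one, mul_one] at h2
    nth_rewrite 1 [← h2]
    group
  have hz3 : X.h w 1 * (X.h w 1 * X.h w 1) = 1 := by
    rw [← X.h_mul, ← X.h_mul, mul_one, mul_one, ← h11']
    congr 1
    rw [← hw3, pow_succ, pow_two, mul_assoc]
  set Z := ρ (X.h w 1) with hZdef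
  have hZn : ∀ u, Z (ρ X.na (Z u)) = ρ X.na u := by
    intro u
    rw [hZdef, ← Module.End.mul_apply, ← Module.End.mul_apply, ← map_mul, ← map_mul, mul_assoc, hzn]
  have hZb : ∀ u, Z (ρ X.nb u) = ρ X.nb (Z u) := by
    intro u
    rw [hZdef, ← Module.End.mul_apply, ← Module.End.mul_apply, ← map_mul, ← map_mul, hzb]
  have hZ3 : ∀ u, Z (Z (Z u)) = u := by
    intro u
    rw [hZdef, ← Module.End.mul_apply, ← Module.End.mul_apply, ← map_mul, ← map_mul, mul_assoc, hz3, map_one]; rfl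
  let W : Submodule ℂ V := LinearMap.ker (Z - 1)
  have hWm : ∀ u, u ∈ W ↔ Z u = u := by
    intro u
    rw [LinearMap.mem_ker, LinearMap.sub_apply, sub_eq_zero]; rfl
  have hvW : v ∈ W := by
    rw [hWm]
    obtain ⟨c, hc0, hc⟩ := hh w 1
    obtain ⟨k, hk0, hk⟩ := hna
    have hc' : Z v = c • v := hc
    have e1 := hZ3 v
    rw [hc', map_smul, hc', map_smul, map_smul, hc', smul_smul, smul_smul] at e1
    have e2 := hZn v
    rw [hc', map_smul, hk, map_smul, map_smul, hc', smul_smul, smul_smul] at e2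
    have e3 : (c * (c * c) - 1) • v = 0 := by rw [sub_smul, one_smul]; rw [sub_eq_zero]; simpa [mul_assoc] using e1
    have e4 : (c * (k * c) - k) • v = 0 := by rw [sub_smul, sub_eq_zero, ← mul_assoc]; exact e2
    rcases smul_eq_zero.1 e3 with e3 | e3
    swap; · exact absurd e3 hv0
    rcases smul_eq_zero.1 e4 with e4 | e4
    swap; · exact absurd e4 hv0
    have e5 : c * c = 1 := by
      have : k * (c * c - 1) = 0 := by linear_combination e4
      rcases mul_eq_zero.1 this with h | h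
      · exact absurd h hk0
      · exact sub_eq_zero.1 h
    have e6 : c = 1 := by
      rw [e5, mul_one] at e3
      exact sub_eq_zero.1 e3
    rw [hc', e6, one_smul]
  have hWx : ∀ r, r ∈ [0, 1, 5, 6, 10, 11] → ∀ t, ∀ u ∈ W, ρ (X.x r t) u ∈ W := by
    intro r hr t u hu
    rw [hWm] at hu ⊢
    have := z0_comm X ρ w hw hr t u
    rw [← hZdef, hu] at this
    exact this
  have hWa : ∀ u ∈ W, ρ X.na u ∈ W := by
    intro u hu
    rw [hWm] at hu ⊢
    have := hZn u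
    rwa [hu] at this
  have hWb : ∀ u ∈ W, ρ X.nb u ∈ W := by
    intro u hu
    rw [hWm] at hu ⊢
    rw [hZb, hu]
  have h3 := S3x.step3 X ρ hψ hv0 h6 h10 h11 hline h5 W hvW (hWx 0 (by simp)) (hWx 1 (by simp)) (hWx 6 (by simp)) hWa hWb
    (z := 1) one_ne_zero
  have h4 : J X ψ ρ [(10, 0), (11, 1)] ⊓ W = J X ψ ρ [(10, 0), (11, 1)] := by
    apply Submodule.eq_of_le_of_finrank_le inf_le_left
    have := hZ 1 one_ne_zero
    rw [dj] at this
    rw [this]; exact h3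
  exact end0 X ρ hψ w hw hw1 one_ne_zero (hz 1 one_ne_zero) (fun u hu => by
    have : u ∈ J X ψ ρ [(10, 0), (11, 1)] ⊓ W := by rw [h4]; exact hu
    exact (hWm u).1 this.2)

end Cfsg.Agent.G2M.B2h29
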