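import Cfsg.Agent.G2M.B2a
import Cfsg.Agent.G2M.B2b
import Cfsg.Agent.G2M.B2s3x
import Cfsg.Agent.G2M.BEndL

set_option autoImplicit false

/-! S2338, assembly of `b_two` (insurance version). -/

namespace Cfsg.Agent.G2M.B2h93
open Module Finset Cfsg.Agent.G2M

variable {F G : Type*} [Field F] [Fintype F] [DecidableEq F] [Group G] {V : Type*} [AddCommGroup V] [Module ℂ V] [FiniteDimensional ℂ V]
  (X : G2G F G) {ψ : AddChar F ℂ} (ρ : Representation ℂ G V)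

theorem b_two (hψ : ψ ≠ 0) (w : Fˣ) (hw : (w : F) ^ 3 = 1) (hw1 : (w : F) ≠ 1) (hq : 4 < Fintype.card F) (hirr : ρ.IsIrreducible)
    (hV : finrank ℂ V < Fintype.card F ^ 3 + 1)
    (hz : ∀ z, z ≠ 0 → ∀ d, dj X ψ ρ [(9, d), (11, z)] = Fintype.card F) (hZ : ∀ z, z ≠ 0 → dj X ψ ρ [(10, 0), (11, z)] = Fintype.card F)
    (h1 : ∀ b, b ≠ 0 → dj X ψ ρ [(6, b), (10, 0), (11, 0)] = 1) (h0 : dj X ψ ρ [(6, 0), (10, 0), (11, 0)] = 1) : False := by
  have hm : ∀ (x y : G) (v : V), ρ (x * y) v = ρ x (ρ y v) := by intro x y v; rw [map_mul]; rfl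
  have hw3 : w ^ 3 = 1 := Units.ext (by push_cast; exact hw)
  -- the line
  obtain ⟨v', hv'0, hv'⟩ := finrank_eq_one_iff'.1 h0
  obtain ⟨v, hv⟩ := v'
  have hv0 : v ≠ 0 := fun h => hv'0 (Subtype.ext h)
  have hspan : ∀ u ∈ J X ψ ρ [(6, 0), (10, 0), (11, 0)], ∃ c : ℂ, c • v = u := by
    intro u hu
    obtain ⟨c, hc⟩ := hv' ⟨u, hu⟩
    exact ⟨c, congrArg Subtype.val hc⟩
  have hline1 : ∀ u ∈ J X ψ ρ [(6, 0), (10, 0), (11, 0)], ∀ v ∈ J X ψ ρ [(6, 0), (10, 0), (11, 0)],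
      v ≠ 0 → ∃ c : ℂ, u = c • v := by
    intro u hu v1 hv1 hv10
    obtain ⟨c, hc⟩ := hspan u hu
    obtain ⟨d, hd⟩ := hspan v1 hv1
    have hd0 : d ≠ 0 := by
      rintro rfl
      rw [zero_smul] at hd
      exact hv10 hd.symm
    exact ⟨c * d⁻¹, by rw [← hd, smul_smul, mul_assoc, inv_mul_cancel₀ hd0, mul_one, hc]⟩
  obtain ⟨hfix, htor, hna⟩ := B2a.b2_line (ρ := ρ) (X := X) (ψ := ψ) (by omega) hline1 hv hv0
  have h6 : ∀ t, ρ (X.x 6 t) v = v := hfix 6 (by omega) (by omega)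
  have h7 : ∀ t, ρ (X.x 7 t) v = v := hfix 7 (by omega) (by omega)
  have h10 : ∀ t, ρ (X.x 10 t) v = v := hfix 10 (by omega) (by omega)
  have h11 : ∀ t, ρ (X.x 11 t) v = v := hfix 11 (by omega) (by omega)
  have hline : ∀ u, (∀ t, ρ (X.x 6 t) u = u) → (∀ t, ρ (X.x 10 t) u = u) → (∀ t, ρ (X.x 11 t) u = u) → ∃ c : ℂ, u = c • v := by
    intro u a b c
    refine hline1 u ?_ v hv hv0
    rw [mem_J_cons, mem_J_cons, mem_J_cons]
    refine ⟨fun t => ?_, fun t => ?_, fun t => ?_, fun p hp => by simp at hp⟩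
    · rw [a t, zero_mul, AddChar.map_zero_eq_one, one_smul]
    · rw [b t, zero_mul, AddChar.map_zero_eq_one, one_smul]
    · rw [c t, zero_mul, AddChar.map_zero_eq_one, one_smul]
  have hdim : 1 < finrank ℂ V := by
    have h2 : dj X ψ ρ [(10, 0), (11, 1)] = Fintype.card F := hZ 1 one_ne_zero
    have h3 : dj X ψ ρ [(10, 0), (11, 1)] ≤ finrank ℂ V := Submodule.finrank_le _
    omega
  have hnb := B2a.nb_not (X := X) hirr hdim hv0 h6 h7 hna
  have h5 := b2_alpha X ρ hv0 h6 h10 h11 hline (fun s t => by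
    obtain ⟨c, -, hc⟩ := htor s t
    exact ⟨c, hc⟩) (fun c hc => hnb ⟨c, hc⟩)
  -- z0
  have hone : X.h 1 1 = 1 := by
    have h := X.h_mul 1 1 1 1
    simp only [mul_one] at h
    exact (mul_eq_left.1 h.symm)
  have hz3 : X.h w 1 * X.h w 1 * X.h w 1 = 1 := by
    rw [← X.h_mul, ← X.h_mul]
    simp only [mul_one]
    have : w * w * w = 1 := by rw [← hw3, pow_succ, pow_succ, pow_one]
    rw [this, hone]
  have hna' : X.na * X.h w 1 * X.na⁻¹ = (X.h w 1)⁻¹ := by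
    rw [X.na_h, hw3, one_mul]
    rw [eq_inv_iff_mul_eq_one, ← X.h_mul, inv_mul_cancel, mul_one, hone]
  have hnb' : X.nb * X.h w 1 = X.h w 1 * X.nb := by
    have h := X.nb_h w 1
    rw [mul_one, inv_one] at h
    rw [← mul_inv_eq_iff_eq_mul]; exact h
  obtain ⟨lam, hlam0, hlam⟩ := htor w 1
  obtain ⟨κ, hκ0, hκ⟩ := hna
  have hinj : ∀ a b : ℂ, a • v = b • v → a = b := fun a b h => smul_left_injective ℂ hv0 h
  have hl3 : lam * lam * lam = 1 := by
    apply hinj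
    have h := congrArg (fun g => ρ g v) hz3
    simp only [hm, hlam, map_smul, smul_smul, map_one] at h
    rw [one_smul]
    exact h
  have hl2 : lam * lam = 1 := by
    -- z0 na z0 = na
    have h : X.h w 1 * X.na * X.h w 1 = X.na := by
      have h2 : X.na * X.h w 1 = (X.h w 1)⁻¹ * X.na := by rw [← hna']; group
      rw [mul_assoc, h2]; group
    have h2 := congrArg (fun g => ρ g v) h
    simp only [hm, hlam, map_smul, hκ, smul_smul] at h2
    have h3 := hinj _ _ h2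
    have h4 : κ * (lam * lam) = κ * 1 := by linear_combination h3
    exact mul_left_cancel₀ hκ0 h4
  have hl1 : lam = 1 := by rw [hl2, one_mul] at hl3; exact hl3
  rw [hl1, one_smul] at hlam
  let W : Submodule ℂ V := LinearMap.ker (ρ (X.h w 1) - 1)
  have hWm : ∀ u, u ∈ W ↔ ρ (X.h w 1) u = u := by
    intro u
    rw [LinearMap.mem_ker, LinearMap.sub_apply, sub_eq_zero]
    rfl
  have hWx : ∀ r, r < 12 → (w : Fˣ) ^ (ca r) = 1 → ∀ t, ∀ u ∈ W, ρ (X.x r t) u ∈ W := by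
    intro r hr hc t u hu
    rw [hWm] at hu ⊢
    have h := X.tor w 1 r hr t
    rw [hc, one_zpow, mul_one, Units.val_one, one_mul] at h
    have h2 : X.h w 1 * X.x r t = X.x r t * X.h w 1 := by rw [← mul_inv_eq_iff_eq_mul]; exact h
    rw [← hm, h2, hm, hu]
  have hw3z : w ^ (-3 : ℤ) = 1 := by
    rw [zpow_neg, inv_eq_one]; exact_mod_cast hw3
  have hstep : ∀ z : F, z ≠ 0 → Fintype.card F ≤ finrank ℂ ↥(J X ψ ρ [(10, 0), (11, z)] ⊓ W) := by
    intro z hz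
    refine S3x.step3 X ρ hψ hv0 h6 h10 h11 hline h5 W ((hWm v).2 hlam) (hWx 0 (by norm_num) (by simpa [ca] using hw3z))
      (hWx 1 (by norm_num) (by simpa [ca] using hw3z)) (hWx 6 (by norm_num) (by simp [ca])) ?_ ?_ hz
    · intro u hu
      rw [hWm] at hu ⊢
      have h2 : X.h w 1 * X.na = X.na * (X.h w 1)⁻¹ := by
        have h3 : X.na * X.h w 1 = (X.h w 1)⁻¹ * X.na := by rw [← hna']; group
        have h4 : X.h w 1 * (X.na * X.h w 1) = X.na := by rw [h3]; group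
        calc X.h w 1 * X.na = X.h w 1 * (X.na * X.h w 1) * (X.h w 1)⁻¹ := by group
          _ = X.na * (X.h w 1)⁻¹ := by rw [h4]
      rw [← hm, h2, hm]
      congr 1
      have h3 := BEndL.inv_app ρ (X.h w 1) u
      rwa [hu] at h3
    · intro u hu
      rw [hWm] at hu ⊢
      rw [← hm, ← hnb', hm, hu]
  refine bend_lam X ρ hψ w hw hw1 1 one_ne_zero 1 one_ne_zero ?_ ?_
  · rw [hz 1 one_ne_zero 1]; omega
  · have h2 := hstep 1 one_ne_zero
    have h3 : finrank ℂ (J X ψ ρ [(10, 0), (11, 1)]) = Fintype.card F := hZ 1 one_ne_zero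
    have h4 : J X ψ ρ [(10, 0), (11, 1)] ⊓ W = J X ψ ρ [(10, 0), (11, 1)] :=
      Submodule.eq_of_le_of_finrank_le inf_le_left (by rw [h3]; exact h2)
    intro u hu
    rw [← h4] at hu
    rw [one_smul]
    exact (hWm u).1 hu.2

end Cfsg.Agent.G2M.B2h93
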