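import Mathlib

set_option autoImplicit false

/-! Linear algebra inputs for the `b_two` step (helper77). -/

namespace Cfsg.Agent.G2M.B2lin

open Finset

theorem indep {V ι : Type*} [AddCommGroup V] [Module ℂ V] [Fintype ι] [DecidableEq ι] (y : ι → V) (L : ι → V →ₗ[ℂ] ℂ) (a g : ℂ)
    (h : ∀ i j, L i (y j) = if i = j then a else g) (h1 : a ≠ g) (h2 : a + ((Fintype.card ι : ℂ) - 1) * g ≠ 0) :
    LinearIndependent ℂ y := by
  rw [Fintype.linearIndependent_iff]
  intro c hc
  have key : ∀ i, (a - g) * c i + g * ∑ j, c j = 0 := by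
    intro i
    have h3 : L i (∑ j, c j • y j) = 0 := by rw [hc, map_zero]
    rw [map_sum] at h3
    simp only [map_smul, smul_eq_mul, h] at h3
    have h4 : ∀ j, c j * (if i = j then a else g) = c j * g + (if i = j then c j * (a - g) else 0) := by
      intro j
      split_ifs <;> ring
    rw [Finset.sum_congr rfl (fun j _ => h4 j), Finset.sum_add_distrib, Finset.sum_ite_eq, ← Finset.sum_mul] at h3
    simp only [Finset.mem_univ, if_true] at h3
    linear_combination h3
  have hs : (a + ((Fintype.card ι : ℂ) - 1) * g) * ∑ j, c j = 0 := by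
    have h5 : ∑ i, ((a - g) * c i + g * ∑ j, c j) = 0 := Finset.sum_eq_zero fun i _ => key i
    rw [Finset.sum_add_distrib, ← Finset.mul_sum, Finset.sum_const, Finset.card_univ, nsmul_eq_mul] at h5
    linear_combination h5
  have hs0 : ∑ j, c j = 0 := (mul_eq_zero.mp hs).resolve_left h2
  intro i
  have := key i
  rw [hs0, mul_zero, add_zero] at this
  exact (mul_eq_zero.mp this).resolve_left (sub_ne_zero.mpr h1)

theorem alpha_eq {V F : Type*} [AddCommGroup V] [Module ℂ V] [Fintype F] [DecidableEq F] [Zero F] (x : F → V →ₗ[ℂ] V) (e5 e6 n : V →ₗ[ℂ] V)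
    {v : V} (hv : v ≠ 0) {al : ℂ} (hx0 : x 0 v = v) (h6 : e6 v = v) (hx : ∀ t, t ≠ 0 → e6 (x t v) = al • v)
    (h5 : (Fintype.card F : ℂ) • e5 v = ∑ t, x t v) (h5n : e5 v = al • n v) (h6n : e6 (n v) = al • v) :
    (Fintype.card F : ℂ) * al ^ 2 = ((Fintype.card F : ℂ) - 1) * al + 1 ∧ (al = 1 ∨ (Fintype.card F : ℂ) * al = -1) := by
  have h1 : e6 ((Fintype.card F : ℂ) • e5 v) = ((Fintype.card F : ℂ) * al ^ 2) • v := by
    rw [map_smul, h5n, map_smul, h6n, smul_smul, smul_smul]
    congr 1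
    ring
  have h2 : e6 (∑ t, x t v) = (((Fintype.card F : ℂ) - 1) * al + 1) • v := by
    rw [map_sum, ← Finset.add_sum_erase _ _ (Finset.mem_univ (0 : F)), hx0, h6,
      Finset.sum_congr rfl (fun t ht => hx t (Finset.ne_of_mem_erase ht)), Finset.sum_const, Finset.card_erase_of_mem (Finset.mem_univ _),
      Finset.card_univ, ← Nat.cast_smul_eq_nsmul ℂ, Nat.cast_sub (Fintype.card_pos_iff.mpr ⟨(0 : F)⟩), smul_smul, Nat.cast_one, add_comm]
    rw [add_smul, one_smul]
  have h3 : (Fintype.card F : ℂ) * al ^ 2 = ((Fintype.card F : ℂ) - 1) * al + 1 := by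
    have h4 := h1.symm.trans ((congrArg e6 h5).trans h2)
    have h5 := sub_eq_zero.mpr h4
    rw [← sub_smul] at h5
    exact sub_eq_zero.mp ((smul_eq_zero.mp h5).resolve_right hv)
  refine ⟨h3, ?_⟩
  have h4 : (al - 1) * ((Fintype.card F : ℂ) * al + 1) = 0 := by linear_combination h3
  rcases mul_eq_zero.mp h4 with h | h
  · exact Or.inl (sub_eq_zero.mp h)
  · exact Or.inr (by linear_combination h)

end Cfsg.Agent.G2M.B2lin
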