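import Mathlib

set_option autoImplicit false

/-! S2338, B2: an independence criterion. -/

namespace Cfsg.Agent.G2M

theorem mat_indep {F V : Type*} [Fintype F] [DecidableEq F] [AddCommGroup V] [Module ℂ V]
    (hq : Fintype.card F ≠ 0) (y : F → V)
    (L : F → V →ₗ[ℂ] V) (vb : V) (hvb : vb ≠ 0) (g : ℂ) (hg1 : g ≠ 1 / (Fintype.card F : ℂ))
    (hg2 : 1 / (Fintype.card F : ℂ) + ((Fintype.card F : ℂ) - 1) * g ≠ 0)
    (h : ∀ s s', L s' (y s) = (if s = s' then 1 / (Fintype.card F : ℂ) else g) • vb) :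
    LinearIndependent ℂ y := by
  have hq' : (Fintype.card F : ℂ) ≠ 0 := by exact_mod_cast hq
  rw [Fintype.linearIndependent_iff]
  intro c hc
  have h1 : ∀ s', (1 / (Fintype.card F : ℂ) - g) * c s' + g * ∑ s, c s = 0 := by
    intro s'
    have h2 := congrArg (L s') hc
    rw [map_zero, map_sum] at h2
    have h3 : ∑ s, L s' (c s • y s) = (∑ s, c s * (if s = s' then 1 / (Fintype.card F : ℂ) else g)) • vb := by
      rw [Finset.sum_smul]
      refine Finset.sum_congr rfl (fun s _ => ?_)
      rw [map_smul, h, smul_smul]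
    rw [h3, smul_eq_zero_iff_left hvb] at h2
    rw [← h2]
    have h4 : ∀ s, c s * (if s = s' then 1 / (Fintype.card F : ℂ) else g) =
        (if s = s' then (1 / (Fintype.card F : ℂ) - g) * c s' else 0) + g * c s := by
      intro s
      split_ifs with hs
      · rw [hs]; ring
      · ring
    rw [Finset.sum_congr rfl (fun s _ => h4 s), Finset.sum_add_distrib, Finset.sum_ite_eq' Finset.univ s',
      if_pos (Finset.mem_univ _), Finset.mul_sum]
  have h5 : ∑ s, c s = 0 := by
    have h6 : ∑ s', ((1 / (Fintype.card F : ℂ) - g) * c s' + g * ∑ s, c s) = 0 :=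
      Finset.sum_eq_zero (fun s' _ => h1 s')
    rw [Finset.sum_add_distrib, ← Finset.mul_sum, Finset.sum_const, Finset.card_univ, nsmul_eq_mul] at h6
    have h7 : (1 / (Fintype.card F : ℂ) + ((Fintype.card F : ℂ) - 1) * g) * ∑ s, c s = 0 := by
      linear_combination h6
    exact (mul_eq_zero.1 h7).resolve_left hg2
  intro s
  have h8 := h1 s
  rw [h5, mul_zero, add_zero] at h8
  exact (mul_eq_zero.1 h8).resolve_left (sub_ne_zero.2 (Ne.symm hg1))

end Cfsg.Agent.G2M
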