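import Cfsg.Agent.G2M.Def
import Cfsg.Agent.G2M.MatInd

set_option autoImplicit false
set_option linter.all false

/-! S2338: unified proof of the pieces B1 and B2 (helper86). -/

namespace Cfsg.Agent.G2M.BU
open Module Finset

variable {F G : Type*} [Field F] [Fintype F] [DecidableEq F] [Group G] {V : Type*} [AddCommGroup V] [Module ℂ V]
  (X : G2G F G) (ψ : AddChar F ℂ) (ρ : Representation ℂ G V)

omit [Fintype F] [DecidableEq F] in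
theorem x_zero {r : ℕ} (hr : r < 12) : X.x r 0 = 1 := by
  have h := X.add r hr 0 0
  rw [add_zero] at h
  exact mul_eq_left.1 h.symm

omit [Fintype F] [DecidableEq F] in
theorem x_neg {r : ℕ} (hr : r < 12) (t : F) : X.x r (-t) = (X.x r t)⁻¹ := by
  rw [eq_inv_iff_mul_eq_one, ← X.add r hr, neg_add_cancel, x_zero X hr]

theorem rmul (g h : G) (v : V) : ρ (g * h) v = ρ g (ρ h v) := by rw [map_mul]; rfl

theorem rinv (g : G) (v : V) : ρ g⁻¹ (ρ g v) = v := by rw [← rmul, inv_mul_cancel, map_one]; rfl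

theorem rinv' (g : G) (v : V) : ρ g (ρ g⁻¹ v) = v := by rw [← rmul, mul_inv_cancel, map_one]; rfl

noncomputable def T (r : ℕ) (c : F) : V →ₗ[ℂ] V := (Fintype.card F : ℂ)⁻¹ • ∑ u : F, ψ (-(c * u)) • ρ (X.x r u)

theorem T_apply (r : ℕ) (c : F) (v : V) :
    T X ψ ρ r c v = (Fintype.card F : ℂ)⁻¹ • ∑ u : F, ψ (-(c * u)) • ρ (X.x r u) v := by
  simp [T, LinearMap.sum_apply]

/-- eigenvector -/
def Fx (r : ℕ) (c : F) (v : V) : Prop := ∀ t : F, ρ (X.x r t) v = ψ (c * t) • v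

theorem q_ne : (Fintype.card F : ℂ) ≠ 0 := by exact_mod_cast Fintype.card_ne_zero

theorem T_eig {r : ℕ} {c : F} {v : V} (h : Fx X ψ ρ r c v) : T X ψ ρ r c v = v := by
  rw [T_apply]
  have h1 : ∀ u : F, ψ (-(c * u)) • ρ (X.x r u) v = v := by
    intro u
    rw [h u, smul_smul, ← AddChar.map_add_eq_mul, neg_add_cancel, AddChar.map_zero_eq_one, one_smul]
  rw [Finset.sum_congr rfl (fun u _ => h1 u), Finset.sum_const, Finset.card_univ, ← Nat.cast_smul_eq_nsmul ℂ,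
    smul_smul, inv_mul_cancel₀ q_ne, one_smul]

variable {ψ} in
theorem T_ne (hψ : ψ.IsPrimitive) {r : ℕ} {c c' : F} (hc : c ≠ c') {v : V} (h : Fx X ψ ρ r c' v) : T X ψ ρ r c v = 0 := by
  rw [T_apply]
  have h1 : ∀ u : F, ψ (-(c * u)) • ρ (X.x r u) v = ψ (u * (c' - c)) • v := by
    intro u
    rw [h u, smul_smul, ← AddChar.map_add_eq_mul]
    congr 2; ring
  rw [Finset.sum_congr rfl (fun u _ => h1 u), ← Finset.sum_smul, AddChar.sum_mulShift _ hψ,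
    if_neg (sub_ne_zero.2 (Ne.symm hc)), Nat.cast_zero, zero_smul, smul_zero]

theorem T_mem {r : ℕ} (hr : r < 12) (c : F) (v : V) : Fx X ψ ρ r c (T X ψ ρ r c v) := by
  intro t
  rw [T_apply, map_smul, map_sum, smul_comm]
  congr 1
  rw [Finset.smul_sum]
  refine Fintype.sum_equiv (Equiv.addLeft t) _ _ (fun u => ?_)
  rw [map_smul, ← rmul, ← X.add r hr, smul_smul, ← AddChar.map_add_eq_mul, Equiv.coe_addLeft]
  congr 2; ring

variable {ψ} in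
theorem T_sum (hψ : ψ.IsPrimitive) {r : ℕ} (hr : r < 12) (v : V) : ∑ c : F, T X ψ ρ r c v = v := by
  simp only [T_apply]
  rw [← Finset.smul_sum, Finset.sum_comm]
  have h1 : ∀ u : F, ∑ c : F, ψ (-(c * u)) • ρ (X.x r u) v = if u = 0 then (Fintype.card F : ℂ) • v else 0 := by
    intro u
    rw [← Finset.sum_smul]
    have h2 : ∀ c : F, ψ (-(c * u)) = ψ (c * (-u)) := fun c => by congr 1; ring
    rw [Finset.sum_congr rfl (fun c _ => h2 c), AddChar.sum_mulShift _ hψ]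
    split_ifs with h3 h4 h4
    · rw [h4, x_zero X hr, map_one]; rfl
    · exact absurd (neg_eq_zero.1 h3) h4
    · exact absurd (by rw [h4, neg_zero]) h3
    · rw [Nat.cast_zero, zero_smul]
  rw [Finset.sum_congr rfl (fun u _ => h1 u), Finset.sum_ite_eq' Finset.univ (0 : F), if_pos (Finset.mem_univ _),
    smul_smul, inv_mul_cancel₀ q_ne, one_smul]

theorem T_conj {r r' : ℕ} {g : G} {k : F} (hk : k ≠ 0) (h : ∀ u, g * X.x r u * g⁻¹ = X.x r' (k * u)) (c : F) (v : V) :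
    ρ g (T X ψ ρ r c v) = T X ψ ρ r' (c / k) (ρ g v) := by
  rw [T_apply, T_apply, map_smul, map_sum]
  congr 1
  refine Fintype.sum_equiv (Equiv.mulLeft₀ k hk) _ _ (fun u => ?_)
  rw [map_smul, ← rmul, ← rmul]
  show _ = ψ (-(c / k * (k * u))) • ρ (X.x r' (k * u) * g) v
  rw [← h u, inv_mul_cancel_right]
  congr 2
  field_simp

theorem Fx_conj {r r' : ℕ} {g : G} {k : F} (hk : k ≠ 0) (h : ∀ u, g * X.x r u * g⁻¹ = X.x r' (k * u)) {c : F} {v : V}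
    (hv : Fx X ψ ρ r c v) : Fx X ψ ρ r' (c / k) (ρ g v) := by
  intro t
  have h1 : X.x r' t = g * X.x r (t / k) * g⁻¹ := by rw [h]; congr 1; field_simp
  rw [h1, ← rmul, inv_mul_cancel_right, rmul, hv, map_smul]
  congr 2; ring

/-- conjugation data -/
def Cj (g : G) (r r' : ℕ) : Prop := ∃ k : F, k ≠ 0 ∧ ∀ u, g * X.x r u * g⁻¹ = X.x r' (k * u)

omit [Fintype F] [DecidableEq F] in
theorem Cj_mul {g h : G} {r r' r'' : ℕ} (h1 : Cj X g r' r'') (h2 : Cj X h r r') : Cj X (g * h) r r'' := by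
  obtain ⟨k, hk, hk1⟩ := h1
  obtain ⟨l, hl, hl1⟩ := h2
  refine ⟨k * l, mul_ne_zero hk hl, fun u => ?_⟩
  have e : k * l * u = k * (l * u) := by ring
  rw [e, ← hk1, ← hl1]; group

omit [Fintype F] [DecidableEq F] in
theorem Cj_inv {g : G} {r r' : ℕ} (h1 : Cj X g r r') : Cj X g⁻¹ r' r := by
  obtain ⟨k, hk, hk1⟩ := h1
  refine ⟨k⁻¹, inv_ne_zero hk, fun u => ?_⟩
  have := hk1 (k⁻¹ * u)
  rw [mul_inv_cancel_left₀ hk] at this
  rw [← this]; group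

omit [Fintype F] [DecidableEq F] in
theorem Cj_na {r : ℕ} (hr : r < 12) : Cj X X.na r (ra r) := by
  obtain ⟨e, he, h⟩ := X.hna r hr
  exact ⟨e, by rcases he with rfl | rfl <;> simp, h⟩

omit [Fintype F] [DecidableEq F] in
theorem Cj_nb {r : ℕ} (hr : r < 12) : Cj X X.nb r (rb r) := by
  obtain ⟨e, he, h⟩ := X.hnb r hr
  exact ⟨e, by rcases he with rfl | rfl <;> simp, h⟩

omit [Fintype F] [DecidableEq F] in
theorem Cj_h {r : ℕ} (hr : r < 12) (s t : Fˣ) : Cj X (X.h s t) r r :=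
  ⟨_, Units.ne_zero _, X.tor s t r hr⟩

omit [Fintype F] [DecidableEq F] in
theorem Cj_comm {r s : ℕ} (h : ∀ t u, X.x r t * X.x s u = X.x s u * X.x r t) (t : F) :
    ∀ u, X.x r t * X.x s u * (X.x r t)⁻¹ = X.x s (1 * u) := by
  intro u; rw [h, mul_inv_cancel_right, one_mul]

theorem T_comm {r s : ℕ} (h : ∀ t u, X.x r t * X.x s u = X.x s u * X.x r t) (c d : F) (v : V) :
    T X ψ ρ r c (T X ψ ρ s d v) = T X ψ ρ s d (T X ψ ρ r c v) := by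
  rw [T_apply X ψ ρ r c (T X ψ ρ s d v), T_apply X ψ ρ r c v, map_smul, map_sum]
  congr 1
  refine Finset.sum_congr rfl (fun u _ => ?_)
  rw [map_smul, T_conj X ψ ρ one_ne_zero (Cj_comm X h u), div_one]

theorem Fx_T {r s : ℕ} (h : ∀ t u, X.x s t * X.x r u = X.x r u * X.x s t) {c : F} (d : F) {v : V}
    (hv : Fx X ψ ρ r c v) : Fx X ψ ρ r c (T X ψ ρ s d v) := by
  intro t
  rw [T_conj X ψ ρ one_ne_zero (Cj_comm X (fun a b => (h b a).symm) t), div_one, hv, map_smul]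

/-- the projection to the fixed points of `X_10 X_11` -/
noncomputable def E : V →ₗ[ℂ] V := T X ψ ρ 10 0 ∘ₗ T X ψ ρ 11 0

theorem E_apply (v : V) : E X ψ ρ v = T X ψ ρ 10 0 (T X ψ ρ 11 0 v) := rfl

theorem c1011 : ∀ t u : F, X.x 10 t * X.x 11 u = X.x 11 u * X.x 10 t := X.comm 10 11 (by simp)

theorem E_apply' (v : V) : E X ψ ρ v = T X ψ ρ 11 0 (T X ψ ρ 10 0 v) := T_comm X ψ ρ (c1011 X) 0 0 v

theorem Fx_zero {r : ℕ} {v : V} : Fx X ψ ρ r 0 v ↔ ∀ t, ρ (X.x r t) v = v := by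
  unfold Fx
  simp [AddChar.map_zero_eq_one]

theorem E_eq {v : V} (h10 : Fx X ψ ρ 10 0 v) (h11 : Fx X ψ ρ 11 0 v) : E X ψ ρ v = v := by
  rw [E_apply, T_eig X ψ ρ h11, T_eig X ψ ρ h10]

theorem E_10 (v : V) : Fx X ψ ρ 10 0 (E X ψ ρ v) := T_mem X ψ ρ (by norm_num) 0 _

theorem E_11 (v : V) : Fx X ψ ρ 11 0 (E X ψ ρ v) := by rw [E_apply']; exact T_mem X ψ ρ (by norm_num) 0 _

theorem T0_x {r : ℕ} (hr : r < 12) (t : F) (v : V) : T X ψ ρ r 0 (ρ (X.x r t) v) = T X ψ ρ r 0 v := by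
  have h : ∀ a u : F, X.x r a * X.x r u = X.x r u * X.x r a := fun a u => by
    rw [← X.add r hr, ← X.add r hr, add_comm]
  have h1 := T_conj X ψ ρ one_ne_zero (Cj_comm X h t) 0 v
  rw [zero_div] at h1
  rw [← h1]
  exact (Fx_zero X ψ ρ).1 (T_mem X ψ ρ hr 0 v) t

theorem E_x10 (t : F) (v : V) : E X ψ ρ (ρ (X.x 10 t) v) = E X ψ ρ v := by
  rw [E_apply', E_apply', T0_x X ψ ρ (by norm_num)]

/-- `x 6` commutes with `E` -/
theorem E_x6 (r : F) (v : V) : E X ψ ρ (ρ (X.x 6 r) v) = ρ (X.x 6 r) (E X ψ ρ v) := by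
  have h611 : ∀ t u : F, X.x 6 t * X.x 11 u = X.x 11 u * X.x 6 t := X.comm 6 11 (by simp)
  rw [E_apply, E_apply]
  have h1 := T_conj X ψ ρ one_ne_zero (Cj_comm X h611 r) 0 v
  rw [zero_div] at h1
  rw [← h1]
  have hw : Fx X ψ ρ 11 0 (T X ψ ρ 11 0 v) := T_mem X ψ ρ (by norm_num) 0 v
  rw [T_apply X ψ ρ 10, T_apply X ψ ρ 10, map_smul, map_sum]
  congr 1
  refine Finset.sum_congr rfl (fun u _ => ?_)
  rw [map_smul, ← rmul, ← rmul]
  congr 1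
  have h2 : X.x 10 u * X.x 6 r = X.x 6 r * X.x 10 u * X.x 11 (r * u) := by
    have := X.c610 r u
    rw [mul_assoc (X.x 6 r), ← this]; group
  rw [h2, rmul ρ (X.x 6 r * X.x 10 u), (Fx_zero X ψ ρ).1 hw]

/-- general commutation with `E` -/
theorem E_swap {g : G} (h1 : Cj X g 10 11) (h2 : Cj X g 11 10) (v : V) : E X ψ ρ (ρ g v) = ρ g (E X ψ ρ v) := by
  obtain ⟨k, hk, hk1⟩ := h1
  obtain ⟨l, hl, hl1⟩ := h2
  have a1 := T_conj X ψ ρ hk hk1 0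
  have a2 := T_conj X ψ ρ hl hl1 0
  simp only [zero_div] at a1 a2
  rw [E_apply', E_apply, a1, a2]

theorem E_same {g : G} (h1 : Cj X g 10 10) (h2 : Cj X g 11 11) (v : V) : E X ψ ρ (ρ g v) = ρ g (E X ψ ρ v) := by
  obtain ⟨k, hk, hk1⟩ := h1
  obtain ⟨l, hl, hl1⟩ := h2
  have a1 := T_conj X ψ ρ hk hk1 0
  have a2 := T_conj X ψ ρ hl hl1 0
  simp only [zero_div] at a1 a2
  rw [E_apply, E_apply, a1, a2]

theorem Cj_nc {r r' : ℕ} (h : Cj X (X.na * X.nb * X.na⁻¹) r r') (hr' : r' < 12) (s t : Fˣ) :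
    Cj X (X.h s t * (X.na * X.nb * X.na⁻¹)) r r' := Cj_mul X (Cj_h X hr' s t) h

theorem nc6 : Cj X (X.na * X.nb * X.na⁻¹) 6 11 :=
  Cj_mul X (Cj_mul X (Cj_na X (by norm_num : 11 < 12)) (Cj_nb X (by norm_num : 10 < 12)))
    (Cj_inv X (Cj_na X (by norm_num : 10 < 12)))

theorem nc11 : Cj X (X.na * X.nb * X.na⁻¹) 11 6 :=
  Cj_mul X (Cj_mul X (Cj_na X (by norm_num : 10 < 12)) (Cj_nb X (by norm_num : 11 < 12)))
    (Cj_inv X (Cj_na X (by norm_num : 11 < 12)))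

theorem nc10 : Cj X (X.na * X.nb * X.na⁻¹) 10 1 :=
  Cj_mul X (Cj_mul X (Cj_na X (by norm_num : 5 < 12)) (Cj_nb X (by norm_num : 6 < 12)))
    (Cj_inv X (Cj_na X (by norm_num : 6 < 12)))

theorem nc1 : Cj X (X.na * X.nb * X.na⁻¹) 1 10 :=
  Cj_mul X (Cj_mul X (Cj_na X (by norm_num : 6 < 12)) (Cj_nb X (by norm_num : 5 < 12)))
    (Cj_inv X (Cj_na X (by norm_num : 5 < 12)))

theorem nc0 : Cj X (X.na * X.nb * X.na⁻¹) 0 5 :=
  Cj_mul X (Cj_mul X (Cj_na X (by norm_num : 1 < 12)) (Cj_nb X (by norm_num : 0 < 12)))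
    (Cj_inv X (Cj_na X (by norm_num : 0 < 12)))

/-- (C1) -/
theorem E_x1 {ψ : AddChar F ℂ} (hψ : ψ.IsPrimitive) {t b : F} (ht : t ≠ 0) (hb : b ≠ 0) {v : V} (h6 : Fx X ψ ρ 6 b v)
    (h10 : Fx X ψ ρ 10 0 v) : E X ψ ρ (ρ (X.x 1 t) v) = 0 := by
  obtain ⟨n, hn, s1, t1, hn2⟩ := X.r10 t ht
  rw [hn, rmul, rmul, E_x10, (Fx_zero X ψ ρ).1 h10]
  obtain ⟨k, hk, hk1⟩ : Cj X n 6 11 := by rw [hn2]; exact Cj_nc X (nc6 X) (by norm_num) s1 t1
  have h1 := Fx_conj X ψ ρ hk hk1 h6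
  rw [E_apply, T_ne X ρ hψ (c := 0) (c' := b / k) (Ne.symm (div_ne_zero hb hk)) h1, map_zero]

/-- (C3) -/
theorem x01 {ψ : AddChar F ℂ} {s t b : F} (hs : s ≠ 0) {v : V} (h6 : Fx X ψ ρ 6 b v) :
    T X ψ ρ 6 b (E X ψ ρ (ρ (X.x 0 s) (ρ (X.x 1 t) v))) = T X ψ ρ 6 b (E X ψ ρ (ρ (X.x 0 s) v)) := by
  have h1 := X.c60 (t / s) s
  rw [div_mul_cancel₀ _ hs, ← x_neg X (by norm_num)] at h1
  rw [← rmul, ← h1, rmul, rmul, E_x6, h6, map_smul, map_smul, map_smul]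
  have h7 : ∀ a u : F, X.x 6 a * X.x 6 u = X.x 6 u * X.x 6 a := fun a u => by
    rw [← X.add 6 (by norm_num), ← X.add 6 (by norm_num), add_comm]
  have h2 := T_conj X ψ ρ one_ne_zero (Cj_comm X h7 (-(t / s))) b (E X ψ ρ (ρ (X.x 0 s) v))
  rw [div_one] at h2
  rw [map_smul, ← h2, T_mem X ψ ρ (by norm_num) b _ (-(t / s)), smul_smul, ← AddChar.map_add_eq_mul]
  rw [show b * (t / s) + b * -(t / s) = 0 by ring, AddChar.map_zero_eq_one, one_smul]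

theorem E_T6 (c : F) (w : V) : E X ψ ρ (T X ψ ρ 6 c w) = T X ψ ρ 6 c (E X ψ ρ w) := by
  rw [T_apply X ψ ρ 6 c w, T_apply X ψ ρ 6 c (E X ψ ρ w), map_smul, map_sum]
  congr 1
  refine Finset.sum_congr rfl (fun u _ => ?_)
  rw [map_smul, E_x6]

theorem E_x5 (r : F) (v : V) : E X ψ ρ (ρ (X.x 5 r) v) = ρ (X.x 5 r) (E X ψ ρ v) := by
  obtain ⟨k, hk, hk1⟩ : Cj X X.nb 6 5 := Cj_nb X (by norm_num)
  have h1 : X.x 5 r = X.nb * X.x 6 (r / k) * X.nb⁻¹ := by rw [hk1]; congr 1; field_simp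
  have h2 : Cj X X.nb 10 11 := Cj_nb X (by norm_num)
  have h3 : Cj X X.nb 11 10 := Cj_nb X (by norm_num)
  rw [h1, rmul, rmul, rmul, rmul, E_swap X ψ ρ h2 h3, E_x6, E_swap X ψ ρ (Cj_inv X h3) (Cj_inv X h2)]

theorem fx10 {w : V} (h : E X ψ ρ w = w) : Fx X ψ ρ 10 0 w := by rw [← h]; exact E_10 X ψ ρ w
theorem fx11 {w : V} (h : E X ψ ρ w = w) : Fx X ψ ρ 11 0 w := by rw [← h]; exact E_11 X ψ ρ w

/-- reduction of (C4) -/
theorem red {ψ : AddChar F ℂ} (hψ : ψ.IsPrimitive) {w : V} (hw : E X ψ ρ w = w) {s : F} (hs : s ≠ 0) :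
    E X ψ ρ (ρ (X.x 1 s) w) = E X ψ ρ (ρ (X.x 1 s) (T X ψ ρ 6 0 w)) := by
  conv_lhs => rw [← T_sum X ρ hψ (r := 6) (by norm_num) w]
  rw [map_sum, map_sum]
  rw [Finset.sum_eq_single (0 : F)]
  · intro c _ hc
    refine E_x1 X ρ hψ hs hc (T_mem X ψ ρ (by norm_num) c w) ?_
    exact fx10 X ψ ρ (by rw [E_T6, hw])
  · intro h; exact absurd (Finset.mem_univ _) h

theorem x0_nb {s : F} (hs : s ≠ 0) : ∃ s' : F, s' ≠ 0 ∧ X.x 0 s = X.nb * X.x 1 s' * X.nb⁻¹ := by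
  obtain ⟨k, hk, hk1⟩ : Cj X X.nb 1 0 := Cj_nb X (by norm_num)
  exact ⟨s / k, div_ne_zero hs hk, by rw [hk1]; congr 1; field_simp⟩

theorem E_x0 {s s' : F} (h : X.x 0 s = X.nb * X.x 1 s' * X.nb⁻¹) (w : V) :
    E X ψ ρ (ρ (X.x 0 s) w) = ρ X.nb (E X ψ ρ (ρ (X.x 1 s') (ρ X.nb⁻¹ w))) := by
  have h2 : Cj X X.nb 10 11 := Cj_nb X (by norm_num)
  have h3 : Cj X X.nb 11 10 := Cj_nb X (by norm_num)
  rw [h, rmul, rmul, E_swap X ψ ρ h2 h3]

theorem E_nbi {w : V} (hw : E X ψ ρ w = w) : E X ψ ρ (ρ X.nb⁻¹ w) = ρ X.nb⁻¹ w := by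
  have h2 : Cj X X.nb 10 11 := Cj_nb X (by norm_num)
  have h3 : Cj X X.nb 11 10 := Cj_nb X (by norm_num)
  rw [E_swap X ψ ρ (Cj_inv X h3) (Cj_inv X h2), hw]

theorem E_nb {w : V} (hw : E X ψ ρ w = w) : E X ψ ρ (ρ X.nb w) = ρ X.nb w := by
  have h2 : Cj X X.nb 10 11 := Cj_nb X (by norm_num)
  have h3 : Cj X X.nb 11 10 := Cj_nb X (by norm_num)
  rw [E_swap X ψ ρ h2 h3, hw]

theorem nb_T6 (y : V) : ρ X.nb (T X ψ ρ 6 0 y) = T X ψ ρ 5 0 (ρ X.nb y) := by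
  obtain ⟨k, hk, hk1⟩ : Cj X X.nb 6 5 := Cj_nb X (by norm_num)
  rw [T_conj X ψ ρ hk hk1, zero_div]

theorem sum_ite {a : ℂ} (v : V) : ∑ u : F, (if u = 0 then v else a • v) = (1 + ((Fintype.card F : ℂ) - 1) * a) • v := by
  rw [← Finset.add_sum_erase _ _ (Finset.mem_univ (0 : F)), if_pos rfl,
    Finset.sum_congr rfl (fun u hu => if_neg (Finset.ne_of_mem_erase hu)), Finset.sum_const,
    Finset.card_erase_of_mem (Finset.mem_univ _), Finset.card_univ, ← Nat.cast_smul_eq_nsmul ℂ, smul_smul,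
    Nat.cast_sub Fintype.card_pos, Nat.cast_one, add_smul, one_smul]

section line
variable {ψ} {v : V} (hψ : ψ.IsPrimitive) (hv0 : v ≠ 0) (hv6 : Fx X ψ ρ 6 0 v) (hv : E X ψ ρ v = v)
  (hline : ∀ w, Fx X ψ ρ 6 0 w → E X ψ ρ w = w → ∃ c : ℂ, w = c • v)
include hψ hv0 hv6 hv hline

theorem T6_line {y : V} (hy : E X ψ ρ y = y) : ∃ c : ℂ, T X ψ ρ 6 0 y = c • v :=
  hline _ (T_mem X ψ ρ (by norm_num) 0 y) (by rw [E_T6, hy])

theorem exists_alpha : ∃ a : ℂ, ∀ t : F, t ≠ 0 → T X ψ ρ 6 0 (ρ (X.x 5 t) v) = a • v := by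
  obtain ⟨a, ha⟩ := T6_line X ρ hψ hv0 hv6 hv hline (y := ρ (X.x 5 1) v) (by rw [E_x5, hv])
  refine ⟨a, fun t ht => ?_⟩
  -- torus
  set τ : Fˣ := (Units.mk0 t ht)⁻¹ with hτ
  have h5 : ∀ u : F, X.h 1 τ * X.x 5 u * (X.h 1 τ)⁻¹ = X.x 5 (t * u) := by
    intro u
    rw [X.tor 1 τ 5 (by norm_num) u]
    congr 2
    simp [ca, cb, hτ]
  obtain ⟨k, hk, hk1⟩ : Cj X (X.h 1 τ) 6 6 := Cj_h X (by norm_num) 1 τ
  have hm1 : Fx X ψ ρ 6 0 (ρ (X.h 1 τ) v) := by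
    have := Fx_conj X ψ ρ hk hk1 hv6
    rwa [zero_div] at this
  obtain ⟨m, hm⟩ := hline _ hm1 (by
    rw [E_same X ψ ρ (Cj_h X (by norm_num) 1 τ) (Cj_h X (by norm_num) 1 τ), hv])
  have hm0 : m ≠ 0 := by
    rintro rfl
    rw [zero_smul] at hm
    have := rinv ρ (X.h 1 τ) v
    rw [hm, map_zero] at this
    exact hv0 this.symm
  have h6 := congrArg (ρ (X.h 1 τ)) ha
  rw [T_conj X ψ ρ hk hk1, zero_div, map_smul, hm, ← rmul] at h6
  have h7 : X.h 1 τ * X.x 5 1 = X.x 5 t * X.h 1 τ := by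
    have := h5 1
    rw [mul_one] at this
    rw [← this]; group
  rw [h7, rmul, hm, map_smul, map_smul, smul_comm a m v] at h6
  exact smul_right_injective V hm0 h6

theorem fix11 (t : F) : T X ψ ρ 11 0 (ρ (X.x 1 t) v) = ρ (X.x 1 t) v ∧
    ∃ t' : F, ∃ m : ℂ, (t ≠ 0 → t' ≠ 0) ∧ ρ X.na (m • v) = v ∧ ρ (X.x 1 t) v = ρ X.na (ρ (X.x 5 t') (m • v)) := by
  obtain ⟨k, hk, hk1⟩ : Cj X X.na 5 1 := Cj_na X (by norm_num)
  have h1 : X.x 1 t = X.na * X.x 5 (t / k) * X.na⁻¹ := by rw [hk1]; congr 1; field_simp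
  obtain ⟨l, hl, hl1⟩ : Cj X X.na 11 11 := Cj_na X (by norm_num)
  obtain ⟨l2, hl2, hl3⟩ : Cj X X.na⁻¹ 6 10 := Cj_inv X (Cj_na X (by norm_num : 10 < 12))
  obtain ⟨l4, hl4, hl5⟩ : Cj X X.na⁻¹ 10 6 := Cj_inv X (Cj_na X (by norm_num : 6 < 12))
  obtain ⟨l6, hl6, hl7⟩ : Cj X X.na⁻¹ 11 11 := Cj_inv X (Cj_na X (by norm_num : 11 < 12))
  have a1 := Fx_conj X ψ ρ hl2 hl3 hv6
  have a2 := Fx_conj X ψ ρ hl4 hl5 (fx10 X ψ ρ hv)
  have a3 := Fx_conj X ψ ρ hl6 hl7 (fx11 X ψ ρ hv)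
  rw [zero_div] at a1 a2 a3
  obtain ⟨m, hm⟩ := hline _ a2 (E_eq X ψ ρ a1 a3)
  have e1 : ρ (X.x 1 t) v = ρ X.na (ρ (X.x 5 (t / k)) (m • v)) := by rw [h1, rmul, rmul, hm]
  refine ⟨?_, t / k, m, fun h => div_ne_zero h hk, by rw [← hm, rinv'], e1⟩
  have h2 := T_conj X ψ ρ hl hl1 0 (ρ (X.x 5 (t / k)) (m • v))
  rw [zero_div] at h2
  rw [e1, ← h2]
  congr 1
  apply T_eig
  apply fx11
  rw [E_x5, map_smul, hv]

theorem E_x1_v {a : ℂ} (ha : ∀ t : F, t ≠ 0 → T X ψ ρ 6 0 (ρ (X.x 5 t) v) = a • v) {t : F} (ht : t ≠ 0) :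
    E X ψ ρ (ρ (X.x 1 t) v) = a • v := by
  obtain ⟨h1, t', m, ht', hm, h2⟩ := fix11 X ρ hψ hv0 hv6 hv hline t
  rw [E_apply, h1, h2]
  obtain ⟨l, hl, hl1⟩ : Cj X X.na 6 10 := Cj_na X (by norm_num)
  have h3 := T_conj X ψ ρ hl hl1 0 (ρ (X.x 5 t') (m • v))
  rw [zero_div] at h3
  rw [← h3, map_smul, map_smul, ha t' (ht' ht), smul_comm, map_smul, hm]

theorem quad {a : ℂ} (ha : ∀ t : F, t ≠ 0 → T X ψ ρ 6 0 (ρ (X.x 5 t) v) = a • v) :
    a = 1 ∨ a = -1 / (Fintype.card F : ℂ) := by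
  have hq := q_ne (F := F)
  have h1 : E X ψ ρ (ρ (X.x 1 1) (E X ψ ρ (ρ (X.x 1 (-1)) v))) = (a * a) • v := by
    rw [E_x1_v X ρ hψ hv0 hv6 hv hline ha (neg_ne_zero.2 one_ne_zero), map_smul, map_smul,
      E_x1_v X ρ hψ hv0 hv6 hv hline ha one_ne_zero, smul_smul]
  obtain ⟨n, hn, s1, t1, hn2⟩ := X.r10 1 one_ne_zero
  obtain ⟨k, hk, hk1⟩ : Cj X n 10 1 := by rw [hn2]; exact Cj_nc X (nc10 X) (by norm_num) s1 t1
  have h2 : E X ψ ρ (ρ (X.x 1 (-1)) v) = (Fintype.card F : ℂ)⁻¹ • ∑ u : F, ρ (X.x 10 u) (ρ (X.x 1 (-1)) v) := by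
    rw [E_apply, (fix11 X ρ hψ hv0 hv6 hv hline (-1)).1, T_apply]
    congr 1
    refine Finset.sum_congr rfl (fun u _ => ?_)
    rw [zero_mul, neg_zero, AddChar.map_zero_eq_one, one_smul]
  have h3 : ∀ u : F, E X ψ ρ (ρ (X.x 1 1) (ρ (X.x 10 u) (ρ (X.x 1 (-1)) v))) = if u = 0 then v else a • v := by
    intro u
    have h4 : X.x 1 1 * X.x 10 u * X.x 1 (-1) = X.x 10 1⁻¹ * X.x 1 (k * u) * (X.x 10 1⁻¹)⁻¹ := by
      rw [← hk1, x_neg X (by norm_num), hn]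
      have h5 : X.x 10 1⁻¹ * X.x 10 u = X.x 10 u * X.x 10 1⁻¹ := by
        rw [← X.add 10 (by norm_num), ← X.add 10 (by norm_num), add_comm]
      have h6 : X.x 10 1⁻¹ * X.x 10 u * (X.x 10 1⁻¹)⁻¹ = X.x 10 u := by rw [h5, mul_inv_cancel_right]
      calc X.x 10 1⁻¹ * n * X.x 10 1⁻¹ * X.x 10 u * (X.x 10 1⁻¹ * n * X.x 10 1⁻¹)⁻¹
          = X.x 10 1⁻¹ * n * (X.x 10 1⁻¹ * X.x 10 u * (X.x 10 1⁻¹)⁻¹) * n⁻¹ * (X.x 10 1⁻¹)⁻¹ := by group
        _ = _ := by rw [h6]; group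
    rw [← rmul, ← rmul, h4, rmul, rmul, E_x10, ← x_neg X (by norm_num), (Fx_zero X ψ ρ).1 (fx10 X ψ ρ hv)]
    split_ifs with hu
    · rw [hu, mul_zero, x_zero X (by norm_num), map_one]; exact hv
    · exact E_x1_v X ρ hψ hv0 hv6 hv hline ha (mul_ne_zero hk hu)
  rw [h2, map_smul, map_smul, map_sum, map_sum, Finset.sum_congr rfl (fun u _ => h3 u)] at h1
  rw [sum_ite v, smul_smul] at h1
  have h6 : (Fintype.card F : ℂ)⁻¹ * (1 + ((Fintype.card F : ℂ) - 1) * a) = a * a := smul_left_injective ℂ hv0 h1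
  have h8 : 1 + ((Fintype.card F : ℂ) - 1) * a = (Fintype.card F : ℂ) * (a * a) := by
    rw [← h6, mul_inv_cancel_left₀ hq]
  have h7 : (a - 1) * ((Fintype.card F : ℂ) * a + 1) = 0 := by linear_combination -h8
  rcases mul_eq_zero.1 h7 with h9 | h9
  · left; linear_combination h9
  · right; field_simp; linear_combination h9

theorem kap {a : ℂ} (ha : ∀ t : F, t ≠ 0 → T X ψ ρ 6 0 (ρ (X.x 5 t) v) = a • v) {b : F} (hb : b ≠ 0) {vb : V}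
    (hb6 : Fx X ψ ρ 6 b vb) (hbE : E X ψ ρ vb = vb)
    (hbline : ∀ w, Fx X ψ ρ 6 b w → E X ψ ρ w = w → ∃ c : ℂ, w = c • vb) :
    ∃ κ : ℂ, T X ψ ρ 6 b (T X ψ ρ 5 0 vb) = κ • vb ∧
      ((Fintype.card F : ℂ) - 1) * κ = 1 - (Fintype.card F : ℂ)⁻¹ * (1 + ((Fintype.card F : ℂ) - 1) * a) := by
  have hv' : ρ X.nb v ≠ 0 := by
    intro h
    have := rinv ρ X.nb v
    rw [h, map_zero] at this
    exact hv0 this.symm
  have hEv' : E X ψ ρ (ρ X.nb v) = ρ X.nb v := E_nb X ψ ρ hv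
  have hT5 : T X ψ ρ 5 0 (ρ X.nb v) = ρ X.nb v := by rw [← nb_T6, T_eig X ψ ρ hv6]
  have hL5 : ∀ y, E X ψ ρ y = y → ∃ c : ℂ, T X ψ ρ 5 0 y = c • ρ X.nb v := by
    intro y hy
    obtain ⟨c, hc⟩ := T6_line X ρ hψ hv0 hv6 hv hline (E_nbi X ψ ρ hy)
    refine ⟨c, ?_⟩
    have h1 := nb_T6 X ψ ρ (ρ X.nb⁻¹ y)
    rw [rinv', hc, map_smul] at h1
    exact h1.symm
  obtain ⟨B, hB⟩ := hL5 vb hbE
  obtain ⟨A, hA⟩ := hbline (T X ψ ρ 6 b (ρ X.nb v)) (T_mem X ψ ρ (by norm_num) b _) (by rw [E_T6, hEv'])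
  have hk : ∀ c : F, ∃ k : ℂ, T X ψ ρ 5 0 (T X ψ ρ 6 c (ρ X.nb v)) = k • ρ X.nb v := fun c =>
    hL5 _ (by rw [E_T6, hEv'])
  choose k hk using hk
  have hkb : k b = A * B := by
    have h1 := hk b
    rw [hA, map_smul, hB, smul_smul] at h1
    exact (smul_left_injective ℂ hv' h1).symm
  have hkc : ∀ c : F, c ≠ 0 → k c = k b := by
    intro c hc
    -- torus with `b ↦ c`
    set τ : Fˣ := Units.mk0 (b / c) (div_ne_zero hb hc) with hτ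
    have h6 : ∀ u : F, X.h 1 τ * X.x 6 u * (X.h 1 τ)⁻¹ = X.x 6 ((b / c) * u) := by
      intro u
      rw [X.tor 1 τ 6 (by norm_num) u]
      congr 2
      simp [ca, cb, hτ]
    obtain ⟨l, hl, hl1⟩ : Cj X (X.h 1 τ) 5 5 := Cj_h X (by norm_num) 1 τ
    have hm1 : Fx X ψ ρ 5 0 (ρ (X.h 1 τ) (ρ X.nb v)) := by
      have h7 : Fx X ψ ρ 5 0 (ρ X.nb v) := by rw [← hT5]; exact T_mem X ψ ρ (by norm_num) 0 _
      have := Fx_conj X ψ ρ hl hl1 h7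
      rwa [zero_div] at this
    obtain ⟨m, hm⟩ := hL5 (ρ (X.h 1 τ) (ρ X.nb v)) (by
      rw [E_same X ψ ρ (Cj_h X (by norm_num) 1 τ) (Cj_h X (by norm_num) 1 τ), hEv'])
    rw [T_eig X ψ ρ hm1] at hm
    have hm0 : m ≠ 0 := by
      rintro rfl
      rw [zero_smul] at hm
      have := rinv ρ (X.h 1 τ) (ρ X.nb v)
      rw [hm, map_zero] at this
      exact hv' this.symm
    have h8 := congrArg (ρ (X.h 1 τ)) (hk b)
    rw [T_conj X ψ ρ hl hl1, zero_div, T_conj X ψ ρ (div_ne_zero hb hc) h6, map_smul, hm, map_smul, map_smul,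
      show b / (b / c) = c by field_simp, hk c, smul_comm] at h8
    have h9 : (k c * m) • ρ X.nb v = (k b * m) • ρ X.nb v := by rw [mul_smul, mul_smul]; exact h8
    exact mul_right_cancel₀ hm0 (smul_left_injective ℂ hv' h9)
  obtain ⟨ν, hν⟩ := T6_line X ρ hψ hv0 hv6 hv hline hEv'
  obtain ⟨μ, hμ⟩ := hL5 v hv
  have hk0 : k 0 = ν * μ := by
    have h1 := hk 0
    rw [hν, map_smul, hμ, smul_smul] at h1
    exact (smul_left_injective ℂ hv' h1).symm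
  have hsum : ∑ c : F, k c = 1 := by
    have h1 := hT5
    conv_lhs at h1 => rw [← T_sum X ρ hψ (r := 6) (by norm_num) (ρ X.nb v)]
    rw [map_sum, Finset.sum_congr rfl (fun c _ => hk c), ← Finset.sum_smul] at h1
    have h2 : (∑ c : F, k c) • ρ X.nb v = (1 : ℂ) • ρ X.nb v := by rw [h1, one_smul]
    exact smul_left_injective ℂ hv' h2
  have hsum2 : ∑ c : F, k c = ν * μ + ((Fintype.card F : ℂ) - 1) * (A * B) := by
    rw [← Finset.add_sum_erase _ _ (Finset.mem_univ (0 : F)), hk0,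
      Finset.sum_congr rfl (fun c hc => hkc c (Finset.ne_of_mem_erase hc)), Finset.sum_const,
      Finset.card_erase_of_mem (Finset.mem_univ _), Finset.card_univ, nsmul_eq_mul, hkb,
      Nat.cast_sub Fintype.card_pos, Nat.cast_one]
  have hμν : (Fintype.card F : ℂ)⁻¹ * (1 + ((Fintype.card F : ℂ) - 1) * a) = μ * ν := by
    have h1 : T X ψ ρ 6 0 (T X ψ ρ 5 0 v) = (μ * ν) • v := by rw [hμ, map_smul, hν, smul_smul]
    have h2 : ∀ u : F, T X ψ ρ 6 0 (ψ (-(0 * u)) • ρ (X.x 5 u) v) = if u = 0 then v else a • v := by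
      intro u
      rw [zero_mul, neg_zero, AddChar.map_zero_eq_one, one_smul]
      split_ifs with hu
      · rw [hu, x_zero X (by norm_num), map_one]
        exact T_eig X ψ ρ hv6
      · exact ha u hu
    rw [T_apply X ψ ρ 5 0 v, map_smul, map_sum, Finset.sum_congr rfl (fun u _ => h2 u), sum_ite v, smul_smul] at h1
    exact smul_left_injective ℂ hv0 h1
  refine ⟨B * A, by rw [hB, map_smul, hA, smul_smul], ?_⟩
  rw [hμν]
  linear_combination hsum2.symm.trans hsum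

end line

/-- (C4) -/
theorem gam {ψ : AddChar F ℂ} (hψ : ψ.IsPrimitive) {b : F} (hb : b ≠ 0) {vb : V}
    (hb6 : Fx X ψ ρ 6 b vb) (hbE : E X ψ ρ vb = vb)
    (hbline : ∀ w, Fx X ψ ρ 6 b w → E X ψ ρ w = w → ∃ c : ℂ, w = c • vb)
    (hline : ∀ v, v ≠ 0 → Fx X ψ ρ 6 0 v → E X ψ ρ v = v → ∀ w, Fx X ψ ρ 6 0 w → E X ψ ρ w = w → ∃ c : ℂ, w = c • v)
    (hq1 : 1 < Fintype.card F) :
    ∃ g : ℂ, (g = 0 ∨ g = -((Fintype.card F : ℂ) + 1) / (Fintype.card F : ℂ) ^ 3) ∧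
      ∀ s : F, s ≠ 0 → T X ψ ρ 6 b (E X ψ ρ (ρ (X.x 0 s) vb)) = g • vb := by
  have hq := q_ne (F := F)
  have hq1' : (Fintype.card F : ℂ) - 1 ≠ 0 := by
    intro h
    have : (Fintype.card F : ℂ) = 1 := by linear_combination h
    have h2 : Fintype.card F = 1 := by exact_mod_cast this
    omega
  by_cases hex : ∃ v, v ≠ 0 ∧ Fx X ψ ρ 6 0 v ∧ E X ψ ρ v = v
  · obtain ⟨v, hv0, hv6, hv⟩ := hex
    have hl := hline v hv0 hv6 hv
    obtain ⟨a, ha⟩ := exists_alpha X ρ hψ hv0 hv6 hv hl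
    have hquad := quad X ρ hψ hv0 hv6 hv hl ha
    obtain ⟨κ, hκ1, hκ2⟩ := kap X ρ hψ hv0 hv6 hv hl ha hb hb6 hbE hbline
    refine ⟨a * κ, ?_, ?_⟩
    · rcases hquad with rfl | rfl
      · left
        have : ((Fintype.card F : ℂ) - 1) * κ = 0 := by
          rw [hκ2]; field_simp; ring
        rw [(mul_eq_zero.1 this).resolve_left hq1', mul_zero]
      · right
        have h1 : κ = ((Fintype.card F : ℂ) + 1) / (Fintype.card F : ℂ) ^ 2 := by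
          apply mul_left_cancel₀ hq1'
          rw [hκ2]; field_simp; ring
        rw [h1]; field_simp
    · intro s hs
      obtain ⟨s', hs', h1⟩ := x0_nb X hs
      rw [E_x0 X ψ ρ h1, red X ρ hψ (E_nbi X ψ ρ hbE) hs']
      obtain ⟨B, hB⟩ := T6_line X ρ hψ hv0 hv6 hv hl (E_nbi X ψ ρ hbE)
      have h2 : E X ψ ρ (ρ (X.x 1 s') (T X ψ ρ 6 0 (ρ X.nb⁻¹ vb))) = a • T X ψ ρ 6 0 (ρ X.nb⁻¹ vb) := by
        rw [hB, map_smul, map_smul, E_x1_v X ρ hψ hv0 hv6 hv hl ha hs', smul_comm]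
      rw [h2, map_smul, nb_T6, rinv', map_smul, hκ1, smul_smul]
  · refine ⟨0, Or.inl rfl, fun s hs => ?_⟩
    push Not at hex
    obtain ⟨s', hs', h1⟩ := x0_nb X hs
    rw [E_x0 X ψ ρ h1, red X ρ hψ (E_nbi X ψ ρ hbE) hs']
    have h2 : T X ψ ρ 6 0 (ρ X.nb⁻¹ vb) = 0 := by
      by_contra hne
      exact hex _ hne (T_mem X ψ ρ (by norm_num) 0 _) (by rw [E_T6, E_nbi X ψ ρ hbE])
    rw [h2, map_zero, map_zero, map_zero, map_zero, zero_smul]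

theorem mem3 {r1 r2 r3 : ℕ} {c1 c2 c3 : F} {v : V} : v ∈ J X ψ ρ [(r1, c1), (r2, c2), (r3, c3)] ↔
    Fx X ψ ρ r1 c1 v ∧ Fx X ψ ρ r2 c2 v ∧ Fx X ψ ρ r3 c3 v := by
  constructor
  · intro h
    exact ⟨h (r1, c1) (by simp), h (r2, c2) (by simp), h (r3, c3) (by simp)⟩
  · rintro ⟨h1, h2, h3⟩ p hp t
    simp only [List.mem_cons, List.not_mem_nil, or_false] at hp
    rcases hp with rfl | rfl | rfl
    · exact h1 t
    · exact h2 t
    · exact h3 t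

theorem mem2 {r1 r2 : ℕ} {c1 c2 : F} {v : V} : v ∈ J X ψ ρ [(r1, c1), (r2, c2)] ↔
    Fx X ψ ρ r1 c1 v ∧ Fx X ψ ρ r2 c2 v := by
  constructor
  · intro h
    exact ⟨h (r1, c1) (by simp), h (r2, c2) (by simp)⟩
  · rintro ⟨h1, h2⟩ p hp t
    simp only [List.mem_cons, List.not_mem_nil, or_false] at hp
    rcases hp with rfl | rfl
    · exact h1 t
    · exact h2 t

theorem b_uni [FiniteDimensional ℂ V] {ψ : AddChar F ℂ} (hψ' : ψ ≠ 0) (w : Fˣ) (hw : (w : F) ^ 3 = 1) (hw1 : (w : F) ≠ 1)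
    (hz : ∀ z, z ≠ 0 → ∀ d, dj X ψ ρ [(9, d), (11, z)] = Fintype.card F)
    (hZ : ∀ z, z ≠ 0 → dj X ψ ρ [(10, 0), (11, z)] = Fintype.card F)
    (h1 : ∀ b, b ≠ 0 → dj X ψ ρ [(6, b), (10, 0), (11, 0)] = 1)
    (h0 : dj X ψ ρ [(6, 0), (10, 0), (11, 0)] ≤ 1) : False := by
  have hψ : ψ.IsPrimitive := AddChar.IsPrimitive.of_ne_one hψ'
  have hq := q_ne (F := F)
  have hq1 : 1 < Fintype.card F := Fintype.one_lt_card
  have hqC : (1 : ℝ) < Fintype.card F := by exact_mod_cast hq1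
  -- vb
  obtain ⟨⟨vb, hvb⟩, hvb0, hvbl⟩ := finrank_eq_one_iff'.1 (h1 1 one_ne_zero)
  have hvb0' : vb ≠ 0 := fun h => hvb0 (Subtype.ext h)
  obtain ⟨hb6, hb10, hb11⟩ := (mem3 X ψ ρ).1 hvb
  have hbE := E_eq X ψ ρ hb10 hb11
  have hbline : ∀ w, Fx X ψ ρ 6 1 w → E X ψ ρ w = w → ∃ c : ℂ, w = c • vb := by
    intro y hy6 hyE
    obtain ⟨c, hc⟩ := hvbl ⟨y, (mem3 X ψ ρ).2 ⟨hy6, fx10 X ψ ρ hyE, fx11 X ψ ρ hyE⟩⟩
    exact ⟨c, (congrArg Subtype.val hc).symm⟩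
  have hline : ∀ v, v ≠ 0 → Fx X ψ ρ 6 0 v → E X ψ ρ v = v → ∀ w, Fx X ψ ρ 6 0 w → E X ψ ρ w = w →
      ∃ c : ℂ, w = c • v := by
    intro v hv0 hv6 hvE y hy6 hyE
    obtain ⟨v0, hv0l⟩ := finrank_le_one_iff.1 h0
    obtain ⟨c, hc⟩ := hv0l ⟨v, (mem3 X ψ ρ).2 ⟨hv6, fx10 X ψ ρ hvE, fx11 X ψ ρ hvE⟩⟩
    obtain ⟨d, hd⟩ := hv0l ⟨y, (mem3 X ψ ρ).2 ⟨hy6, fx10 X ψ ρ hyE, fx11 X ψ ρ hyE⟩⟩
    have hc' : c • (v0 : V) = v := congrArg Subtype.val hc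
    have hd' : d • (v0 : V) = y := congrArg Subtype.val hd
    have hc0 : c ≠ 0 := by rintro rfl; rw [zero_smul] at hc'; exact hv0 hc'.symm
    exact ⟨d / c, by rw [← hc', ← hd', smul_smul, div_mul_cancel₀ _ hc0]⟩
  obtain ⟨g, hg, hgam⟩ := gam X ρ hψ one_ne_zero hb6 hbE hbline hline hq1
  -- n
  obtain ⟨n, hn, s1, t1, hn2⟩ := X.r10 1 one_ne_zero
  obtain ⟨k6, hk6, hk6'⟩ : Cj X n 6 11 := by rw [hn2]; exact Cj_nc X (nc6 X) (by norm_num) s1 t1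
  obtain ⟨k1, hk1, hk1'⟩ : Cj X n⁻¹ 10 1 := by
    rw [hn2]; exact Cj_inv X (Cj_nc X (nc1 X) (by norm_num) s1 t1)
  obtain ⟨k0, hk0, hk0'⟩ : Cj X n⁻¹ 5 0 := by
    rw [hn2]; exact Cj_inv X (Cj_nc X (nc0 X) (by norm_num) s1 t1)
  -- z0
  have hwu : w ^ 3 = 1 := Units.ext (by rw [Units.val_pow_eq_pow_val, hw, Units.val_one])
  have hzc : ∀ r, r ∈ [1, 5, 6, 10, 11] → ∀ u y, ρ (X.h w 1) (ρ (X.x r u) y) = ρ (X.x r u) (ρ (X.h w 1) y) := by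
    intro r hr u y
    have h3 : X.h w 1 * X.x r u * (X.h w 1)⁻¹ = X.x r u := by
      have hw3' : w ^ (3 : ℤ) = 1 := by exact_mod_cast hwu
      have hw3'' : w ^ (-3 : ℤ) = 1 := by rw [zpow_neg, hw3', inv_one]
      simp only [List.mem_cons, List.not_mem_nil, or_false] at hr
      rcases hr with rfl | rfl | rfl | rfl | rfl <;> rw [X.tor w 1 _ (by norm_num) u] <;>
        simp [ca, cb, hw3', hw3'']
    rw [← rmul, ← rmul, mul_inv_eq_iff_eq_mul.1 h3]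
  have hzv : ∃ lam : ℂ, ρ (X.h w 1) vb = lam • vb := by
    refine hbline _ ?_ ?_
    · intro t; rw [← hzc 6 (by simp), hb6, map_smul]
    · refine E_eq X ψ ρ ?_ ?_
      · intro t; rw [← hzc 10 (by simp), hb10, map_smul]
      · intro t; rw [← hzc 11 (by simp), hb11, map_smul]
  obtain ⟨lam, hlam⟩ := hzv
  have hlam0 : lam ≠ 0 := by
    rintro rfl
    rw [zero_smul] at hlam
    have := rinv ρ (X.h w 1) vb
    rw [hlam, map_zero] at this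
    exact hvb0' this.symm
  have hPx : ∀ r, r ∈ [1, 5, 6, 10, 11] → ∀ u y, ρ (X.h w 1) y = lam • y →
      ρ (X.h w 1) (ρ (X.x r u) y) = lam • ρ (X.x r u) y := by
    intro r hr u y hy
    rw [hzc r hr, hy, map_smul]
  have hPn : ρ (X.h w 1) (ρ n vb) = lam • ρ n vb := by
    have h3 : n = X.x 10 (-1⁻¹) * X.x 1 1 * X.x 10 (-1⁻¹) := by
      rw [x_neg X (by norm_num), hn]; group
    rw [h3, rmul, rmul]
    exact hPx 10 (by simp) _ _ (hPx 1 (by simp) _ _ (hPx 10 (by simp) _ _ hlam))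
  have hPT : ∀ y, ρ (X.h w 1) y = lam • y → ρ (X.h w 1) (T X ψ ρ 10 0 y) = lam • T X ψ ρ 10 0 y := by
    intro y hy
    rw [T_apply, map_smul, map_sum, smul_comm lam]
    congr 1
    rw [Finset.smul_sum]
    refine Finset.sum_congr rfl (fun u _ => ?_)
    rw [map_smul, hPx 10 (by simp) _ _ hy, smul_comm]
  -- y
  set z : F := 1 / k6 with hzdef
  have hz0 : z ≠ 0 := div_ne_zero one_ne_zero hk6
  set y0 : V := T X ψ ρ 10 0 (ρ n vb) with hy0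
  have hy10 : Fx X ψ ρ 10 0 y0 := T_mem X ψ ρ (by norm_num) 0 _
  have hy11 : Fx X ψ ρ 11 z y0 := Fx_T X ψ ρ (c1011 X) 0 (Fx_conj X ψ ρ hk6 hk6' hb6)
  have c510 : ∀ t u : F, X.x 5 t * X.x 10 u = X.x 10 u * X.x 5 t := by
    intro t u
    obtain ⟨a, ha, ha1⟩ : Cj X X.nb 6 5 := Cj_nb X (by norm_num)
    obtain ⟨b, hb, hb1⟩ : Cj X X.nb 11 10 := Cj_nb X (by norm_num)
    have e1 : X.x 5 t = X.nb * X.x 6 (t / a) * X.nb⁻¹ := by rw [ha1]; congr 1; field_simp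
    have e2 : X.x 10 u = X.nb * X.x 11 (u / b) * X.nb⁻¹ := by rw [hb1]; congr 1; field_simp
    have e3 := X.comm 6 11 (by simp) (t / a) (u / b)
    calc X.x 5 t * X.x 10 u = X.nb * (X.x 6 (t / a) * X.x 11 (u / b)) * X.nb⁻¹ := by rw [e1, e2]; group
      _ = X.nb * (X.x 11 (u / b) * X.x 6 (t / a)) * X.nb⁻¹ := by rw [e3]
      _ = X.x 10 u * X.x 5 t := by rw [e1, e2]; group
  let y : F → V := fun s => ρ (X.x 5 s) y0
  have hyJ : ∀ s, y s ∈ J X ψ ρ [(10, 0), (11, z)] := by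
    intro s
    refine (mem2 X ψ ρ).2 ⟨?_, ?_⟩
    · intro t
      show ρ (X.x 10 t) (ρ (X.x 5 s) y0) = _
      rw [← rmul, ← c510, rmul, hy10, map_smul]
    · intro t
      show ρ (X.x 11 t) (ρ (X.x 5 s) y0) = _
      obtain ⟨e, -, he⟩ := X.c511 s t
      have h3 : X.x 11 t * X.x 5 s = X.x 5 s * X.x 11 t * X.x 10 (e * s * t) := by
        rw [mul_assoc (X.x 5 s), ← he]; group
      rw [← rmul, h3, rmul, rmul, (Fx_zero X ψ ρ).1 hy10, hy11, map_smul]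
  have hyP : ∀ s, ρ (X.h w 1) (y s) = lam • y s := fun s => hPx 5 (by simp) _ _ (hPT _ hPn)
  let L : F → V →ₗ[ℂ] V := fun s' => T X ψ ρ 6 1 ∘ₗ E X ψ ρ ∘ₗ ρ n⁻¹ ∘ₗ ρ (X.x 5 (-s'))
  have hL : ∀ s s', L s' (y s) = (if s = s' then 1 / (Fintype.card F : ℂ) else g) • vb := by
    intro s s'
    show T X ψ ρ 6 1 (E X ψ ρ (ρ n⁻¹ (ρ (X.x 5 (-s')) (ρ (X.x 5 s) y0)))) = _
    have h3 : n⁻¹ * X.x 5 (-s' + s) = X.x 0 (k0 * (-s' + s)) * n⁻¹ := by rw [← hk0']; group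
    rw [← rmul ρ (X.x 5 (-s')), ← X.add 5 (by norm_num), ← rmul, h3, rmul, hy0, T_conj X ψ ρ hk1 hk1', zero_div,
      rinv, T_apply X ψ ρ 1 0 vb, map_smul, map_smul, map_smul, map_sum, map_sum, map_sum]
    by_cases hss : s = s'
    · rw [if_pos hss, hss, neg_add_cancel, mul_zero, x_zero X (by norm_num)]
      rw [Finset.sum_eq_single (0 : F)]
      · rw [zero_mul, neg_zero, AddChar.map_zero_eq_one, one_smul, x_zero X (by norm_num), map_one]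
        show (Fintype.card F : ℂ)⁻¹ • T X ψ ρ 6 1 (E X ψ ρ vb) = _
        rw [hbE, T_eig X ψ ρ hb6, one_div]
      · intro t _ ht
        rw [zero_mul, neg_zero, AddChar.map_zero_eq_one, one_smul, map_one]
        show T X ψ ρ 6 1 (E X ψ ρ (ρ (X.x 1 t) vb)) = 0
        rw [E_x1 X ρ hψ ht one_ne_zero hb6 hb10, map_zero]
      · intro h; exact absurd (Finset.mem_univ _) h
    · rw [if_neg hss]
      have hd : k0 * (-s' + s) ≠ 0 := mul_ne_zero hk0 (by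
        intro h; apply hss; linear_combination h)
      have h4 : ∀ t : F, T X ψ ρ 6 1 (E X ψ ρ (ρ (X.x 0 (k0 * (-s' + s))) (ψ (-(0 * t)) • ρ (X.x 1 t) vb))) = g • vb := by
        intro t
        rw [zero_mul, neg_zero, AddChar.map_zero_eq_one, one_smul, x01 X ρ hd hb6, hgam _ hd]
      rw [Finset.sum_congr rfl (fun t _ => h4 t), Finset.sum_const, Finset.card_univ, ← Nat.cast_smul_eq_nsmul ℂ,
        smul_smul, inv_mul_cancel₀ hq, one_smul]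
  have hind : LinearIndependent ℂ y := by
    refine mat_indep Fintype.card_ne_zero y L vb hvb0' g ?_ ?_ hL
    · rcases hg with rfl | rfl
      · exact (one_div_ne_zero hq).symm
      · intro h
        rw [div_eq_div_iff (pow_ne_zero 3 hq) hq] at h
        have h4 : ((Fintype.card F ^ 3 + Fintype.card F ^ 2 + Fintype.card F : ℕ) : ℂ) = 0 := by
          push_cast
          linear_combination -h
        have h5 := Nat.cast_eq_zero.1 h4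
        have h6 := Nat.zero_le (Fintype.card F ^ 3)
        have h7 := Nat.zero_le (Fintype.card F ^ 2)
        omega
    · rcases hg with rfl | rfl
      · rw [mul_zero, add_zero]; exact one_div_ne_zero hq
      · have h3 : 1 / (Fintype.card F : ℂ) + ((Fintype.card F : ℂ) - 1) *
            (-((Fintype.card F : ℂ) + 1) / (Fintype.card F : ℂ) ^ 3) = 1 / (Fintype.card F : ℂ) ^ 3 := by
          field_simp; ring
        rw [h3]; exact one_div_ne_zero (pow_ne_zero _ hq)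
  have hspan : Submodule.span ℂ (Set.range y) = J X ψ ρ [(10, 0), (11, z)] := by
    apply Submodule.eq_of_le_of_finrank_eq
    · rw [Submodule.span_le]; rintro _ ⟨s, rfl⟩; exact hyJ s
    · rw [finrank_span_eq_card hind]; exact (hZ z hz0).symm
  have hJP : ∀ u ∈ J X ψ ρ [(10, 0), (11, z)], ρ (X.h w 1) u = lam • u := by
    intro u hu
    rw [← hspan] at hu
    refine Submodule.span_induction ?_ ?_ ?_ ?_ hu
    · rintro _ ⟨s, rfl⟩; exact hyP s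
    · rw [map_zero, smul_zero]
    · intro a b _ _ ha hb; rw [map_add, ha, hb, smul_add]
    · intro c a _ ha; rw [map_smul, ha, smul_comm]
  -- the end
  have hpos : 0 < dj X ψ ρ [(9, 1), (11, z)] := by rw [hz z hz0]; omega
  obtain ⟨⟨w9, hw9⟩, hw90⟩ := (Module.finrank_pos_iff_exists_ne_zero (R := ℂ)).1 hpos
  have hw90' : w9 ≠ 0 := fun h => hw90 (Subtype.ext h)
  obtain ⟨h99, h911⟩ := (mem2 X ψ ρ).1 hw9
  obtain ⟨e, he⟩ : ∃ e : F, T X ψ ρ 10 e w9 ≠ 0 := by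
    by_contra hcon
    push Not at hcon
    have h3 := T_sum X ρ hψ (r := 10) (by norm_num) w9
    rw [Finset.sum_congr rfl (fun c _ => hcon c), Finset.sum_const_zero] at h3
    exact hw90' h3.symm
  have c109 : ∀ t u : F, X.x 10 t * X.x 9 u = X.x 9 u * X.x 10 t := fun t u => (X.comm 9 10 (by simp) u t).symm
  have b9 : Fx X ψ ρ 9 1 (T X ψ ρ 10 e w9) := Fx_T X ψ ρ c109 e h99
  have b11 : Fx X ψ ρ 11 z (T X ψ ρ 10 e w9) := Fx_T X ψ ρ (c1011 X) e h911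
  have b10 : Fx X ψ ρ 10 e (T X ψ ρ 10 e w9) := T_mem X ψ ρ (by norm_num) e w9
  set y1 := T X ψ ρ 10 e w9 with hy1
  set y2 := ρ (X.x 6 (-e / z)) y1 with hy2
  have hy20 : y2 ≠ 0 := by
    intro h
    have := rinv ρ (X.x 6 (-e / z)) y1
    rw [← hy2, h, map_zero] at this
    exact he this.symm
  have d9 : Fx X ψ ρ 9 1 y2 := by
    intro t
    rw [hy2, ← rmul, ← X.comm 6 9 (by simp), rmul, b9, map_smul]
  have d11 : Fx X ψ ρ 11 z y2 := by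
    intro t
    rw [hy2, ← rmul, ← X.comm 6 11 (by simp), rmul, b11, map_smul]
  have d10 : Fx X ψ ρ 10 0 y2 := by
    intro t
    have h3 : X.x 10 t * X.x 6 (-e / z) = X.x 6 (-e / z) * X.x 10 t * X.x 11 (-e / z * t) := by
      rw [mul_assoc (X.x 6 (-e / z)), ← X.c610]; group
    rw [hy2, ← rmul, h3, rmul, rmul, b11, map_smul, map_smul, b10, map_smul, smul_smul, ← AddChar.map_add_eq_mul]
    congr 2
    field_simp; ring
  have hP2 := hJP y2 ((mem2 X ψ ρ).2 ⟨d10, d11⟩)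
  have hfin : ∀ u : F, ψ u = ψ ((w : F) ^ 2 * u) := by
    intro u
    have h3 : X.h w 1 * X.x 9 u = X.x 9 ((w : F) ^ 2 * u) * X.h w 1 := by
      have h4 := X.tor w 1 9 (by norm_num) u
      have h5 : (((w ^ (ca 9) * (1 : Fˣ) ^ (cb 9) : Fˣ) : F) * u) = (w : F) ^ 2 * u := by
        congr 1
        simp [ca, cb]
        try norm_cast
      rw [h5] at h4
      rw [← h4]; group
    have h4 : ρ (X.h w 1) (ρ (X.x 9 u) y2) = ρ (X.x 9 ((w : F) ^ 2 * u)) (ρ (X.h w 1) y2) := by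
      rw [← rmul, h3, rmul]
    rw [d9, map_smul, hP2, map_smul, d9, one_mul, one_mul, smul_smul, smul_smul, mul_comm lam] at h4
    exact mul_right_cancel₀ hlam0 (smul_left_injective ℂ hy20 h4)
  have hw2 : (w : F) ^ 2 - 1 ≠ 0 := by
    intro h
    apply hw1
    have h3 : (w : F) ^ 3 = (w : F) := by rw [pow_succ, show (w : F) ^ 2 = 1 by linear_combination h, one_mul]
    rw [← h3, hw]
  apply hψ hw2
  ext u
  rw [AddChar.mulShift_apply, AddChar.one_apply, sub_mul, one_mul, sub_eq_add_neg, AddChar.map_add_eq_mul,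
    ← hfin u, ← AddChar.map_add_eq_mul, add_neg_cancel, AddChar.map_zero_eq_one]

theorem b_two [FiniteDimensional ℂ V] {ψ : AddChar F ℂ} (hψ : ψ ≠ 0) (w : Fˣ) (hw : (w : F) ^ 3 = 1) (hw1 : (w : F) ≠ 1)
    (hq : 4 < Fintype.card F) (hirr : ρ.IsIrreducible) (hV : finrank ℂ V < Fintype.card F ^ 3 + 1)
    (hz : ∀ z, z ≠ 0 → ∀ d, dj X ψ ρ [(9, d), (11, z)] = Fintype.card F)
    (hZ : ∀ z, z ≠ 0 → dj X ψ ρ [(10, 0), (11, z)] = Fintype.card F)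
    (h1 : ∀ b, b ≠ 0 → dj X ψ ρ [(6, b), (10, 0), (11, 0)] = 1)
    (h0 : dj X ψ ρ [(6, 0), (10, 0), (11, 0)] = 1) : False :=
  b_uni X ρ hψ w hw hw1 hz hZ h1 h0.le

end Cfsg.Agent.G2M.BU
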