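import Cfsg.Agent.G2M.R

set_option autoImplicit false

/-! S2338, end of B2. -/

namespace Cfsg.Agent.G2M

open Module Finset

variable {F G : Type*} [Field F] [Fintype F] [DecidableEq F] [Group G] {V : Type*} [AddCommGroup V] [Module ℂ V] [FiniteDimensional ℂ V]
  (X : G2G F G) {ψ : AddChar F ℂ} (ρ : Representation ℂ G V)

theorem b_end_lam (hψ : ψ ≠ 0) (w : Fˣ) (hw : (w : F) ^ 3 = 1) (hw1 : (w : F) ≠ 1) (z : F) (hz : z ≠ 0)
    (lam : ℂ) (hlam : lam ≠ 0) (h9 : dj X ψ ρ [(9, 1), (11, z)] ≠ 0)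
    (hV : ∀ v ∈ J X ψ ρ [(10, 0), (11, z)], ρ (X.h w 1) v = lam • v) : False := by
  have hmul : ∀ (a b : G) (v : V), ρ (a * b) v = ρ a (ρ b v) := by
    intro a b v; rw [map_mul]; rfl
  have nil : ∀ v : V, v ∈ J X ψ ρ [] := by
    intro v p hp; simp at hp
  have c910 := X.comm 9 10 (by simp)
  have c1011 := X.comm 10 11 (by simp)
  have c611 := X.comm 6 11 (by simp)
  have hst : ∀ t, ∀ v ∈ J X ψ ρ [(9, 1), (11, z)], ρ (X.x 10 t) v ∈ J X ψ ρ [(9, 1), (11, z)] := by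
    intro t v hv
    rw [mem_J_cons, mem_J_cons] at hv ⊢
    obtain ⟨a, b, -⟩ := hv
    refine ⟨fun u => ?_, fun u => ?_, nil _⟩
    · rw [← hmul, c910, hmul, a, map_smul]
    · rw [← hmul, ← c1011, hmul, b, map_smul]
  have hs := dj_split X ρ hψ (s := 10) (by norm_num) [(9, 1), (11, z)] hst
  obtain ⟨e, he⟩ : ∃ e, dj X ψ ρ ((10, e) :: [(9, 1), (11, z)]) ≠ 0 := by
    by_contra hne
    push Not at hne
    apply h9
    rw [hs]
    exact Finset.sum_eq_zero fun c _ => hne c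
  obtain ⟨v, hv, hv0⟩ : ∃ v ∈ J X ψ ρ ((10, e) :: [(9, 1), (11, z)]), v ≠ 0 := by
    apply Submodule.exists_mem_ne_zero_of_ne_bot
    intro hb
    apply he
    show finrank ℂ (J X ψ ρ ((10, e) :: [(9, 1), (11, z)])) = 0
    rw [hb]; simp
  rw [mem_J_cons, mem_J_cons, mem_J_cons] at hv
  obtain ⟨a10, a9, a11, -⟩ := hv
  -- z0 v = v
  have hz0 : ρ (X.h w 1) v = lam • v := by
    have hm : ρ (X.x 6 (-(e / z))) v ∈ J X ψ ρ [(10, 0), (11, z)] := by
      rw [mem_J_cons, mem_J_cons]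
      refine ⟨fun u => ?_, fun u => ?_, nil _⟩
      · have h1 : X.x 10 u * X.x 6 (-(e / z)) = X.x 6 (-(e / z)) * (X.x 10 u * X.x 11 (-(e / z) * u)) := by
          rw [← X.c610]; group
        rw [← hmul, h1, hmul, hmul, a11, map_smul, a10, smul_smul, map_smul, ← AddChar.map_add_eq_mul]
        congr 2
        field_simp
        ring
      · rw [← hmul, ← c611, hmul, a11, map_smul]
    have h2 := hV _ hm
    have ht := X.tor w 1 6 (by norm_num) (-(e / z))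
    have hca : ca 6 = 0 := rfl
    have hcb : cb 6 = 1 := rfl
    rw [hca, hcb] at ht
    have ht' : X.h w 1 * X.x 6 (-(e / z)) = X.x 6 (-(e / z)) * X.h w 1 := by
      have : (((w ^ (0 : ℤ) * (1 : Fˣ) ^ (1 : ℤ) : Fˣ) : F) * (-(e / z))) = -(e / z) := by simp
      rw [this] at ht
      exact mul_inv_eq_iff_eq_mul.1 ht
    rw [← hmul, ht', hmul, ← map_smul] at h2
    have h3 := congrArg (ρ (X.x 6 (-(e / z)))⁻¹) h2
    rw [← hmul, ← hmul, inv_mul_cancel, one_mul, ← hmul, inv_mul_cancel, map_one] at h3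
    exact h3
  have ht := X.tor w 1 9 (by norm_num)
  have hca : ca 9 = 2 := rfl
  have hcb : cb 9 = 1 := rfl
  rw [hca, hcb] at ht
  have hψ' : ∀ t : F, ψ ((w : F) ^ 2 * t) = ψ t := by
    intro t
    have ht' : X.h w 1 * X.x 9 t = X.x 9 ((w : F) ^ 2 * t) * X.h w 1 := by
      have h1 := mul_inv_eq_iff_eq_mul.1 (ht t)
      rw [h1]
      congr 2
      simp
    have h1 : ρ (X.h w 1) (ρ (X.x 9 t) v) = ψ t • (lam • v) := by
      rw [a9, map_smul, hz0, one_mul]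
    rw [← hmul, ht', hmul, hz0, map_smul, a9, one_mul, smul_smul, smul_smul] at h1
    have h2 := smul_left_injective ℂ hv0 h1
    rw [mul_comm] at h2
    exact mul_right_cancel₀ hlam h2
  have hw2 : (w : F) ^ 2 - 1 ≠ 0 := by
    intro h
    apply hw1
    have h2 : (w : F) ^ 2 = 1 := sub_eq_zero.1 h
    calc (w : F) = (w : F) ^ 3 := by rw [pow_succ, h2, one_mul]
      _ = 1 := hw
  apply hψ
  ext t
  have h1 := hψ' (t / ((w : F) ^ 2 - 1))
  have h2 : (w : F) ^ 2 * (t / ((w : F) ^ 2 - 1)) = t + t / ((w : F) ^ 2 - 1) := by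
    field_simp; ring
  rw [h2, AddChar.map_add_eq_mul] at h1
  have h3 : ψ (t / ((w : F) ^ 2 - 1)) ≠ 0 := (AddChar.val_isUnit ψ _).ne_zero
  have h4 : ψ t = 1 := mul_right_cancel₀ h3 (by rw [h1, one_mul])
  simpa using h4

theorem b_end (hψ : ψ ≠ 0) (w : Fˣ) (hw : (w : F) ^ 3 = 1) (hw1 : (w : F) ≠ 1) (z : F) (hz : z ≠ 0)
    (h9 : dj X ψ ρ [(9, 1), (11, z)] ≠ 0)
    (hV : ∀ v ∈ J X ψ ρ [(10, 0), (11, z)], ρ (X.h w 1) v = v) : False :=
  b_end_lam X ρ hψ w hw hw1 z hz 1 one_ne_zero h9 fun v hv => by rw [one_smul]; exact hV v hv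

end Cfsg.Agent.G2M
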