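import Mathlib
set_option autoImplicit false
namespace Cfsg.Agent.G2M.CFinAlt
open Module Finset

variable {F : Type*} [Field F] [Fintype F] [DecidableEq F]

theorem sum_erase_split {M : Type*} [AddCommMonoid M] (f : F → M) : ∑ z, f z = f 0 + ∑ z ∈ univ.erase (0 : F), f z :=
  (Finset.add_sum_erase univ f (mem_univ 0)).symm

/-- `m b 0 0 e` is constant for `(b, e) ≠ 0` -/
theorem m00_const [CharP F 3] (m : F → F → F → F → ℕ)
    (hA : ∀ t b c d e, m b c d e = m (b + t * c + t ^ 2 * d - t ^ 3 * e) (c + 2 * t * d) d e)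
    (hT : ∀ s t b c d e, s ≠ 0 → t ≠ 0 → m b c d e = m (t * b) (s * t * c) (s ^ 2 * t * d) (s ^ 3 * t * e))
    (hna : ∃ e1 e2 e3 e4 : F, (e1 = 1 ∨ e1 = -1) ∧ (e2 = 1 ∨ e2 = -1) ∧ (e3 = 1 ∨ e3 = -1) ∧ (e4 = 1 ∨ e4 = -1) ∧
      ∀ b c d e, m b c d e = m (e1 * e) (e2 * d) (e3 * c) (e4 * b)) :
    ∀ b e, (b ≠ 0 ∨ e ≠ 0) → m b 0 0 e = m 0 0 0 1 := by
  have hcube : Function.Surjective (fun t : F => t ^ 3) := by
    have : Function.Injective (fun t : F => t ^ 3) := frobenius_inj F 3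
    exact Finite.surjective_of_injective this
  -- e ≠ 0
  have h1 : ∀ b e, e ≠ 0 → m b 0 0 e = m 0 0 0 1 := by
    intro b e he
    obtain ⟨t, ht⟩ := hcube (b / e)
    have ht' : t ^ 3 = b / e := ht
    have h2 := hA t b 0 0 e
    have h3 : b + t * 0 + t ^ 2 * 0 - t ^ 3 * e = 0 := by rw [ht']; field_simp; ring
    rw [h3] at h2
    simp only [mul_zero, add_zero] at h2
    rw [h2, hT 1 e⁻¹ 0 0 0 e one_ne_zero (inv_ne_zero he)]
    simp [he]
  intro b e hbe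
  by_cases he : e = 0
  · subst he
    have hb : b ≠ 0 := by tauto
    obtain ⟨e1, e2, e3, e4, -, -, -, h4, h⟩ := hna
    rw [h b 0 0 0]
    simp only [mul_zero]
    apply h1
    rcases h4 with rfl | rfl <;> simpa using hb
  · exact h1 b e he

theorem c_fin [CharP F 3] (h9 : 9 ≤ Fintype.card F) (m : F → F → F → F → ℕ) (n : F → F → F → ℕ) (D : ℕ)
    (hD : D = ∑ z ∈ univ.erase (0 : F), Fintype.card F * ∑ c, ∑ d, n z c d + ∑ b, ∑ c, ∑ d, ∑ e, m b c d e)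
    (hA : ∀ t b c d e, m b c d e = m (b + t * c + t ^ 2 * d - t ^ 3 * e) (c + 2 * t * d) d e)
    (hT : ∀ s t b c d e, s ≠ 0 → t ≠ 0 → m b c d e = m (t * b) (s * t * c) (s ^ 2 * t * d) (s ^ 3 * t * e))
    (hna : ∃ e1 e2 e3 e4 : F, (e1 = 1 ∨ e1 = -1) ∧ (e2 = 1 ∨ e2 = -1) ∧ (e3 = 1 ∨ e3 = -1) ∧ (e4 = 1 ∨ e4 = -1) ∧
      ∀ b c d e, m b c d e = m (e1 * e) (e2 * d) (e3 * c) (e4 * b))
    (hB : ∃ e1 : F, (e1 = 1 ∨ e1 = -1) ∧ ∀ b, b ≠ 0 → Fintype.card F * ∑ c, ∑ d, n (e1 * b) c d =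
      ∑ z ∈ univ.erase (0 : F), ∑ c, ∑ d, n z c d + ∑ c, ∑ d, ∑ e, m b c d e)
    (hr : (∀ b c, c ≠ 0 → m b c 0 0 = 1) → Fintype.card F - 1 ≤ m 0 0 0 0)
    (j j0 E : ℕ) (hj : 1 ≤ j) (hn : ∀ z c d, z ≠ 0 → (c ≠ 0 ∨ d ≠ 0) → n z c d = j)
    (hn0 : ∀ z, z ≠ 0 → n z 0 0 = j0)
    (hE : ∀ c d, (c ≠ 0 ∨ d ≠ 0) → ∑ b, ∑ e, m b c d e = E) (hEj : (Fintype.card F - 1) * j ≤ E)
    (hEc : (∀ b c e, c ≠ 0 → m b c 0 e = if e = 0 then 1 else 0) ∨ 4 * Fintype.card F ≤ 3 * E) :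
    Fintype.card F ^ 4 + Fintype.card F ^ 2 - 2 ≤ D := by
  obtain ⟨Q, hQ⟩ : ∃ Q, Fintype.card F = Q + 1 := ⟨Fintype.card F - 1, by omega⟩
  have hce : (univ.erase (0 : F)).card = Q := by rw [card_erase_of_mem (mem_univ _), card_univ, hQ]; rfl
  -- sums over pairs with exceptional value at (0,0)
  have pairsum : ∀ (f : F → F → ℕ) (a a0 : ℕ), (∀ c d, (c ≠ 0 ∨ d ≠ 0) → f c d = a) → f 0 0 = a0 →
      ∑ c, ∑ d, f c d = a0 + ((Q + 1) ^ 2 - 1) * a := by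
    intro f a a0 h h0
    rw [sum_erase_split, sum_erase_split, h0]
    have h1 : ∑ z ∈ univ.erase (0 : F), f 0 z = Q * a := by
      rw [Finset.sum_congr rfl (fun z hz => h 0 z (Or.inr (ne_of_mem_erase hz))), sum_const, hce, smul_eq_mul]
    have h2 : ∑ z ∈ univ.erase (0 : F), ∑ d, f z d = Q * ((Q + 1) * a) := by
      rw [Finset.sum_congr rfl (fun z hz => Finset.sum_congr rfl (fun d _ => h z d (Or.inl (ne_of_mem_erase hz)))), sum_const, hce,
        sum_const, card_univ, hQ, smul_eq_mul, smul_eq_mul]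
    rw [h1, h2]
    have : (Q + 1) ^ 2 - 1 = Q * Q + 2 * Q := by
      have : (Q + 1) ^ 2 = Q * Q + 2 * Q + 1 := by ring
      omega
    rw [this]; ring
  have hnz : ∀ z, z ≠ 0 → ∑ c, ∑ d, n z c d = j0 + ((Q + 1) ^ 2 - 1) * j :=
    fun z hz => pairsum (n z) j j0 (fun c d h => hn z c d hz h) (hn0 z hz)
  set N := j0 + ((Q + 1) ^ 2 - 1) * j with hN
  have hsq : (Q + 1) ^ 2 - 1 = Q * Q + 2 * Q := by
    have : (Q + 1) ^ 2 = Q * Q + 2 * Q + 1 := by ring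
    omega
  have hmc := m00_const m hA hT hna
  set h := m 0 0 0 1 with hh
  -- total sum of m
  have hmt : ∑ b, ∑ c, ∑ d, ∑ e, m b c d e = (m 0 0 0 0 + (Q * Q + 2 * Q) * h) + (Q * Q + 2 * Q) * E := by
    have h1 : ∑ b, ∑ c, ∑ d, ∑ e, m b c d e = ∑ c, ∑ d, ∑ b, ∑ e, m b c d e := by
      rw [Finset.sum_comm]
      refine Finset.sum_congr rfl (fun c _ => ?_)
      rw [Finset.sum_comm]
    rw [h1, pairsum (fun c d => ∑ b, ∑ e, m b c d e) E (∑ b, ∑ e, m b 0 0 e) hE rfl, hsq]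
    rw [pairsum (fun b e => m b 0 0 e) h (m 0 0 0 0) hmc rfl, hsq]
  have hDD : D = Q * ((Q + 1) * N) + ((m 0 0 0 0 + (Q * Q + 2 * Q) * h) + (Q * Q + 2 * Q) * E) := by
    rw [hD, hmt, Finset.sum_congr rfl (fun z hz => by rw [hnz z (ne_of_mem_erase hz)]), sum_const, hce, hQ, smul_eq_mul]
  rw [hQ] at h9 hEj hEc hr ⊢
  have hQ8 : 8 ≤ Q := by omega
  have hEj' : Q * j ≤ E := by simpa using hEj
  have hgoal : (Q + 1) ^ 4 + (Q + 1) ^ 2 - 2 ≤ D ↔ (Q + 1) ^ 4 + (Q + 1) ^ 2 ≤ D + 2 := by omega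
  rw [hgoal]
  have hNj : (Q * Q + 2 * Q) * j ≤ N := by rw [hN, hsq]; omega
  by_cases hj2 : 2 ≤ j
  · -- j ≥ 2
    have h1 : (Q * Q + 2 * Q) * 2 ≤ N := le_trans (Nat.mul_le_mul_left _ hj2) hNj
    have h2 : Q * 2 ≤ E := le_trans (Nat.mul_le_mul_left _ hj2) hEj'
    rw [hDD]
    nlinarith [Nat.zero_le (m 0 0 0 0), Nat.zero_le ((Q * Q + 2 * Q) * h), Nat.mul_le_mul_left (Q * (Q + 1)) h1,
      Nat.mul_le_mul_left (Q * Q + 2 * Q) h2, mul_pos (by omega : 0 < Q) (by omega : 0 < Q), Nat.mul_le_mul hQ8 hQ8]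
  have hj1 : j = 1 := by omega
  subst hj1
  rw [mul_one] at hNj
  rcases hEc with hEc | hEc
  · -- E = q
    have hEq : E = Q + 1 := by
      rw [← hE 1 0 (Or.inl one_ne_zero),
        Finset.sum_congr rfl (fun b _ => Finset.sum_congr rfl (fun e _ => hEc b 1 e one_ne_zero))]
      simp [hQ]
    obtain ⟨ε, hε, hB⟩ := hB
    have hεb : ε * 1 ≠ 0 := by rcases hε with rfl | rfl <;> simp
    have hB1 := hB 1 one_ne_zero
    rw [hnz _ hεb, Finset.sum_congr rfl (fun z hz => hnz z (ne_of_mem_erase hz)), sum_const, hce, hQ, smul_eq_mul] at hB1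
    have hT1 : ∑ c, ∑ d, ∑ e, m 1 c d e = N := by
      have : (Q + 1) * N = Q * N + N := by ring
      rw [this] at hB1
      omega
    obtain ⟨e1, e2, e3, e4, -, he2, -, he4, hna'⟩ := hna
    have h3 : (3 : F) = 0 := by exact_mod_cast CharP.cast_eq_zero F 3
    have he2' : e2 ≠ 0 := by rcases he2 with rfl | rfl <;> simp
    have he4' : e4 ≠ 0 := by rcases he4 with rfl | rfl <;> simp
    have hmd : ∀ c d e, d ≠ 0 → m 1 c d e = if (1 + (c / d) * c + (c / d) ^ 2 * d - (c / d) ^ 3 * e) = 0 then 1 else 0 := by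
      intro c d e hd
      rw [hA (c / d) 1 c d e]
      have h4 : c + 2 * (c / d) * d = 0 := by
        field_simp
        linear_combination c * h3
      rw [h4, hna', mul_zero, hEc _ _ _ (mul_ne_zero he2' hd)]
      simp [he4']
    have hg00 : ∑ e, m 1 0 0 e = (Q + 1) * h := by
      rw [Finset.sum_congr rfl (fun e _ => hmc 1 e (Or.inl one_ne_zero)), sum_const, card_univ, hQ, smul_eq_mul]
    have hg0d : ∀ d, d ≠ 0 → ∑ e, m 1 0 d e = 0 := by
      intro d hd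
      apply Finset.sum_eq_zero
      intro e _
      rw [hmd 0 d e hd]
      simp
    have hgc0 : ∀ c, c ≠ 0 → ∑ e, m 1 c 0 e = 1 := by
      intro c hc
      rw [Finset.sum_congr rfl (fun e _ => hEc 1 c e hc)]
      simp
    have hgcd : ∀ c d, c ≠ 0 → d ≠ 0 → ∑ e, m 1 c d e = 1 := by
      intro c d hc hd
      rw [Finset.sum_congr rfl (fun e _ => hmd c d e hd)]
      have ht : (c / d) ^ 3 ≠ 0 := pow_ne_zero _ (div_ne_zero hc hd)
      have h5 : ∀ e, (1 + (c / d) * c + (c / d) ^ 2 * d - (c / d) ^ 3 * e) = 0 ↔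
          e = (1 + (c / d) * c + (c / d) ^ 2 * d) / (c / d) ^ 3 := by
        intro e
        rw [sub_eq_zero, eq_div_iff ht]
        constructor
        · intro h; rw [h]; ring
        · intro h; rw [← h]; ring
      simp only [h5, Finset.sum_ite_eq', mem_univ, if_true]
    have hT2 : ∑ c, ∑ d, ∑ e, m 1 c d e = (Q + 1) * h + Q * (Q + 1) := by
      rw [sum_erase_split, sum_erase_split, hg00, Finset.sum_eq_zero (fun d hd => hg0d d (ne_of_mem_erase hd)), add_zero]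
      congr 1
      have h6 : ∀ c ∈ univ.erase (0 : F), ∑ d, ∑ e, m 1 c d e = Q + 1 := by
        intro c hc
        have hc0 := ne_of_mem_erase hc
        rw [sum_erase_split, hgc0 c hc0, Finset.sum_congr rfl (fun d hd => hgcd c d hc0 (ne_of_mem_erase hd)), sum_const, hce]
        simp [add_comm]
      rw [Finset.sum_congr rfl h6, sum_const, hce, smul_eq_mul]
    have hNh : N = (Q + 1) * h + Q * (Q + 1) := hT1.symm.trans hT2
    have hj0h : j0 + Q = (Q + 1) * h := by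
      rw [hN, hsq] at hNh
      nlinarith
    have hh1 : 1 ≤ h := by
      rcases Nat.eq_zero_or_pos h with h0 | h0
      · rw [h0] at hj0h; omega
      · exact h0
    have hm0 : Q ≤ m 0 0 0 0 := by
      have := hr (fun b c hc => by rw [hEc b c 0 hc]; simp)
      simpa using this
    rw [hDD, hNh, hEq]
    rcases Nat.lt_or_ge h 2 with h2 | h2
    · have : h = 1 := by omega
      rw [this]
      nlinarith
    · nlinarith [Nat.mul_le_mul_left (Q * (Q + 1) * (Q + 1)) h2, Nat.mul_le_mul_left (Q * Q + 2 * Q) h2,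
        mul_pos (by omega : 0 < Q) (by omega : 0 < Q), Nat.mul_le_mul hQ8 hQ8,
        Nat.mul_le_mul_left (Q * Q) hQ8]
  · -- 4 q ≤ 3 E
    rw [hDD]
    have h1 : Q * ((Q + 1) * (Q * Q + 2 * Q)) ≤ Q * ((Q + 1) * N) :=
      Nat.mul_le_mul_left _ (Nat.mul_le_mul_left _ hNj)
    have h2 : (Q * Q + 2 * Q) * (4 * (Q + 1)) ≤ (Q * Q + 2 * Q) * (3 * E) := Nat.mul_le_mul_left _ hEc
    have h3 : Q * (Q * (3 * Q + 10)) ≤ Q * (Q * (Q * Q)) := by
      apply Nat.mul_le_mul_left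
      apply Nat.mul_le_mul_left
      nlinarith
    have h4 : 3 * Q ^ 2 + 10 * Q ≤ Q ^ 3 := by nlinarith [Nat.mul_le_mul_left Q hQ8]
    nlinarith [Nat.zero_le (m 0 0 0 0), Nat.zero_le ((Q * Q + 2 * Q) * h)]

end Cfsg.Agent.G2M.CFinAlt
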