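import Cfsg.Agent.G2M.CHr

set_option autoImplicit false

/-!
# Characteristic three: the rules hB and hD (helper17)
-/

namespace Cfsg.Agent.G2M
open Module Finset

namespace CHr

section
variable {F G : Type*} [Field F] [Group G] {V : Type*} [AddCommGroup V] [Module ℂ V]
  {X : G2G F G} {ψ : AddChar F ℂ} {ρ : Representation ℂ G V}

theorem k6_10 {v : V} {e z : F} (h10 : Ev X ψ ρ 10 e v) (h11 : Ev X ψ ρ 11 z v) (t : F) : Ev X ψ ρ 10 (e + z * t) (ρ (X.x 6 t) v) := by
  intro u
  rw [conjv (X.c610 t u), rmul, h11, map_smul, h10, smul_smul, map_smul, ← AddChar.map_add_eq_mul]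
  congr 2; ring

theorem k10_6 {v : V} {b z : F} (h6 : Ev X ψ ρ 6 b v) (h11 : Ev X ψ ρ 11 z v) (u : F) : Ev X ψ ρ 6 (b - z * u) (ρ (X.x 10 u) v) := by
  intro t
  have h := X.c610 t u
  have h2 : X.x 10 u * X.x 6 t = X.x 6 t * X.x 10 u * X.x 11 (t * u) := by
    rw [mul_assoc, ← h]; group
  have h3 : X.x 6 t * X.x 10 u = X.x 10 u * X.x 6 t * X.x 11 (-(t * u)) := by
    rw [h2, mul_assoc, ← X.add 11 (by norm_num), add_neg_cancel, x_zero (by norm_num), mul_one]
  rw [← rmul, h3, rmul, rmul, h11, map_smul, map_smul, h6, map_smul, smul_smul, ← AddChar.map_add_eq_mul]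
  congr 2; ring

theorem cm {r s : ℕ} (h : ∀ t u : F, X.x r t * X.x s u = X.x s u * X.x r t) (t u : F) : X.x s t * X.x r u = X.x r u * X.x s t := (h u t).symm

theorem k8_9 [CharP F 3] {v : V} {d : F} (h9 : Ev X ψ ρ 9 d v) (t : F) : Ev X ψ ρ 9 d (ρ (X.x 8 t) v) := by
  intro u
  have h3 : (3 : F) = 0 := by exact_mod_cast CharP.cast_eq_zero F 3
  rw [conjv (X.c89 t u), rmul, h3, zero_mul, zero_mul, x_zero (by norm_num), map_one, Module.End.one_apply, h9, map_smul]

end

variable {F G : Type*} [Field F] [Fintype F] [DecidableEq F] [Group G] {V : Type*} [AddCommGroup V] [Module ℂ V] [FiniteDimensional ℂ V]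
  (X : G2G F G) {ψ : AddChar F ℂ} (ρ : Representation ℂ G V)

omit [Fintype F] [DecidableEq F] [FiniteDimensional ℂ V] in
theorem dj_congr {l l' : List (ℕ × F)} (h : ∀ v, v ∈ J X ψ ρ l ↔ v ∈ J X ψ ρ l') : dj X ψ ρ l = dj X ψ ρ l' := by
  unfold dj
  have : J X ψ ρ l = J X ψ ρ l' := Submodule.ext h
  rw [this]

/-- the part with nontrivial `11` -/
theorem dj11 [CharP F 3] (hψ : ψ ≠ 0) {z : F} (hz : z ≠ 0) :
    dj X ψ ρ [(11, z)] = Fintype.card F * ∑ c, ∑ d, dj X ψ ρ [(8, c), (9, d), (10, 0), (11, z)] := by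
  have s1 : dj X ψ ρ [(11, z)] = Fintype.card F * dj X ψ ρ [(10, 0), (11, z)] := by
    rw [dj_split X ρ hψ (s := 10) (by norm_num)]
    · have : ∀ e : F, dj X ψ ρ [(10, e), (11, z)] = dj X ψ ρ [(10, 0), (11, z)] := by
        intro e
        apply dj_eq_of_map X ρ (X.x 6 (-(e * z⁻¹)))
        · intro v hv
          simp only [jcons] at hv ⊢
          obtain ⟨h10, h11, -⟩ := hv
          have a0 := k6_10 h10 h11 (-(e * z⁻¹))
          have : e + z * (-(e * z⁻¹)) = 0 := by field_simp; ring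
          rw [this] at a0
          exact ⟨a0, h11.keep fun u => X.comm 6 11 (by simp) _ u, mem_nil X ρ⟩
        · intro v hv
          rw [x_neg (by norm_num), neg_neg]
          simp only [jcons] at hv ⊢
          obtain ⟨h10, h11, -⟩ := hv
          have a0 := k6_10 h10 h11 (e * z⁻¹)
          have : 0 + z * (e * z⁻¹) = e := by field_simp; ring
          rw [this] at a0
          exact ⟨a0, h11.keep fun u => X.comm 6 11 (by simp) _ u, mem_nil X ρ⟩
      rw [Finset.sum_congr rfl (fun e _ => this e)]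
      simp
    · intro t v hv
      simp only [jcons] at hv ⊢
      exact ⟨hv.1.keep fun u => X.comm 10 11 (by simp) t u, mem_nil X ρ⟩
  have s2 : dj X ψ ρ [(10, 0), (11, z)] = ∑ d, ∑ c, dj X ψ ρ [(8, c), (9, d), (10, 0), (11, z)] := by
    rw [dj_split X ρ hψ (s := 9) (by norm_num)]
    · refine Finset.sum_congr rfl fun d _ => ?_
      rw [dj_split X ρ hψ (s := 8) (by norm_num)]
      intro t v hv
      simp only [jcons] at hv ⊢
      obtain ⟨h9, h10, h11, -⟩ := hv
      exact ⟨k8_9 h9 t, h10.keep fun u => X.comm 8 10 (by simp) t u, h11.keep fun u => X.comm 8 11 (by simp) t u, mem_nil X ρ⟩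
    · intro t v hv
      simp only [jcons] at hv ⊢
      obtain ⟨h10, h11, -⟩ := hv
      exact ⟨h10.keep fun u => X.comm 9 10 (by simp) t u, h11.keep fun u => X.comm 9 11 (by simp) t u, mem_nil X ρ⟩
  rw [s1, s2, Finset.sum_comm]

/-- `6` and `11` -/
theorem dj6_11 [CharP F 3] (hψ : ψ ≠ 0) {z : F} (hz : z ≠ 0) (b : F) :
    dj X ψ ρ [(6, b), (11, z)] = ∑ c, ∑ d, dj X ψ ρ [(8, c), (9, d), (10, 0), (11, z)] := by
  have hq : 0 < Fintype.card F := Fintype.card_pos
  apply Nat.eq_of_mul_eq_mul_left hq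
  rw [← dj11 X ρ hψ hz]
  symm
  rw [dj_split X ρ hψ (s := 6) (by norm_num)]
  · have : ∀ a : F, dj X ψ ρ [(6, a), (11, z)] = dj X ψ ρ [(6, b), (11, z)] := by
      intro a
      apply dj_eq_of_map X ρ (X.x 10 ((a - b) * z⁻¹))
      · intro v hv
        simp only [jcons] at hv ⊢
        obtain ⟨h6, h11, -⟩ := hv
        have a0 := k10_6 h6 h11 ((a - b) * z⁻¹)
        have : a - z * ((a - b) * z⁻¹) = b := by field_simp; ring
        rw [this] at a0
        exact ⟨a0, h11.keep fun u => X.comm 10 11 (by simp) _ u, mem_nil X ρ⟩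
      · intro v hv
        rw [x_neg (by norm_num)]
        simp only [jcons] at hv ⊢
        obtain ⟨h6, h11, -⟩ := hv
        have a0 := k10_6 h6 h11 (-((a - b) * z⁻¹))
        have : b - z * (-((a - b) * z⁻¹)) = a := by field_simp; ring
        rw [this] at a0
        exact ⟨a0, h11.keep fun u => X.comm 10 11 (by simp) _ u, mem_nil X ρ⟩
    rw [Finset.sum_congr rfl (fun e _ => this e)]
    simp
  · intro t v hv
    simp only [jcons] at hv ⊢
    exact ⟨hv.1.keep fun u => X.comm 6 11 (by simp) t u, mem_nil X ρ⟩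

/-- `6` with `11` trivial -/
theorem dj6_0 [CharP F 3] (hψ : ψ ≠ 0) (b : F) :
    dj X ψ ρ [(6, b), (11, 0)] = ∑ c, ∑ d, ∑ e, dj X ψ ρ [(6, b), (8, c), (9, d), (10, e), (11, 0)] := by
  have s1 : dj X ψ ρ [(6, b), (11, 0)] = ∑ e, ∑ d, ∑ c, dj X ψ ρ [(6, b), (8, c), (9, d), (10, e), (11, 0)] := by
    rw [dj_split X ρ hψ (s := 10) (by norm_num)]
    · refine Finset.sum_congr rfl fun e _ => ?_
      rw [dj_split X ρ hψ (s := 9) (by norm_num)]
      · refine Finset.sum_congr rfl fun d _ => ?_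
        rw [dj_split X ρ hψ (s := 8) (by norm_num)]
        · refine Finset.sum_congr rfl fun c _ => ?_
          apply dj_congr
          intro v
          simp only [jcons]
          tauto
        · intro t v hv
          simp only [jcons] at hv ⊢
          obtain ⟨h9, h10, h6, h11, -⟩ := hv
          exact ⟨k8_9 h9 t, h10.keep fun u => X.comm 8 10 (by simp) t u, h6.keep fun u => cm (fun t u => X.comm 6 8 (by simp) t u) t u,
            h11.keep fun u => X.comm 8 11 (by simp) t u, mem_nil X ρ⟩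
      · intro t v hv
        simp only [jcons] at hv ⊢
        obtain ⟨h10, h6, h11, -⟩ := hv
        exact ⟨h10.keep fun u => X.comm 9 10 (by simp) t u, h6.keep fun u => cm (fun t u => X.comm 6 9 (by simp) t u) t u,
          h11.keep fun u => X.comm 9 11 (by simp) t u, mem_nil X ρ⟩
    · intro t v hv
      simp only [jcons] at hv ⊢
      obtain ⟨h6, h11, -⟩ := hv
      have a0 := k10_6 h6 h11 t
      rw [zero_mul, sub_zero] at a0
      exact ⟨a0, h11.keep fun u => X.comm 10 11 (by simp) t u, mem_nil X ρ⟩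
  rw [s1, Finset.sum_comm]
  rw [Finset.sum_congr rfl (fun d _ => Finset.sum_comm)]
  rw [Finset.sum_comm]

end CHr

open CHr

variable {F G : Type*} [Field F] [Fintype F] [DecidableEq F] [Group G] {V : Type*} [AddCommGroup V] [Module ℂ V] [FiniteDimensional ℂ V]
  (X : G2G F G) {ψ : AddChar F ℂ} (ρ : Representation ℂ G V)

/-- the rule `hB` -/
theorem c_hB [CharP F 3] (hψ : ψ ≠ 0) : ∃ e1 : F, (e1 = 1 ∨ e1 = -1) ∧ ∀ b, b ≠ 0 →
    Fintype.card F * ∑ c, ∑ d, dj X ψ ρ [(8, c), (9, d), (10, 0), (11, e1 * b)] =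
      ∑ z ∈ univ.erase (0 : F), ∑ c, ∑ d, dj X ψ ρ [(8, c), (9, d), (10, 0), (11, z)] +
        ∑ c, ∑ d, ∑ e, dj X ψ ρ [(6, b), (8, c), (9, d), (10, e), (11, 0)] := by
  obtain ⟨e6, he6, h6⟩ := X.hna 6 (by norm_num)
  obtain ⟨e10, he10, h10⟩ := X.hnb 10 (by norm_num)
  have r6 : ra 6 = 10 := rfl
  have r10 : rb 10 = 11 := rfl
  rw [r6] at h6
  rw [r10] at h10
  have i6 : e6⁻¹ = e6 := by rcases he6 with rfl | rfl <;> norm_num
  have i10 : e10⁻¹ = e10 := by rcases he10 with rfl | rfl <;> norm_num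
  have q6 : e6 * e6 = 1 := by rcases he6 with rfl | rfl <;> norm_num
  have q10 : e10 * e10 = 1 := by rcases he10 with rfl | rfl <;> norm_num
  refine ⟨e6 * e10, ?_, fun b hb => ?_⟩
  · rcases he6 with rfl | rfl <;> rcases he10 with rfl | rfl <;> norm_num
  · have hne : e6 * e10 * b ≠ 0 := mul_ne_zero (mul_ne_zero (pm_ne he6) (pm_ne he10)) hb
    rw [← dj11 X ρ hψ hne]
    have m1 : dj X ψ ρ [(6, b)] = dj X ψ ρ [(10, e6 * b)] := by
      apply dj_eq_of_map X ρ X.na
      · intro v hv
        simp only [jcons] at hv ⊢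
        have := hv.1.move h6 (pm_ne he6)
        rw [i6, mul_comm] at this
        exact ⟨this, mem_nil X ρ⟩
      · intro v hv
        simp only [jcons] at hv ⊢
        have := hv.1.move' h6
        have e : e6 * b * e6 = b := by linear_combination b * q6
        rw [e] at this
        exact ⟨this, mem_nil X ρ⟩
    have m2 : dj X ψ ρ [(10, e6 * b)] = dj X ψ ρ [(11, e6 * e10 * b)] := by
      apply dj_eq_of_map X ρ X.nb
      · intro v hv
        simp only [jcons] at hv ⊢
        have := hv.1.move h10 (pm_ne he10)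
        have e : e6 * b * e10⁻¹ = e6 * e10 * b := by rw [i10]; ring
        rw [e] at this
        exact ⟨this, mem_nil X ρ⟩
      · intro v hv
        simp only [jcons] at hv ⊢
        have := hv.1.move' h10
        have e : e6 * e10 * b * e10 = e6 * b := by linear_combination e6 * b * q10
        rw [e] at this
        exact ⟨this, mem_nil X ρ⟩
    rw [← m2, ← m1, dj_split X ρ hψ (s := 11) (by norm_num)]
    · rw [← Finset.add_sum_erase _ _ (Finset.mem_univ (0 : F)), add_comm]
      congr 1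
      · refine Finset.sum_congr rfl fun z hz => ?_
        rw [← dj6_11 X ρ hψ (Finset.ne_of_mem_erase hz) b]
        apply dj_congr
        intro v
        simp only [jcons]
        tauto
      · rw [← dj6_0 X ρ hψ b]
        apply dj_congr
        intro v
        simp only [jcons]
        tauto
    · intro t v hv
      simp only [jcons] at hv ⊢
      exact ⟨hv.1.keep fun u => cm (fun t u => X.comm 6 11 (by simp) t u) t u, mem_nil X ρ⟩

end Cfsg.Agent.G2M
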