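import Cfsg.Agent.G2M.CHB

set_option autoImplicit false

/-!
# Characteristic three: the rules hnan and hnb (helper17)
-/

namespace Cfsg.Agent.G2M
open Module Finset CHr

variable {F G : Type*} [Field F] [Fintype F] [DecidableEq F] [Group G] {V : Type*} [AddCommGroup V] [Module ℂ V] [FiniteDimensional ℂ V]
  (X : G2G F G) {ψ : AddChar F ℂ} (ρ : Representation ℂ G V)

namespace CHr

theorem dj_6_10 (hψ : ψ ≠ 0) {z : F} (hz : z ≠ 0) (c d : F) :
    dj X ψ ρ [(6, 0), (8, c), (9, d), (11, z)] = dj X ψ ρ [(8, c), (9, d), (10, 0), (11, z)] := by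
  have hq : 0 < Fintype.card F := Fintype.card_pos
  apply Nat.eq_of_mul_eq_mul_left hq
  have a1 : dj X ψ ρ [(8, c), (9, d), (11, z)] = Fintype.card F * dj X ψ ρ [(6, 0), (8, c), (9, d), (11, z)] := by
    rw [dj_split X ρ hψ (s := 6) (by norm_num)]
    · have : ∀ a : F, dj X ψ ρ [(6, a), (8, c), (9, d), (11, z)] = dj X ψ ρ [(6, 0), (8, c), (9, d), (11, z)] := by
        intro a
        apply dj_eq_of_map X ρ (X.x 10 (a * z⁻¹))
        · intro v hv
          simp only [jcons] at hv ⊢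
          obtain ⟨h6, h8, h9, h11, -⟩ := hv
          have a0 := k10_6 h6 h11 (a * z⁻¹)
          have : a - z * (a * z⁻¹) = 0 := by field_simp; ring
          rw [this] at a0
          exact ⟨a0, h8.keep fun u => cm (fun t u => X.comm 8 10 (by simp) t u) _ u, h9.keep fun u => cm (fun t u => X.comm 9 10 (by simp) t u) _ u,
            h11.keep fun u => X.comm 10 11 (by simp) _ u, mem_nil X ρ⟩
        · intro v hv
          rw [x_neg (by norm_num)]
          simp only [jcons] at hv ⊢
          obtain ⟨h6, h8, h9, h11, -⟩ := hv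
          have a0 := k10_6 h6 h11 (-(a * z⁻¹))
          have : 0 - z * (-(a * z⁻¹)) = a := by field_simp; ring
          rw [this] at a0
          exact ⟨a0, h8.keep fun u => cm (fun t u => X.comm 8 10 (by simp) t u) _ u, h9.keep fun u => cm (fun t u => X.comm 9 10 (by simp) t u) _ u,
            h11.keep fun u => X.comm 10 11 (by simp) _ u, mem_nil X ρ⟩
      rw [Finset.sum_congr rfl (fun e _ => this e)]
      simp
    · intro t v hv
      simp only [jcons] at hv ⊢
      obtain ⟨h8, h9, h11, -⟩ := hv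
      exact ⟨h8.keep fun u => X.comm 6 8 (by simp) t u, h9.keep fun u => X.comm 6 9 (by simp) t u,
        h11.keep fun u => X.comm 6 11 (by simp) t u, mem_nil X ρ⟩
  have a2 : dj X ψ ρ [(8, c), (9, d), (11, z)] = Fintype.card F * dj X ψ ρ [(8, c), (9, d), (10, 0), (11, z)] := by
    rw [dj_split X ρ hψ (s := 10) (by norm_num)]
    · have : ∀ a : F, dj X ψ ρ [(10, a), (8, c), (9, d), (11, z)] = dj X ψ ρ [(8, c), (9, d), (10, 0), (11, z)] := by
        intro a
        apply dj_eq_of_map X ρ (X.x 6 (-(a * z⁻¹)))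
        · intro v hv
          simp only [jcons] at hv ⊢
          obtain ⟨h10, h8, h9, h11, -⟩ := hv
          have a0 := k6_10 h10 h11 (-(a * z⁻¹))
          have : a + z * (-(a * z⁻¹)) = 0 := by field_simp; ring
          rw [this] at a0
          exact ⟨h8.keep fun u => X.comm 6 8 (by simp) _ u, h9.keep fun u => X.comm 6 9 (by simp) _ u, a0,
            h11.keep fun u => X.comm 6 11 (by simp) _ u, mem_nil X ρ⟩
        · intro v hv
          rw [x_neg (by norm_num), neg_neg]
          simp only [jcons] at hv ⊢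
          obtain ⟨h8, h9, h10, h11, -⟩ := hv
          have a0 := k6_10 h10 h11 (a * z⁻¹)
          have : 0 + z * (a * z⁻¹) = a := by field_simp; ring
          rw [this] at a0
          exact ⟨a0, h8.keep fun u => X.comm 6 8 (by simp) _ u, h9.keep fun u => X.comm 6 9 (by simp) _ u,
            h11.keep fun u => X.comm 6 11 (by simp) _ u, mem_nil X ρ⟩
      rw [Finset.sum_congr rfl (fun e _ => this e)]
      simp
    · intro t v hv
      simp only [jcons] at hv ⊢
      obtain ⟨h8, h9, h11, -⟩ := hv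
      exact ⟨h8.keep fun u => cm (fun t u => X.comm 8 10 (by simp) t u) t u, h9.keep fun u => cm (fun t u => X.comm 9 10 (by simp) t u) t u,
        h11.keep fun u => X.comm 10 11 (by simp) t u, mem_nil X ρ⟩
  rw [← a1, ← a2]

end CHr

/-- the rule `hnan` -/
theorem c_hnan (hψ : ψ ≠ 0) : ∃ e1 e2 e3 : F, (e1 = 1 ∨ e1 = -1) ∧ (e2 = 1 ∨ e2 = -1) ∧ (e3 = 1 ∨ e3 = -1) ∧
      ∀ z c d, z ≠ 0 → dj X ψ ρ [(8, c), (9, d), (10, 0), (11, z)] = dj X ψ ρ [(8, e2 * d), (9, e3 * c), (10, 0), (11, e1 * z)] := by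
  obtain ⟨e8, he8, h8⟩ := X.hna 8 (by norm_num)
  obtain ⟨e9, he9, h9⟩ := X.hna 9 (by norm_num)
  obtain ⟨e10, he10, h10⟩ := X.hna 10 (by norm_num)
  obtain ⟨e11, he11, h11⟩ := X.hna 11 (by norm_num)
  have r8 : ra 8 = 9 := rfl
  have r9 : ra 9 = 8 := rfl
  have r10 : ra 10 = 6 := rfl
  have r11 : ra 11 = 11 := rfl
  rw [r8] at h8
  rw [r9] at h9
  rw [r10] at h10
  rw [r11] at h11
  have i8 : e8⁻¹ = e8 := by rcases he8 with rfl | rfl <;> norm_num
  have i9 : e9⁻¹ = e9 := by rcases he9 with rfl | rfl <;> norm_num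
  have i11 : e11⁻¹ = e11 := by rcases he11 with rfl | rfl <;> norm_num
  have q8 : e8 * e8 = 1 := by rcases he8 with rfl | rfl <;> norm_num
  have q9 : e9 * e9 = 1 := by rcases he9 with rfl | rfl <;> norm_num
  have q11 : e11 * e11 = 1 := by rcases he11 with rfl | rfl <;> norm_num
  refine ⟨e11, e9, e8, he11, he9, he8, fun z c d hz => ?_⟩
  rw [← dj_6_10 X ρ hψ (mul_ne_zero (pm_ne he11) hz)]
  apply dj_eq_of_map X ρ X.na
  · intro v hv
    simp only [jcons] at hv ⊢
    obtain ⟨g8, g9, g10, g11, -⟩ := hv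
    have k8' := g8.move h8 (pm_ne he8)
    have k9' := g9.move h9 (pm_ne he9)
    have k10' := g10.move h10 (pm_ne he10)
    have k11' := g11.move h11 (pm_ne he11)
    rw [i8, mul_comm] at k8'
    rw [i9, mul_comm] at k9'
    rw [zero_mul] at k10'
    rw [i11, mul_comm] at k11'
    exact ⟨k10', k9', k8', k11', mem_nil X ρ⟩
  · intro v hv
    simp only [jcons] at hv ⊢
    obtain ⟨g6, g8, g9, g11, -⟩ := hv
    have k9' := g8.move' h9
    have k8' := g9.move' h8
    have k10' := g6.move' h10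
    have k11' := g11.move' h11
    have t1 : e9 * d * e9 = d := by linear_combination d * q9
    have t2 : e8 * c * e8 = c := by linear_combination c * q8
    have t3 : e11 * z * e11 = z := by linear_combination z * q11
    rw [t1] at k9'
    rw [t2] at k8'
    rw [t3] at k11'
    rw [zero_mul] at k10'
    exact ⟨k8', k9', k10', k11', mem_nil X ρ⟩

/-- the rule `hnb` -/
theorem c_hnb [CharP F 3] (hψ : ψ ≠ 0) : ∃ e1 e2 : F, (e1 = 1 ∨ e1 = -1) ∧ (e2 = 1 ∨ e2 = -1) ∧ ∀ z d, z ≠ 0 →
    ∑ c, dj X ψ ρ [(8, c), (9, d), (10, 0), (11, z)] = ∑ b, ∑ c, dj X ψ ρ [(6, b), (8, c), (9, e1 * d), (10, e2 * z), (11, 0)] := by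
  obtain ⟨e9, he9, h9⟩ := X.hnb 9 (by norm_num)
  obtain ⟨e10, he10, h10⟩ := X.hnb 10 (by norm_num)
  obtain ⟨e11, he11, h11⟩ := X.hnb 11 (by norm_num)
  have r9 : rb 9 = 9 := rfl
  have r10 : rb 10 = 11 := rfl
  have r11 : rb 11 = 10 := rfl
  rw [r9] at h9
  rw [r10] at h10
  rw [r11] at h11
  have i9 : e9⁻¹ = e9 := by rcases he9 with rfl | rfl <;> norm_num
  have i11 : e11⁻¹ = e11 := by rcases he11 with rfl | rfl <;> norm_num
  have q9 : e9 * e9 = 1 := by rcases he9 with rfl | rfl <;> norm_num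
  have q11 : e11 * e11 = 1 := by rcases he11 with rfl | rfl <;> norm_num
  refine ⟨e9, e11, he9, he11, fun z d _ => ?_⟩
  have s1 : dj X ψ ρ [(9, d), (10, 0), (11, z)] = ∑ c, dj X ψ ρ [(8, c), (9, d), (10, 0), (11, z)] := by
    rw [dj_split X ρ hψ (s := 8) (by norm_num)]
    intro t v hv
    simp only [jcons] at hv ⊢
    obtain ⟨h9, h10, h11, -⟩ := hv
    exact ⟨k8_9 h9 t, h10.keep fun u => X.comm 8 10 (by simp) t u, h11.keep fun u => X.comm 8 11 (by simp) t u, mem_nil X ρ⟩
  have s2 : dj X ψ ρ [(9, d), (10, 0), (11, z)] = dj X ψ ρ [(9, e9 * d), (10, e11 * z), (11, 0)] := by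
    apply dj_eq_of_map X ρ X.nb
    · intro v hv
      simp only [jcons] at hv ⊢
      obtain ⟨g9, g10, g11, -⟩ := hv
      have k9' := g9.move h9 (pm_ne he9)
      have k10' := g10.move h10 (pm_ne he10)
      have k11' := g11.move h11 (pm_ne he11)
      rw [i9, mul_comm] at k9'
      rw [zero_mul] at k10'
      rw [i11, mul_comm] at k11'
      exact ⟨k9', k11', k10', mem_nil X ρ⟩
    · intro v hv
      simp only [jcons] at hv ⊢
      obtain ⟨g9, g10, g11, -⟩ := hv
      have k9' := g9.move' h9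
      have k10' := g11.move' h10
      have k11' := g10.move' h11
      have t1 : e9 * d * e9 = d := by linear_combination d * q9
      have t3 : e11 * z * e11 = z := by linear_combination z * q11
      rw [t1] at k9'
      rw [t3] at k11'
      rw [zero_mul] at k10'
      exact ⟨k9', k10', k11', mem_nil X ρ⟩
  have s3 : dj X ψ ρ [(9, e9 * d), (10, e11 * z), (11, 0)] = ∑ c, ∑ b, dj X ψ ρ [(6, b), (8, c), (9, e9 * d), (10, e11 * z), (11, 0)] := by
    rw [dj_split X ρ hψ (s := 8) (by norm_num)]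
    · refine Finset.sum_congr rfl fun c _ => ?_
      rw [dj_split X ρ hψ (s := 6) (by norm_num)]
      intro t v hv
      simp only [jcons] at hv ⊢
      obtain ⟨h8, h9, h10, h11, -⟩ := hv
      have a0 := k6_10 h10 h11 t
      rw [zero_mul, add_zero] at a0
      exact ⟨h8.keep fun u => X.comm 6 8 (by simp) t u, h9.keep fun u => X.comm 6 9 (by simp) t u, a0,
        h11.keep fun u => X.comm 6 11 (by simp) t u, mem_nil X ρ⟩
    · intro t v hv
      simp only [jcons] at hv ⊢
      obtain ⟨h9, h10, h11, -⟩ := hv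
      exact ⟨k8_9 h9 t, h10.keep fun u => X.comm 8 10 (by simp) t u, h11.keep fun u => X.comm 8 11 (by simp) t u, mem_nil X ρ⟩
  rw [← s1, s2, s3, Finset.sum_comm]

end Cfsg.Agent.G2M
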