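import Cfsg.Agent.G2M.R

set_option autoImplicit false
set_option linter.unusedSectionVars false
namespace Cfsg.Agent.G2M
namespace CM67
open Module Finset

variable {F G : Type*} [Field F] [Fintype F] [DecidableEq F] [Group G] {V : Type*} [AddCommGroup V] [Module ℂ V] [FiniteDimensional ℂ V]
  (X : G2G F G) {ψ : AddChar F ℂ} (ρ : Representation ℂ G V)

theorem mem_J {l : List (ℕ × F)} {v : V} :
    v ∈ J X ψ ρ l ↔ ∀ p ∈ l, ∀ t : F, ρ (X.x p.1 t) v = ψ (p.2 * t) • v := Iff.rfl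

theorem dj_congr {l l' : List (ℕ × F)} (h : ∀ p, p ∈ l ↔ p ∈ l') : dj X ψ ρ l = dj X ψ ρ l' := by
  have : J X ψ ρ l = J X ψ ρ l' := by
    ext v
    rw [mem_J, mem_J]
    simp only [h]
  unfold dj
  rw [this]

theorem x_zero {r : ℕ} (hr : r < 12) : X.x r 0 = 1 := by
  have h := X.add r hr 0 0
  rw [add_zero] at h
  exact (mul_eq_left.1 h.symm)

theorem x_neg {r : ℕ} (hr : r < 12) (t : F) : X.x r (-t) = (X.x r t)⁻¹ := by
  have h := X.add r hr (-t) t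
  rw [neg_add_cancel, x_zero X hr] at h
  exact eq_inv_of_mul_eq_one_left h.symm

/-- the basic computation -/
theorem act {g a b : G} (h : g⁻¹ * a * g = b) (v : V) : ρ a (ρ g v) = ρ g (ρ b v) := by
  have h1 : a * g = g * b := by rw [← h]; group
  rw [← Module.End.mul_apply, ← map_mul, h1, map_mul, Module.End.mul_apply]

/-- monomial maps -/
theorem map_gen (g : G) (l : List (ℕ × F)) (f : ℕ → ℕ) (κ : ℕ → F) (hκ : ∀ p ∈ l, κ p.1 ≠ 0)
    (h : ∀ p ∈ l, ∀ u, g⁻¹ * X.x (f p.1) u * g = X.x p.1 (κ p.1 * u)) :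
    dj X ψ ρ l = dj X ψ ρ (l.map (fun p => (f p.1, κ p.1 * p.2))) := by
  apply dj_eq_of_map X ρ g
  · intro v hv
    rw [mem_J] at hv ⊢
    intro p' hp' t
    obtain ⟨p, hp, rfl⟩ := List.mem_map.1 hp'
    change ρ (X.x (f p.1) t) (ρ g v) = ψ (κ p.1 * p.2 * t) • ρ g v
    rw [act ρ (h p hp t), hv p hp, map_smul]
    congr 2
    ring
  · intro v hv
    rw [mem_J] at hv ⊢
    intro p hp t
    have h1 : g⁻¹⁻¹ * X.x p.1 t * g⁻¹ = X.x (f p.1) ((κ p.1)⁻¹ * t) := by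
      have h2 := h p hp ((κ p.1)⁻¹ * t)
      rw [mul_inv_cancel_left₀ (hκ p hp)] at h2
      rw [← h2]
      group
    rw [act ρ h1, hv (f p.1, κ p.1 * p.2) (List.mem_map.2 ⟨p, hp, rfl⟩), map_smul]
    congr 2
    have := hκ p hp
    change κ p.1 * p.2 * ((κ p.1)⁻¹ * t) = p.2 * t
    field_simp

theorem tor_eq (s t : Fˣ) (l : List (ℕ × F)) (hl : ∀ p ∈ l, p.1 < 12) :
    dj X ψ ρ l = dj X ψ ρ (l.map (fun p => (p.1, ((s ^ (ca p.1) * t ^ (cb p.1) : Fˣ) : F) * p.2))) := by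
  refine map_gen X ρ (X.h s t)⁻¹ l id (fun r => ((s ^ (ca r) * t ^ (cb r) : Fˣ) : F)) ?_ ?_
  · intro p _
    exact Units.ne_zero _
  · intro p hp u
    rw [inv_inv]
    exact X.tor s t p.1 (hl p hp) u

/-- signs -/
theorem mono_eq (g : G) (σ : ℕ → ℕ) (e : ℕ → F) (he : ∀ r, r < 12 → (e r = 1 ∨ e r = -1) ∧
    ∀ u, g * X.x r u * g⁻¹ = X.x (σ r) (e r * u)) (l : List (ℕ × F)) (hl : ∀ p ∈ l, p.1 < 12) :
    dj X ψ ρ l = dj X ψ ρ (l.map (fun p => (σ p.1, e p.1 * p.2))) := by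
  apply map_gen X ρ g l σ e
  · intro p hp
    rcases (he p.1 (hl p hp)).1 with h | h <;> rw [h]
    · exact one_ne_zero
    · exact neg_ne_zero.2 one_ne_zero
  · intro p hp u
    have h1 := (he p.1 (hl p hp)).2 (e p.1 * u)
    have h2 : e p.1 * (e p.1 * u) = u := by
      rcases (he p.1 (hl p hp)).1 with h | h <;> rw [h] <;> ring
    rw [h2] at h1
    rw [← h1]
    group

/-- an element acting on the joint eigenspace -/
theorem stab {a : G} {l : List (ℕ × F)} (h : ∀ p ∈ l, ∀ t, ∀ v ∈ J X ψ ρ l, ρ (a⁻¹ * X.x p.1 t * a) v = ψ (p.2 * t) • v) :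
    ∀ v ∈ J X ψ ρ l, ρ a v ∈ J X ψ ρ l := by
  intro v hv
  rw [mem_J]
  intro p hp t
  rw [act ρ rfl, h p hp t v hv, map_smul]

theorem stab_comm {s : ℕ} {l : List (ℕ × F)} (h : ∀ p ∈ l, ∀ t u, X.x s t * X.x p.1 u = X.x p.1 u * X.x s t) :
    ∀ t, ∀ v ∈ J X ψ ρ l, ρ (X.x s t) v ∈ J X ψ ρ l := by
  intro t
  apply stab
  intro p hp u v hv
  have : (X.x s t)⁻¹ * X.x p.1 u * X.x s t = X.x p.1 u := by
    rw [mul_assoc, ← h p hp t u, inv_mul_cancel_left]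
  rw [this]
  exact hv p hp u

theorem J_nil : J X ψ ρ [] = ⊤ := by
  ext v
  simp [mem_J]

theorem dj_nil : dj X ψ ρ [] = finrank ℂ V := by
  unfold dj
  rw [J_nil, finrank_top]

section char3
variable [CharP F 3]

theorem three0 : (3 : F) = 0 := by exact_mod_cast CharP.cast_eq_zero F 3

theorem cm (r s : ℕ) (h : (r, s) ∈ [(6, 8), (6, 9), (6, 11), (7, 10), (7, 11), (8, 10), (8, 11), (9, 10), (9, 11), (10, 11)] ∨
    (r, s) ∈ [(7, 9), (8, 9)]) (t u : F) : X.x r t * X.x s u = X.x s u * X.x r t := by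
  rcases h with h | h
  · apply X.comm
    simp only [List.mem_cons, Prod.mk.injEq, List.not_mem_nil, or_false] at h ⊢
    tauto
  · simp only [List.mem_cons, Prod.mk.injEq, List.not_mem_nil, or_false] at h
    rcases h with ⟨rfl, rfl⟩ | ⟨rfl, rfl⟩
    · have h1 := X.c79 t u
      rw [three0, zero_mul, zero_mul, neg_zero, x_zero X (by norm_num), mul_one] at h1
      calc X.x 7 t * X.x 9 u = X.x 7 t * ((X.x 7 t)⁻¹ * X.x 9 u * X.x 7 t) := by rw [h1]
        _ = _ := by group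
    · have h1 := X.c89 t u
      rw [three0, zero_mul, zero_mul, x_zero X (by norm_num), mul_one] at h1
      calc X.x 8 t * X.x 9 u = X.x 8 t * ((X.x 8 t)⁻¹ * X.x 9 u * X.x 8 t) := by rw [h1]
        _ = _ := by group

end char3

end CM67
end Cfsg.Agent.G2M
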