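import Cfsg.Agent.G2M.CM67a
set_option autoImplicit false
set_option linter.unusedSectionVars false
namespace Cfsg.Agent.G2M
namespace CM67
open Module Finset

variable {F G : Type*} [Field F] [Fintype F] [DecidableEq F] [Group G] {V : Type*} [AddCommGroup V] [Module ℂ V] [FiniteDimensional ℂ V]
  (X : G2G F G) {ψ : AddChar F ℂ} (ρ : Representation ℂ G V)

theorem hT (s t b c d e : F) (hs : s ≠ 0) (ht : t ≠ 0) :
    dj X ψ ρ [(6,b),(8,c),(9,d),(10,e),(11,0)] = dj X ψ ρ [(6,t * b),(8,s * t * c),(9,s ^ 2 * t * d),(10,s ^ 3 * t * e),(11,0)] := by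
  rw [tor_eq X ρ (Units.mk0 s hs) (Units.mk0 t ht) [(6,b),(8,c),(9,d),(10,e),(11,0)] (by simp)]
  congr 1
  simp [ca, cb]

theorem hTn (s t z c d : F) (hs : s ≠ 0) (ht : t ≠ 0) :
    dj X ψ ρ [(8,c),(9,d),(10,0),(11,z)] = dj X ψ ρ [(8,s * t * c),(9,s ^ 2 * t * d),(10,0),(11,s ^ 3 * t ^ 2 * z)] := by
  rw [tor_eq X ρ (Units.mk0 s hs) (Units.mk0 t ht) [(8,c),(9,d),(10,0),(11,z)] (by simp)]
  congr 1
  simp [ca, cb]

theorem sa : ∃ e : ℕ → F, ∀ r, r < 12 → (e r = 1 ∨ e r = -1) ∧ ∀ u, X.na * X.x r u * X.na⁻¹ = X.x (ra r) (e r * u) := by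
  choose e he using X.hna
  refine ⟨fun r => if h : r < 12 then e r h else 1, fun r hr => ?_⟩
  simp only [hr, dif_pos]
  exact he r hr

theorem sb : ∃ e : ℕ → F, ∀ r, r < 12 → (e r = 1 ∨ e r = -1) ∧ ∀ u, X.nb * X.x r u * X.nb⁻¹ = X.x (rb r) (e r * u) := by
  choose e he using X.hnb
  refine ⟨fun r => if h : r < 12 then e r h else 1, fun r hr => ?_⟩
  simp only [hr, dif_pos]
  exact he r hr

theorem hna' : ∃ e1 e2 e3 e4 : F, (e1 = 1 ∨ e1 = -1) ∧ (e2 = 1 ∨ e2 = -1) ∧ (e3 = 1 ∨ e3 = -1) ∧ (e4 = 1 ∨ e4 = -1) ∧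
      ∀ b c d e, dj X ψ ρ [(6,b),(8,c),(9,d),(10,e),(11,0)] = dj X ψ ρ [(6,e1 * e),(8,e2 * d),(9,e3 * c),(10,e4 * b),(11,0)] := by
  obtain ⟨ε, hε⟩ := sa X
  refine ⟨ε 10, ε 9, ε 8, ε 6, (hε 10 (by norm_num)).1, (hε 9 (by norm_num)).1, (hε 8 (by norm_num)).1, (hε 6 (by norm_num)).1, ?_⟩
  intro b c d e
  rw [mono_eq X ρ X.na ra ε hε [(6,b),(8,c),(9,d),(10,e),(11,0)] (by simp)]
  apply dj_congr
  intro p
  simp [ra]
  tauto

/-- `x 10` shifts `6` -/
theorem shift6 {z : F} (hz : z ≠ 0) (c d b b' : F) :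
    dj X ψ ρ [(6,b),(8,c),(9,d),(11,z)] = dj X ψ ρ [(6,b'),(8,c),(9,d),(11,z)] := by
  have key : ∀ (b b' u : F), b - z * u = b' → ∀ v ∈ J X ψ ρ [(6,b),(8,c),(9,d),(11,z)], ρ (X.x 10 u) v ∈ J X ψ ρ [(6,b'),(8,c),(9,d),(11,z)] := by
    intro b b' u hb v hv
    rw [mem_J] at hv ⊢
    have h6 := hv (6, b) (by simp)
    have h8 := hv (8, c) (by simp)
    have h9 := hv (9, d) (by simp)
    have h11 := hv (11, z) (by simp)
    simp only at h6 h8 h9 h11
    intro p hp t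
    simp only [List.mem_cons, List.not_mem_nil, or_false] at hp
    rcases hp with rfl | rfl | rfl | rfl
    · have h1 : (X.x 10 u)⁻¹ * X.x 6 t * X.x 10 u = X.x 6 t * X.x 11 (-(t * u)) := by
        rw [x_neg X (by norm_num)]
        have := X.c610 t u
        have h2 : X.x 10 u * X.x 6 t = X.x 6 t * (X.x 10 u * X.x 11 (t * u)) := by rw [← this]; group
        have h3 : X.x 6 t = (X.x 10 u)⁻¹ * X.x 6 t * X.x 10 u * X.x 11 (t * u) := by
          calc X.x 6 t = (X.x 10 u)⁻¹ * (X.x 10 u * X.x 6 t) := by group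
            _ = _ := by rw [h2]; group
        calc (X.x 10 u)⁻¹ * X.x 6 t * X.x 10 u = (X.x 10 u)⁻¹ * X.x 6 t * X.x 10 u * X.x 11 (t * u) * (X.x 11 (t * u))⁻¹ := by group
          _ = _ := by rw [← h3]
      change ρ (X.x 6 t) (ρ (X.x 10 u) v) = ψ (b' * t) • ρ (X.x 10 u) v
      rw [act ρ h1, map_mul, Module.End.mul_apply, h11, map_smul, h6, smul_smul, ← AddChar.map_add_eq_mul, map_smul]
      congr 2
      rw [← hb]; ring
    · change ρ (X.x 8 t) (ρ (X.x 10 u) v) = ψ (c * t) • ρ (X.x 10 u) v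
      rw [← Module.End.mul_apply, ← map_mul, X.comm 8 10 (by simp), map_mul, Module.End.mul_apply, h8, map_smul]
    · change ρ (X.x 9 t) (ρ (X.x 10 u) v) = ψ (d * t) • ρ (X.x 10 u) v
      rw [← Module.End.mul_apply, ← map_mul, X.comm 9 10 (by simp), map_mul, Module.End.mul_apply, h9, map_smul]
    · change ρ (X.x 11 t) (ρ (X.x 10 u) v) = ψ (z * t) • ρ (X.x 10 u) v
      rw [← Module.End.mul_apply, ← map_mul, ← X.comm 10 11 (by simp), map_mul, Module.End.mul_apply, h11, map_smul]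
  apply dj_eq_of_map X ρ (X.x 10 ((b - b') / z))
  · exact key b b' _ (by field_simp; ring)
  · rw [← x_neg X (by norm_num)]
    exact key b' b _ (by field_simp; ring)

/-- `x 6` shifts `10` -/
theorem shift10 {z : F} (hz : z ≠ 0) (c d e e' : F) :
    dj X ψ ρ [(10,e),(8,c),(9,d),(11,z)] = dj X ψ ρ [(10,e'),(8,c),(9,d),(11,z)] := by
  have key : ∀ (e e' u : F), e + z * u = e' → ∀ v ∈ J X ψ ρ [(10,e),(8,c),(9,d),(11,z)], ρ (X.x 6 u) v ∈ J X ψ ρ [(10,e'),(8,c),(9,d),(11,z)] := by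
    intro e e' u he v hv
    rw [mem_J] at hv ⊢
    have h10 := hv (10, e) (by simp)
    have h8 := hv (8, c) (by simp)
    have h9 := hv (9, d) (by simp)
    have h11 := hv (11, z) (by simp)
    simp only at h10 h8 h9 h11
    intro p hp t
    simp only [List.mem_cons, List.not_mem_nil, or_false] at hp
    rcases hp with rfl | rfl | rfl | rfl
    · change ρ (X.x 10 t) (ρ (X.x 6 u) v) = ψ (e' * t) • ρ (X.x 6 u) v
      rw [act ρ (X.c610 u t), map_mul, Module.End.mul_apply, h11, map_smul, h10, smul_smul, ← AddChar.map_add_eq_mul, map_smul]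
      congr 2
      rw [← he]; ring
    · change ρ (X.x 8 t) (ρ (X.x 6 u) v) = ψ (c * t) • ρ (X.x 6 u) v
      rw [← Module.End.mul_apply, ← map_mul, ← X.comm 6 8 (by simp), map_mul, Module.End.mul_apply, h8, map_smul]
    · change ρ (X.x 9 t) (ρ (X.x 6 u) v) = ψ (d * t) • ρ (X.x 6 u) v
      rw [← Module.End.mul_apply, ← map_mul, ← X.comm 6 9 (by simp), map_mul, Module.End.mul_apply, h9, map_smul]
    · change ρ (X.x 11 t) (ρ (X.x 6 u) v) = ψ (z * t) • ρ (X.x 6 u) v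
      rw [← Module.End.mul_apply, ← map_mul, ← X.comm 6 11 (by simp), map_mul, Module.End.mul_apply, h11, map_smul]
  apply dj_eq_of_map X ρ (X.x 6 ((e' - e) / z))
  · exact key e e' _ (by field_simp; ring)
  · rw [← x_neg X (by norm_num)]
    exact key e' e _ (by field_simp; ring)

/-- swap -/
theorem six_ten (hψ : ψ ≠ 0) {z : F} (hz : z ≠ 0) (c d b e : F) :
    dj X ψ ρ [(6,b),(8,c),(9,d),(11,z)] = dj X ψ ρ [(10,e),(8,c),(9,d),(11,z)] := by
  have h1 : dj X ψ ρ [(8,c),(9,d),(11,z)] = ∑ b, dj X ψ ρ [(6,b),(8,c),(9,d),(11,z)] := by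
    apply dj_split X ρ hψ (by norm_num)
    apply stab_comm
    intro p hp
    simp only [List.mem_cons, List.not_mem_nil, or_false] at hp
    rcases hp with rfl | rfl | rfl <;> exact X.comm _ _ (by simp)
  have h2 : dj X ψ ρ [(8,c),(9,d),(11,z)] = ∑ e, dj X ψ ρ [(10,e),(8,c),(9,d),(11,z)] := by
    apply dj_split X ρ hψ (by norm_num)
    apply stab_comm
    intro p hp
    simp only [List.mem_cons, List.not_mem_nil, or_false] at hp
    rcases hp with rfl | rfl | rfl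
    · intro t u; exact (X.comm 8 10 (by simp) u t).symm
    · intro t u; exact (X.comm 9 10 (by simp) u t).symm
    · intro t u; exact X.comm 10 11 (by simp) t u
  rw [sum_congr rfl (fun x _ => shift6 X ρ hz c d x b), sum_const, card_univ, smul_eq_mul] at h1
  rw [sum_congr rfl (fun x _ => shift10 X ρ hz c d x e), sum_const, card_univ, smul_eq_mul] at h2
  exact Nat.eq_of_mul_eq_mul_left (Fintype.card_pos) (h1.symm.trans h2)

theorem hnan' (hψ : ψ ≠ 0) : ∃ e1 e2 e3 : F, (e1 = 1 ∨ e1 = -1) ∧ (e2 = 1 ∨ e2 = -1) ∧ (e3 = 1 ∨ e3 = -1) ∧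
      ∀ z c d, z ≠ 0 → dj X ψ ρ [(8,c),(9,d),(10,0),(11,z)] = dj X ψ ρ [(8,e2 * d),(9,e3 * c),(10,0),(11,e1 * z)] := by
  obtain ⟨ε, hε⟩ := sa X
  refine ⟨ε 11, ε 9, ε 8, (hε 11 (by norm_num)).1, (hε 9 (by norm_num)).1, (hε 8 (by norm_num)).1, ?_⟩
  intro z c d hz
  rw [mono_eq X ρ X.na ra ε hε [(8,c),(9,d),(10,0),(11,z)] (by simp)]
  have hz' : ε 11 * z ≠ 0 := by
    rcases (hε 11 (by norm_num)).1 with h | h <;> rw [h] <;> simp [hz]
  have h1 : dj X ψ ρ (List.map (fun p => (ra p.1, ε p.1 * p.2)) [(8, c), (9, d), (10, 0), (11, z)]) =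
      dj X ψ ρ [(6,0),(8,ε 9 * d),(9,ε 8 * c),(11,ε 11 * z)] := by
    apply dj_congr
    intro p
    simp [ra]
    tauto
  rw [h1, six_ten X ρ hψ hz' _ _ 0 0]
  apply dj_congr
  intro p
  simp
  tauto

end CM67
end Cfsg.Agent.G2M
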