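import Mathlib

set_option autoImplicit false

namespace Cfsg.Agent.G2M
open Finset

theorem c_num23 {F : Type*} [Field F] [Fintype F] [DecidableEq F] [CharP F 3] (hq : 3 < Fintype.card F)
    (m : F → F → F → F → ℕ) (n : F → F → F → ℕ) (D : ℕ)
    (hD : D = ∑ z ∈ univ.erase (0 : F), Fintype.card F * ∑ c, ∑ d, n z c d + ∑ b, ∑ c, ∑ d, ∑ e, m b c d e)
    (hA : ∀ t b c d e, m b c d e = m (b + t * c + t ^ 2 * d - t ^ 3 * e) (c + 2 * t * d) d e)
    (hT : ∀ s t b c d e, s ≠ 0 → t ≠ 0 → m b c d e = m (t * b) (s * t * c) (s ^ 2 * t * d) (s ^ 3 * t * e))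
    (hna : ∃ e1 e2 e3 e4 : F, (e1 = 1 ∨ e1 = -1) ∧ (e2 = 1 ∨ e2 = -1) ∧ (e3 = 1 ∨ e3 = -1) ∧ (e4 = 1 ∨ e4 = -1) ∧
      ∀ b c d e, m b c d e = m (e1 * e) (e2 * d) (e3 * c) (e4 * b))
    (hB : ∃ e1 : F, (e1 = 1 ∨ e1 = -1) ∧ ∀ b, b ≠ 0 → Fintype.card F * ∑ c, ∑ d, n (e1 * b) c d =
      ∑ z ∈ univ.erase (0 : F), ∑ c, ∑ d, n z c d + ∑ c, ∑ d, ∑ e, m b c d e)
    (hr : (∀ b c, c ≠ 0 → m b c 0 0 = 1) → Fintype.card F - 1 ≤ m 0 0 0 0)
    (j j0 E : ℕ) (hj : ∀ z c d, z ≠ 0 → (c ≠ 0 ∨ d ≠ 0) → n z c d = j) (hj1 : 1 ≤ j)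
    (hj0 : ∀ z, z ≠ 0 → n z 0 0 = j0)
    (hE : ∀ c d, (c ≠ 0 ∨ d ≠ 0) → ∑ b, ∑ e, m b c d e = E)
    (hcase : 4 * Fintype.card F ≤ 3 * E ∨
      (E = Fintype.card F ∧ ∀ b c e, c ≠ 0 → m b c 0 e = if e = 0 then 1 else 0)) :
    Fintype.card F ^ 4 + Fintype.card F ^ 2 - 2 ≤ D := by
  classical
  set q : ℕ := Fintype.card F with hqd
  -- q ≥ 9
  have hq9 : 9 ≤ q := by
    obtain ⟨k, _, hk⟩ := FiniteField.card F 3
    rw [← hqd] at hk
    have hk2 : 2 ≤ (k : ℕ) := by
      by_contra hlt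
      have : (k : ℕ) = 1 := by have := k.pos; omega
      rw [this] at hk; omega
    calc 9 = 3 ^ 2 := by norm_num
      _ ≤ 3 ^ (k : ℕ) := Nat.pow_le_pow_right (by norm_num) hk2
      _ = q := hk.symm
  -- sums over (c, d) split at 0
  have hsplit : ∀ f : F → F → ℕ, ∀ a : ℕ, (∀ c d, (c ≠ 0 ∨ d ≠ 0) → f c d = a) →
      ∑ c, ∑ d, f c d = f 0 0 + (q ^ 2 - 1) * a := by
    intro f a hf
    rw [← Fintype.sum_prod_type' (f := f)]
    rw [← Finset.add_sum_erase _ _ (Finset.mem_univ ((0 : F), (0 : F)))]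
    congr 1
    rw [Finset.sum_congr rfl (g := fun _ => a)]
    · rw [Finset.sum_const, Finset.card_erase_of_mem (Finset.mem_univ _), Finset.card_univ,
        Fintype.card_prod, smul_eq_mul, ← hqd, pow_two]
    · intro x hx
      apply hf
      by_contra hc
      push Not at hc
      exact (Finset.mem_erase.1 hx).1 (Prod.ext hc.1 hc.2)
  have hN : ∀ z, z ≠ 0 → ∑ c, ∑ d, n z c d = j0 + (q ^ 2 - 1) * j := by
    intro z hz
    rw [hsplit (n z) j (fun c d h => hj z c d hz h), hj0 z hz]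
  set N : ℕ := j0 + (q ^ 2 - 1) * j with hNd
  have hcardE : (univ.erase (0 : F)).card = q - 1 := by
    rw [Finset.card_erase_of_mem (Finset.mem_univ _), Finset.card_univ]
  have hsumN : ∑ z ∈ univ.erase (0 : F), ∑ c, ∑ d, n z c d = (q - 1) * N := by
    rw [Finset.sum_congr rfl (g := fun _ => N) (fun z hz => hN z (Finset.mem_erase.1 hz).1),
      Finset.sum_const, hcardE, smul_eq_mul]
  have hsumqN : ∑ z ∈ univ.erase (0 : F), q * ∑ c, ∑ d, n z c d = q * ((q - 1) * N) := by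
    rw [← Finset.mul_sum, hsumN]
  -- for b ≠ 0
  have hbN : ∀ b, b ≠ 0 → ∑ c, ∑ d, ∑ e, m b c d e = N := by
    intro b hb
    obtain ⟨e1, he1, h⟩ := hB
    have hb' : e1 * b ≠ 0 := by
      rcases he1 with rfl | rfl <;> simpa using hb
    have h1 := h b hb
    rw [hN _ hb', hsumN] at h1
    have h2 : q * N = (q - 1) * N + N := by
      calc q * N = ((q - 1) + 1) * N := by rw [Nat.sub_add_cancel (by omega)]
        _ = (q - 1) * N + N := by ring
    omega
  -- h
  have hm00 : ∀ b e, e ≠ 0 → m b 0 0 e = m 0 0 0 1 := by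
    intro b e he
    -- e = s^3 for some s
    have hcube : ∀ x : F, ∃ s : F, s ^ 3 = x := by
      intro x
      haveI : Fact (Nat.Prime 3) := ⟨Nat.prime_three⟩
      have hinj : Function.Injective (frobenius F 3) := (frobenius F 3).injective
      obtain ⟨s, hs⟩ := (Finite.injective_iff_surjective.1 hinj) x
      exact ⟨s, by rw [← hs, frobenius_def]⟩
    obtain ⟨t, ht⟩ := hcube (b / e)
    have h1 := hA t b 0 0 e
    have e1 : b + t * 0 + t ^ 2 * 0 - t ^ 3 * e = 0 := by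
      rw [ht]; field_simp; ring
    have e2 : (0 : F) + 2 * t * 0 = 0 := by ring
    rw [e1, e2] at h1
    rw [h1]
    obtain ⟨s, hs⟩ := hcube e⁻¹
    have hs0 : s ≠ 0 := by
      intro h
      rw [h] at hs
      have : e⁻¹ ≠ 0 := inv_ne_zero he
      apply this; rw [← hs]; ring
    have h2 := hT s 1 0 0 0 e hs0 one_ne_zero
    have e3 : s ^ 3 * 1 * e = 1 := by rw [hs]; field_simp
    rw [e3] at h2
    simpa using h2
  set h : ℕ := m 0 0 0 1 with hhd
  have hm0 : ∀ b e, (b ≠ 0 ∨ e ≠ 0) → m b 0 0 e = h := by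
    intro b e hbe
    by_cases he : e = 0
    · subst he
      have hb : b ≠ 0 := by simpa using hbe
      obtain ⟨e1, e2, e3, e4, _, _, _, h4, hh⟩ := hna
      have h1 := hh b 0 0 0
      simp only [mul_zero] at h1
      rw [h1]
      apply hm00
      rcases h4 with rfl | rfl <;> simpa using hb
    · exact hm00 b e he
  have hD2 : ∑ b, ∑ c, ∑ d, ∑ e, m b c d e = (m 0 0 0 0 + (q ^ 2 - 1) * h) + (q ^ 2 - 1) * E := by
    have h1 : ∑ b, ∑ c, ∑ d, ∑ e, m b c d e = ∑ c, ∑ d, ∑ b, ∑ e, m b c d e := by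
      rw [Finset.sum_comm]
      apply Finset.sum_congr rfl
      intro c _
      rw [Finset.sum_comm]
    rw [h1, hsplit (fun c d => ∑ b, ∑ e, m b c d e) E hE]
    congr 1
    exact hsplit (fun b e => m b 0 0 e) h hm0
  rw [hD, hsumqN, hD2]
  obtain ⟨r, hr'⟩ : ∃ r, q = r + 9 := ⟨q - 9, by omega⟩
  have hq1 : q - 1 = r + 8 := by omega
  have hq2 : q ^ 2 - 1 = r ^ 2 + 18 * r + 80 := by
    rw [hr']
    have : (r + 9) ^ 2 = r ^ 2 + 18 * r + 80 + 1 := by ring
    omega
  rcases hcase with h4 | ⟨hEq, hm1⟩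
  · -- 4 q ≤ 3 E
    have hNge : q ^ 2 - 1 ≤ N := by
      rw [hNd]
      calc q ^ 2 - 1 = (q ^ 2 - 1) * 1 := (mul_one _).symm
        _ ≤ (q ^ 2 - 1) * j := Nat.mul_le_mul_left _ hj1
        _ ≤ j0 + (q ^ 2 - 1) * j := Nat.le_add_left _ _
    have h5 : q * ((q - 1) * (q ^ 2 - 1)) ≤ q * ((q - 1) * N) :=
      Nat.mul_le_mul_left _ (Nat.mul_le_mul_left _ hNge)
    have h6 : (q ^ 2 - 1) * (4 * q) ≤ (q ^ 2 - 1) * (3 * E) := Nat.mul_le_mul_left _ h4
    have h7 : 3 * (q ^ 4 + q ^ 2 - 2) ≤ 3 * (q * ((q - 1) * (q ^ 2 - 1))) + (q ^ 2 - 1) * (4 * q) := by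
      rw [hq1, hq2, hr']
      have : 3 * ((r + 9) ^ 4 + (r + 9) ^ 2) ≤
          3 * ((r + 9) * ((r + 8) * (r ^ 2 + 18 * r + 80))) + (r ^ 2 + 18 * r + 80) * (4 * (r + 9)) + 6 := by
        nlinarith [Nat.zero_le r, Nat.zero_le (r ^ 2), Nat.zero_le (r ^ 3)]
      omega
    have h8 : (q ^ 2 - 1) * (3 * E) = 3 * ((q ^ 2 - 1) * E) := by ring
    omega
  · by_cases hj2 : 2 ≤ j
    · have hNge : (q ^ 2 - 1) * 2 ≤ N := by
        rw [hNd]
        calc (q ^ 2 - 1) * 2 ≤ (q ^ 2 - 1) * j := Nat.mul_le_mul_left _ hj2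
          _ ≤ j0 + (q ^ 2 - 1) * j := Nat.le_add_left _ _
      have h5 : q * ((q - 1) * ((q ^ 2 - 1) * 2)) ≤ q * ((q - 1) * N) :=
        Nat.mul_le_mul_left _ (Nat.mul_le_mul_left _ hNge)
      have h7 : q ^ 4 + q ^ 2 - 2 ≤ q * ((q - 1) * ((q ^ 2 - 1) * 2)) := by
        rw [hq1, hq2, hr']
        have : (r + 9) ^ 4 + (r + 9) ^ 2 ≤ (r + 9) * ((r + 8) * ((r ^ 2 + 18 * r + 80) * 2)) := by
          nlinarith [Nat.zero_le r, Nat.zero_le (r ^ 2), Nat.zero_le (r ^ 3), Nat.zero_le (r ^ 4)]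
        omega
      omega
    · have hj1' : j = 1 := by omega
      -- m b c d e for d ≠ 0
      have hmd : ∀ b c d e, d ≠ 0 → m b c d e = if b - c ^ 2 / d - c ^ 3 * e / d ^ 3 = 0 then 1 else 0 := by
        intro b c d e hd
        have h3 : (3 : F) = 0 := by
          have := CharP.cast_eq_zero F 3
          exact_mod_cast this
        have h1 := hA (c / d) b c d e
        have e1 : c + 2 * (c / d) * d = 0 := by
          have : c + 2 * (c / d) * d = 3 * c := by field_simp; ring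
          rw [this, h3, zero_mul]
        have e2 : b + c / d * c + (c / d) ^ 2 * d - (c / d) ^ 3 * e = b - c ^ 2 / d - c ^ 3 * e / d ^ 3 := by
          have : b + c / d * c + (c / d) ^ 2 * d - (c / d) ^ 3 * e =
              b - c ^ 2 / d - c ^ 3 * e / d ^ 3 + 3 * (c ^ 2 / d) := by field_simp; ring
          rw [this, h3, zero_mul, add_zero]
        rw [e1, e2] at h1
        rw [h1]
        obtain ⟨e1', e2', e3', e4', _, h2', _, h4', hh⟩ := hna
        rw [hh, mul_zero]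
        rw [hm1 _ _ _ (by rcases h2' with rfl | rfl <;> simpa using hd)]
        rcases h4' with rfl | rfl
        · simp only [one_mul]
        · simp only [neg_one_mul, neg_eq_zero]
      -- count
      have hcount : ∀ b : F, b ≠ 0 → ∑ c, ∑ d, ∑ e, m b c d e = q * (q - 1) + q * h := by
        intro b hb
        have hs1 : ∀ f : F → ℕ, ∀ a : ℕ, (∀ c, c ≠ 0 → f c = a) → ∑ c, f c = f 0 + (q - 1) * a := by
          intro f a hf
          rw [← Finset.add_sum_erase _ _ (Finset.mem_univ (0 : F)),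
            Finset.sum_congr rfl (g := fun _ => a) (fun x hx => hf x (Finset.mem_erase.1 hx).1),
            Finset.sum_const, hcardE, smul_eq_mul]
        rw [Finset.sum_comm]
        have hd0 : ∑ c, ∑ e, m b c 0 e = q * h + (q - 1) * 1 := by
          rw [hs1 (fun c => ∑ e, m b c 0 e) 1]
          · congr 1
            rw [Finset.sum_congr rfl (g := fun _ => h) (fun e _ => hm0 b e (Or.inl hb)),
              Finset.sum_const, Finset.card_univ, smul_eq_mul]
          · intro c hc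
            simp only [hm1 b c _ hc]
            simp
        have hd1 : ∀ d, d ≠ 0 → ∑ c, ∑ e, m b c d e = (q - 1) * 1 := by
          intro d hd
          rw [hs1 (fun c => ∑ e, m b c d e) 1]
          · have : ∑ e, m b 0 d e = 0 := by
              apply Finset.sum_eq_zero
              intro e _
              rw [hmd b 0 d e hd, if_neg]
              simpa using hb
            simp only [this, zero_add]
          · intro c hc
            rw [Finset.sum_eq_single ((b - c ^ 2 / d) * d ^ 3 / c ^ 3)]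
            · rw [hmd b c d _ hd, if_pos]
              field_simp
              ring
            · intro e _ hne
              rw [hmd b c d e hd, if_neg]
              intro h0
              apply hne
              have h1 : b - c ^ 2 / d = c ^ 3 * e / d ^ 3 := sub_eq_zero.1 h0
              rw [h1]
              field_simp
            · intro hn
              exact absurd (Finset.mem_univ _) hn
        rw [hs1 (fun d => ∑ c, ∑ e, m b c d e) ((q - 1) * 1) hd1, hd0, hq1, hr']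
        ring
      have h1 : N = q * (q - 1) + q * h := by
        rw [← hbN 1 one_ne_zero, hcount 1 one_ne_zero]
      have hh1 : 1 ≤ h := by
        by_contra hlt
        have h0 : h = 0 := by omega
        rw [h0, hNd, hj1', mul_one, mul_zero, add_zero, hq1, hq2, hr'] at h1
        nlinarith
      by_cases hh2 : 2 ≤ h
      · have h5 : q * ((q - 1) * (q * (q - 1) + q * 2)) ≤ q * ((q - 1) * N) := by
          rw [h1]
          exact Nat.mul_le_mul_left _ (Nat.mul_le_mul_left _ (Nat.add_le_add_left (Nat.mul_le_mul_left _ hh2) _))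
        have h6 : q ^ 4 + q ^ 2 - 2 ≤ q * ((q - 1) * (q * (q - 1) + q * 2)) + (q ^ 2 - 1) * E := by
          rw [hEq, hq1, hq2, hr']
          have : (r + 9) ^ 4 + (r + 9) ^ 2 ≤ (r + 9) * ((r + 8) * ((r + 9) * (r + 8) + (r + 9) * 2)) +
              (r ^ 2 + 18 * r + 80) * (r + 9) := by
            nlinarith [Nat.zero_le r, Nat.zero_le (r ^ 2), Nat.zero_le (r ^ 3), Nat.zero_le (r ^ 4)]
          omega
        omega
      · have hh : h = 1 := by omega
        have hm000 : q - 1 ≤ m 0 0 0 0 := hr (fun b c hc => by rw [hm1 b c 0 hc]; simp)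
        rw [hh] at h1
        have hNq : N = q * (q - 1) + q * 1 := h1
        rw [hNq, hh, hEq]
        have h7 : q ^ 4 + q ^ 2 - 2 ≤ q * ((q - 1) * (q * (q - 1) + q * 1)) +
            ((q - 1) + (q ^ 2 - 1) * 1 + (q ^ 2 - 1) * q) := by
          rw [hq1, hq2, hr']
          have : (r + 9) ^ 4 + (r + 9) ^ 2 ≤ (r + 9) * ((r + 8) * ((r + 9) * (r + 8) + (r + 9) * 1)) +
              ((r + 8) + (r ^ 2 + 18 * r + 80) * 1 + (r ^ 2 + 18 * r + 80) * (r + 9)) + 2 := by
            nlinarith [Nat.zero_le r]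
          omega
        omega

end Cfsg.Agent.G2M
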