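import Mathlib

set_option autoImplicit false
set_option linter.unusedSectionVars false

/-!
# The final inequality of the counting argument for the smallest degree of G2(q), q a power of 3
-/

namespace Cfsg.Agent.G2M.H13
open Finset

namespace NF

variable {F : Type*} [Field F] [Fintype F] [DecidableEq F]

theorem cube_surj [CharP F 3] (y : F) : ∃ x : F, x ^ 3 = y := by
  have : Fact (Nat.Prime 3) := ⟨Nat.prime_three⟩
  have h : Function.Injective (frobenius F 3) := frobenius_inj F 3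
  have h2 : Function.Surjective (frobenius F 3) := Finite.injective_iff_surjective.mp h
  obtain ⟨x, hx⟩ := h2 y
  exact ⟨x, by rw [← hx, frobenius_def]⟩

theorem sum_pairs (f : F → F → ℕ) (a k : ℕ) (h0 : f 0 0 = a) (h : ∀ c d, (c ≠ 0 ∨ d ≠ 0) → f c d = k) :
    ∑ c, ∑ d, f c d = a + (Fintype.card F * Fintype.card F - 1) * k := by
  rw [← Fintype.sum_prod_type', ← Finset.add_sum_erase univ _ (mem_univ (0 : F × F))]
  have h1 : ∑ x ∈ univ.erase (0 : F × F), f x.1 x.2 = ∑ x ∈ univ.erase (0 : F × F), k := by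
    apply Finset.sum_congr rfl
    intro x hx
    apply h
    by_contra hc
    push Not at hc
    exact (Finset.ne_of_mem_erase hx) (Prod.ext hc.1 hc.2)
  rw [h1, Finset.sum_const, Finset.card_erase_of_mem (mem_univ _), Finset.card_univ, Fintype.card_prod, smul_eq_mul]
  show f 0 0 + _ = _
  rw [h0]

end NF

open NF

theorem c_num_fin {F : Type*} [Field F] [Fintype F] [DecidableEq F] [CharP F 3] (hq : 3 < Fintype.card F)
    (m : F → F → F → F → ℕ) (n : F → F → F → ℕ) (D : ℕ)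
    (hD : D = ∑ z ∈ univ.erase (0 : F), Fintype.card F * ∑ c, ∑ d, n z c d + ∑ b, ∑ c, ∑ d, ∑ e, m b c d e)
    (hA : ∀ t b c d e, m b c d e = m (b + t * c + t ^ 2 * d - t ^ 3 * e) (c + 2 * t * d) d e)
    (hT : ∀ s t b c d e, s ≠ 0 → t ≠ 0 → m b c d e = m (t * b) (s * t * c) (s ^ 2 * t * d) (s ^ 3 * t * e))
    (hTn : ∀ s t z c d, s ≠ 0 → t ≠ 0 → z ≠ 0 → n z c d = n (s ^ 3 * t ^ 2 * z) (s * t * c) (s ^ 2 * t * d))
    (hna : ∃ e1 e2 e3 e4 : F, (e1 = 1 ∨ e1 = -1) ∧ (e2 = 1 ∨ e2 = -1) ∧ (e3 = 1 ∨ e3 = -1) ∧ (e4 = 1 ∨ e4 = -1) ∧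
      ∀ b c d e, m b c d e = m (e1 * e) (e2 * d) (e3 * c) (e4 * b))
    (hB : ∃ e1 : F, (e1 = 1 ∨ e1 = -1) ∧ ∀ b, b ≠ 0 → Fintype.card F * ∑ c, ∑ d, n (e1 * b) c d =
      ∑ z ∈ univ.erase (0 : F), ∑ c, ∑ d, n z c d + ∑ c, ∑ d, ∑ e, m b c d e)
    (hr : (∀ b c, c ≠ 0 → m b c 0 0 = 1) → Fintype.card F - 1 ≤ m 0 0 0 0)
    (j : ℕ) (hj : 1 ≤ j) (hnj : ∀ z c d, z ≠ 0 → (c ≠ 0 ∨ d ≠ 0) → n z c d = j)
    (E : ℕ) (hE : ∀ c d, (c ≠ 0 ∨ d ≠ 0) → ∑ b, ∑ e, m b c d e = E)
    (hEE : 4 * Fintype.card F ≤ 3 * E ∨ (E = Fintype.card F ∧ ∀ b c e, c ≠ 0 → m b c 0 e = if e = 0 then 1 else 0)) :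
    Fintype.card F ^ 4 + Fintype.card F ^ 2 - 2 ≤ D := by
  have hq6 : 6 ≤ Fintype.card F := by
    obtain ⟨n, -, h⟩ := FiniteField.card F 3
    have h2 : 3 ∣ Fintype.card F := by
      rw [h]; exact dvd_pow_self 3 n.ne_zero
    omega
  obtain ⟨q, hqd⟩ : ∃ q, q = Fintype.card F := ⟨_, rfl⟩
  have hcard : (univ.erase (0 : F)).card = q - 1 := by
    rw [Finset.card_erase_of_mem (mem_univ _), Finset.card_univ, hqd]
  -- j0
  have hn0 : ∀ z, z ≠ 0 → n z 0 0 = n 1 0 0 := by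
    intro z hz
    rw [hTn z⁻¹ z z 0 0 (inv_ne_zero hz) hz hz]
    congr 1
    · field_simp
    · ring
    · ring
  obtain ⟨j0, hj0⟩ : ∃ j0, j0 = n 1 0 0 := ⟨_, rfl⟩
  have hN : ∀ z, z ≠ 0 → ∑ c, ∑ d, n z c d = j0 + (q * q - 1) * j := by
    intro z hz
    rw [hqd]
    exact sum_pairs (n z) j0 j (by rw [hn0 z hz, hj0]) (fun c d h => hnj z c d hz h)
  obtain ⟨N, hNd⟩ : ∃ N, N = j0 + (q * q - 1) * j := ⟨_, rfl⟩
  rw [← hNd] at hN
  -- h
  obtain ⟨e1, e2, e3, e4, he1, he2, he3, he4, hna'⟩ := hna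
  have he4' : e4 ≠ 0 := by rcases he4 with h | h <;> rw [h] <;> simp
  have he2' : e2 ≠ 0 := by rcases he2 with h | h <;> rw [h] <;> simp
  have hh1 : ∀ b e, e ≠ 0 → m b 0 0 e = m 0 0 0 1 := by
    intro b e he
    obtain ⟨t, ht⟩ := cube_surj (b / e)
    rw [hA t b 0 0 e, ht]
    have h1 : b + t * 0 + t ^ 2 * 0 - b / e * e = 0 := by field_simp; ring
    have h2 : (0 : F) + 2 * t * 0 = 0 := by ring
    rw [h1, h2, hT 1 e⁻¹ 0 0 0 e one_ne_zero (inv_ne_zero he)]
    congr 1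
    · ring
    · ring
    · ring
    · field_simp
  obtain ⟨h, hhd⟩ : ∃ h, h = m 0 0 0 1 := ⟨_, rfl⟩
  rw [← hhd] at hh1
  have hh : ∀ b e, (b ≠ 0 ∨ e ≠ 0) → m b 0 0 e = h := by
    intro b e hbe
    by_cases he : e = 0
    · have hb : b ≠ 0 := by
        rcases hbe with h | h
        · exact h
        · exact absurd he h
      rw [he, hna' b 0 0 0, mul_zero, mul_zero, mul_zero]
      exact hh1 0 _ (mul_ne_zero he4' hb)
    · exact hh1 b e he
  -- S_b
  obtain ⟨f1, hf1, hB'⟩ := hB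
  have hf1' : f1 ≠ 0 := by rcases hf1 with h | h <;> rw [h] <;> simp
  have hsumN : ∑ z ∈ univ.erase (0 : F), ∑ c, ∑ d, n z c d = (q - 1) * N := by
    rw [Finset.sum_congr rfl (fun z hz => hN z (Finset.ne_of_mem_erase hz)), Finset.sum_const, hcard, smul_eq_mul]
  have hS : ∀ b, b ≠ 0 → ∑ c, ∑ d, ∑ e, m b c d e = N := by
    intro b hb
    have h1 := hB' b hb
    rw [hN _ (mul_ne_zero hf1' hb), hsumN, ← hqd] at h1
    have h2 : q * N = (q - 1) * N + N := by
      obtain ⟨k, hk⟩ : ∃ k, q = k + 1 := ⟨q - 1, by omega⟩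
      rw [hk, Nat.add_sub_cancel]; ring
    omega
  -- D
  have hm : ∑ b, ∑ c, ∑ d, ∑ e, m b c d e = (m 0 0 0 0 + (q * q - 1) * h) + (q * q - 1) * E := by
    have h1 : ∑ b, ∑ c, ∑ d, ∑ e, m b c d e = ∑ c, ∑ d, ∑ b, ∑ e, m b c d e := by
      rw [Finset.sum_comm]
      apply Finset.sum_congr rfl
      intro c _
      rw [Finset.sum_comm]
    rw [h1, hqd]
    have h2 := sum_pairs (fun c d => ∑ b, ∑ e, m b c d e) (∑ b, ∑ e, m b 0 0 e) E rfl (fun c d hcd => hE c d hcd)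
    have h3 := sum_pairs (fun b e => m b 0 0 e) (m 0 0 0 0) h rfl (fun b e hbe => hh b e hbe)
    rw [h3] at h2
    exact h2
  have hDD : D = (q - 1) * (q * N) + ((m 0 0 0 0 + (q * q - 1) * h) + (q * q - 1) * E) := by
    rw [hD, hm]
    congr 1
    rw [Finset.sum_congr rfl (fun z hz => by rw [hN z (Finset.ne_of_mem_erase hz)]), Finset.sum_const, hcard, smul_eq_mul, ← hqd]
  rw [← hqd] at hEE hr hq6 ⊢
  obtain ⟨k, hk⟩ : ∃ k, q = k + 1 := ⟨q - 1, by omega⟩
  have hk5 : 5 ≤ k := by omega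
  have hqk : q * q - 1 = k * k + 2 * k := by rw [hk]; ring_nf; omega
  have hqk1 : q - 1 = k := by omega
  rw [hqk] at hDD hNd
  rw [hqk1] at hDD
  have hgoal : q ^ 4 + q ^ 2 - 2 ≤ D ↔ (k + 1) ^ 4 + (k + 1) ^ 2 ≤ D + 2 := by rw [hk]; omega
  rw [hgoal]
  rw [hk] at hDD
  by_cases hj2 : 2 ≤ j
  · have h1 : (k * k + 2 * k) * 2 ≤ N := by
      rw [hNd]
      exact (Nat.mul_le_mul_left _ hj2).trans (Nat.le_add_left _ _)
    have h2 : k * ((k + 1) * ((k * k + 2 * k) * 2)) ≤ D := by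
      rw [hDD]
      exact (Nat.mul_le_mul_left _ (Nat.mul_le_mul_left _ h1)).trans (Nat.le_add_right _ _)
    obtain ⟨l, hl⟩ : ∃ l, k = l + 5 := ⟨k - 5, by omega⟩
    rw [hl] at h2 ⊢
    ring_nf at h2 ⊢
    nlinarith
  have hj1 : j = 1 := by omega
  rw [hj1, mul_one] at hNd
  rcases hEE with hEE | ⟨hEq, hmf⟩
  · have h1 : k * ((k + 1) * (k * k + 2 * k)) + (k * k + 2 * k) * E ≤ D := by
      rw [hDD, hNd]
      have h3 : k * ((k + 1) * (k * k + 2 * k)) ≤ k * ((k + 1) * (j0 + (k * k + 2 * k))) :=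
        Nat.mul_le_mul_left _ (Nat.mul_le_mul_left _ (Nat.le_add_left _ _))
      omega
    have h2 : (k * k + 2 * k) * (4 * (k + 1)) ≤ (k * k + 2 * k) * (3 * E) := by
      rw [hk] at hEE
      exact Nat.mul_le_mul_left _ hEE
    obtain ⟨l, hl⟩ : ∃ l, k = l + 5 := ⟨k - 5, by omega⟩
    rw [hl] at h1 h2 ⊢
    nlinarith
  · -- the count
    have hmd : ∀ b c d e, d ≠ 0 → m b c d e = if b + c / d * c + (c / d) ^ 2 * d - (c / d) ^ 3 * e = 0 then 1 else 0 := by
      intro b c d e hd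
      rw [hA (c / d) b c d e]
      have h3 : (3 : F) = 0 := by
        have := CharP.cast_eq_zero F 3
        exact_mod_cast this
      have h1 : c + 2 * (c / d) * d = 0 := by
        have : c + 2 * (c / d) * d = 3 * c := by field_simp; ring
        rw [this, h3, zero_mul]
      rw [h1, hna' _ 0 d e, mul_zero, hmf _ _ _ (mul_ne_zero he2' hd)]
      simp only [mul_eq_zero, he4', false_or]
    have hcount : ∀ b, b ≠ 0 → ∑ c, ∑ d, ∑ e, m b c d e = (q * h + (q - 1)) + (q - 1) * (q - 1) := by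
      intro b hb
      rw [Finset.sum_comm, ← Finset.add_sum_erase univ _ (mem_univ (0 : F))]
      congr 1
      · rw [← Finset.add_sum_erase univ _ (mem_univ (0 : F))]
        congr 1
        · rw [Finset.sum_congr rfl (fun e _ => hh b e (Or.inl hb)), Finset.sum_const, Finset.card_univ, smul_eq_mul, hqd]
        · rw [Finset.sum_congr rfl (fun c hc => by
            rw [Finset.sum_congr rfl (fun e _ => hmf b c e (Finset.ne_of_mem_erase hc)), Finset.sum_ite_eq' univ (0 : F),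
              if_pos (mem_univ _)]), Finset.sum_const, hcard, smul_eq_mul, mul_one]
      · rw [← hcard, ← smul_eq_mul, ← Finset.sum_const]
        apply Finset.sum_congr rfl
        intro d hd
        have hd0 := Finset.ne_of_mem_erase hd
        rw [← Finset.add_sum_erase univ _ (mem_univ (0 : F))]
        have h1 : ∑ e, m b 0 d e = 0 := by
          apply Finset.sum_eq_zero
          intro e _
          rw [hmd b 0 d e hd0, if_neg]
          intro hx
          apply hb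
          simpa using hx
        have h2 : ∀ c ∈ univ.erase (0 : F), ∑ e, m b c d e = 1 := by
          intro c hc
          have hc0 := Finset.ne_of_mem_erase hc
          have hcd : (c / d) ^ 3 ≠ 0 := pow_ne_zero _ (div_ne_zero hc0 hd0)
          have h4 : ∀ e, m b c d e = if e = (b + c / d * c + (c / d) ^ 2 * d) / (c / d) ^ 3 then 1 else 0 := by
            intro e
            rw [hmd b c d e hd0]
            congr 1
            apply propext
            rw [eq_div_iff hcd, sub_eq_zero]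
            constructor
            · intro hx; rw [hx, mul_comm]
            · intro hx; rw [← hx, mul_comm]
          rw [Finset.sum_congr rfl (fun e _ => h4 e), Finset.sum_ite_eq' univ, if_pos (mem_univ _)]
        rw [h1, Finset.sum_congr rfl h2, zero_add, Finset.sum_const, smul_eq_mul, mul_one]
    have hNe := (hcount 1 one_ne_zero).symm.trans (hS 1 one_ne_zero)
    rw [hqk1, hk, hNd] at hNe
    have hr' := hr (fun b c hc => by rw [hmf b c 0 hc, if_pos rfl])
    rw [hqk1] at hr'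
    rw [hEq, hk, hNd] at hDD
    by_cases hh2 : 2 ≤ h
    · have h1 : (k * k + 2 * k) * 2 ≤ (k * k + 2 * k) * h := Nat.mul_le_mul_left _ hh2
      have h3 : k * ((k + 1) * (k * k + 2 * k)) ≤ k * ((k + 1) * (j0 + (k * k + 2 * k))) :=
        Nat.mul_le_mul_left _ (Nat.mul_le_mul_left _ (Nat.le_add_left _ _))
      have h4 : k * ((k + 1) * (k * k + 2 * k)) + ((k * k + 2 * k) * 2 + (k * k + 2 * k) * (k + 1)) ≤ D := by
        rw [hDD]; omega
      have h5 : (k + 1) ^ 4 + (k + 1) ^ 2 = k * ((k + 1) * (k * k + 2 * k)) + ((k * k + 2 * k) * 2 + (k * k + 2 * k) * (k + 1)) + 2 := by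
        ring
      rw [h5]; omega
    · have h0 : h = 0 ∨ h = 1 := by omega
      rcases h0 with h0 | h0
      · exfalso
        rw [h0, mul_zero] at hNe
        omega
      · have hj01 : j0 = 1 := by
          rw [h0, mul_one] at hNe
          omega
        rw [h0, hj01] at hDD
        have h5 : (k + 1) ^ 4 + (k + 1) ^ 2 + m 0 0 0 0 =
            k * ((k + 1) * (1 + (k * k + 2 * k))) + ((m 0 0 0 0 + (k * k + 2 * k) * 1) + (k * k + 2 * k) * (k + 1)) + 2 + k := by
          ring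
        rw [← hDD] at h5
        omega

end Cfsg.Agent.G2M.H13
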