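import Cfsg.Agent.G2M.ABase

set_option autoImplicit false

/-!
# Representations of the group of type G2: torus and Weyl symmetry of the multiplicities
-/

namespace Cfsg.Agent.G2M.CT99

open Module Finset ABase

variable {F G : Type*} [Field F] [Group G] {V : Type*} [AddCommGroup V] [Module ℂ V] [FiniteDimensional ℂ V]
  (X : G2G F G) {ψ : AddChar F ℂ} (ρ : Representation ℂ G V)

theorem u0 (s t : Fˣ) : ((s ^ (0 : ℤ) * t ^ (1 : ℤ) : Fˣ) : F) = (t : F) := by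
  rw [zpow_zero, one_mul, zpow_one]

theorem u1 (s t : Fˣ) : ((s ^ (1 : ℤ) * t ^ (1 : ℤ) : Fˣ) : F) = (s : F) * t := by
  rw [zpow_one, zpow_one, Units.val_mul]

theorem u2 (s t : Fˣ) : ((s ^ (2 : ℤ) * t ^ (1 : ℤ) : Fˣ) : F) = (s : F) ^ 2 * t := by
  rw [zpow_one, Units.val_mul]; norm_cast

theorem u3 (s t : Fˣ) : ((s ^ (3 : ℤ) * t ^ (1 : ℤ) : Fˣ) : F) = (s : F) ^ 3 * t := by
  rw [zpow_one, Units.val_mul]; norm_cast

theorem u32 (s t : Fˣ) : ((s ^ (3 : ℤ) * t ^ (2 : ℤ) : Fˣ) : F) = (s : F) ^ 3 * (t : F) ^ 2 := by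
  rw [Units.val_mul]; norm_cast

theorem c_hT : ∀ s t b c d e : F, s ≠ 0 → t ≠ 0 →
    dj X ψ ρ [(6, b), (8, c), (9, d), (10, e), (11, 0)] =
      dj X ψ ρ [(6, t * b), (8, s * t * c), (9, s ^ 2 * t * d), (10, s ^ 3 * t * e), (11, 0)] := by
  intro s t b c d e hs ht
  rw [dj_tor X ρ (Units.mk0 s hs) (Units.mk0 t ht) (l := [(6, b), (8, c), (9, d), (10, e), (11, 0)]) (by
    intro p hp; simp at hp; rcases hp with rfl | rfl | rfl | rfl | rfl <;> norm_num)]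
  simp only [List.map_cons, List.map_nil, mul_zero]
  have h0 := u0 (Units.mk0 s hs) (Units.mk0 t ht)
  have h1 := u1 (Units.mk0 s hs) (Units.mk0 t ht)
  have h2 := u2 (Units.mk0 s hs) (Units.mk0 t ht)
  have h3 := u3 (Units.mk0 s hs) (Units.mk0 t ht)
  change dj X ψ ρ [(6, (((Units.mk0 s hs) ^ (0 : ℤ) * (Units.mk0 t ht) ^ (1 : ℤ) : Fˣ) : F) * b),
    (8, (((Units.mk0 s hs) ^ (1 : ℤ) * (Units.mk0 t ht) ^ (1 : ℤ) : Fˣ) : F) * c),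
    (9, (((Units.mk0 s hs) ^ (2 : ℤ) * (Units.mk0 t ht) ^ (1 : ℤ) : Fˣ) : F) * d),
    (10, (((Units.mk0 s hs) ^ (3 : ℤ) * (Units.mk0 t ht) ^ (1 : ℤ) : Fˣ) : F) * e), (11, 0)] = _
  rw [h0, h1, h2, h3]
  rfl

theorem c_hTn : ∀ s t z c d : F, s ≠ 0 → t ≠ 0 → z ≠ 0 →
    dj X ψ ρ [(8, c), (9, d), (10, 0), (11, z)] =
      dj X ψ ρ [(8, s * t * c), (9, s ^ 2 * t * d), (10, 0), (11, s ^ 3 * t ^ 2 * z)] := by
  intro s t z c d hs ht _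
  rw [dj_tor X ρ (Units.mk0 s hs) (Units.mk0 t ht) (l := [(8, c), (9, d), (10, 0), (11, z)]) (by
    intro p hp; simp at hp; rcases hp with rfl | rfl | rfl | rfl <;> norm_num)]
  simp only [List.map_cons, List.map_nil, mul_zero]
  have h1 := u1 (Units.mk0 s hs) (Units.mk0 t ht)
  have h2 := u2 (Units.mk0 s hs) (Units.mk0 t ht)
  have h32 := u32 (Units.mk0 s hs) (Units.mk0 t ht)
  change dj X ψ ρ [
    (8, (((Units.mk0 s hs) ^ (1 : ℤ) * (Units.mk0 t ht) ^ (1 : ℤ) : Fˣ) : F) * c),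
    (9, (((Units.mk0 s hs) ^ (2 : ℤ) * (Units.mk0 t ht) ^ (1 : ℤ) : Fˣ) : F) * d), (10, 0),
    (11, (((Units.mk0 s hs) ^ (3 : ℤ) * (Units.mk0 t ht) ^ (2 : ℤ) : Fˣ) : F) * z)] = _
  rw [h1, h2, h32]
  rfl

theorem c_hna : ∃ e1 e2 e3 e4 : F, (e1 = 1 ∨ e1 = -1) ∧ (e2 = 1 ∨ e2 = -1) ∧ (e3 = 1 ∨ e3 = -1) ∧ (e4 = 1 ∨ e4 = -1) ∧
      ∀ b c d e, dj X ψ ρ [(6, b), (8, c), (9, d), (10, e), (11, 0)] =
        dj X ψ ρ [(6, e1 * e), (8, e2 * d), (9, e3 * c), (10, e4 * b), (11, 0)] := by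
  obtain ⟨ε, h1, h2⟩ := exists_na X
  have hpm : ∀ r, r < 12 → ε r = 1 ∨ ε r = -1 := fun r hr => mul_self_eq_one_iff.mp (h1 r hr)
  refine ⟨ε 10, ε 9, ε 8, ε 6, hpm 10 (by norm_num), hpm 9 (by norm_num), hpm 8 (by norm_num), hpm 6 (by norm_num), ?_⟩
  intro b c d e
  rw [dj_conj X ρ X.na ra ε h1 h2 (l := [(6, b), (8, c), (9, d), (10, e), (11, 0)]) (by
    intro p hp; simp at hp; rcases hp with rfl | rfl | rfl | rfl | rfl <;> norm_num)]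
  simp only [List.map_cons, List.map_nil, mul_zero]
  change dj X ψ ρ [(10, ε 6 * b), (9, ε 8 * c), (8, ε 9 * d), (6, ε 10 * e), (11, 0)] = _
  exact dj_perm X ρ (by intro p; simp only [List.mem_cons, List.not_mem_nil, or_false]; tauto)

end Cfsg.Agent.G2M.CT99
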