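import Mathlib

set_option autoImplicit false

namespace Cfsg.Agent.G2M
open Module

theorem indep {G V : Type*} [Group G] [AddCommGroup V] [Module ℂ V] [FiniteDimensional ℂ V] (ρ : Representation ℂ G V)
    (S : Finset G) (T W : Submodule ℂ V) (e : V →ₗ[ℂ] V) (he : ∀ v ∈ T, e v = v)
    (h0 : ∀ g ∈ S, ∀ h ∈ S, g ≠ h → ∀ v ∈ T, e (ρ (h⁻¹ * g) v) = 0)
    (hW : ∀ g ∈ S, ∀ v ∈ T, ρ g v ∈ W) : S.card * finrank ℂ T ≤ finrank ℂ W := by
  classical
  let f : (S → T) →ₗ[ℂ] W :=
    { toFun := fun u => ⟨∑ g : S, ρ (g : G) (u g : V), Submodule.sum_mem _ (fun g _ => hW g g.2 _ (u g).2)⟩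
      map_add' := by
        intro u w
        ext
        simp [Finset.sum_add_distrib]
      map_smul' := by
        intro c u
        ext
        simp [Finset.smul_sum] }
  have hf : Function.Injective f := by
    rw [← LinearMap.ker_eq_bot, LinearMap.ker_eq_bot']
    intro u hu
    have hu' : ∑ g : S, ρ (g : G) (u g : V) = 0 := congrArg Subtype.val hu
    funext h
    have h1 : e (ρ ((h : G)⁻¹) (∑ g : S, ρ (g : G) (u g : V))) = 0 := by rw [hu', map_zero, map_zero]
    rw [map_sum, map_sum, Finset.sum_eq_single h] at h1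
    · have h2 : ρ ((h : G)⁻¹) (ρ (h : G) (u h : V)) = u h := by
        rw [← Module.End.mul_apply, ← map_mul, inv_mul_cancel, map_one, Module.End.one_apply]
      rw [h2, he _ (u h).2] at h1
      exact Subtype.ext h1
    · intro g _ hg
      have h3 := h0 g g.2 h h.2 (fun hh => hg (Subtype.ext hh)) _ (u g).2
      rw [map_mul, Module.End.mul_apply] at h3
      exact h3
    · intro hh
      exact absurd (Finset.mem_univ _) hh
  have h3 := LinearMap.finrank_le_finrank_of_injective hf
  rwa [Module.finrank_pi_fintype, Finset.sum_const, Finset.card_univ, Fintype.card_coe, smul_eq_mul] at h3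

end Cfsg.Agent.G2M
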