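import Cfsg.Agent.G2M.InstC
import Cfsg.Agent.Chev.HMat
import Cfsg.Agent.Chev.Char

/-!
# The instance of `G2G` for `G₂(F)`
-/
set_option autoImplicit false

namespace Cfsg.Agent.G2M.InstC

open Cfsg.Lie Cfsg.Agent.Chev

variable {F : Type*} [Field F]

theorem coeH {r : ℕ} (hr : r < chevG2.nroots) (c : Fˣ) :
    ((ChevTw.hG H.toGood2 r (c : F) : GL chevG2.Idx F) : Matrix chevG2.Idx chevG2.Idx F) = tD chevG2 (chiH chevG2 r c) := by
  rw [ChevTw.hG_coe, hMat_eq_hD H hr (Units.ne_zero c), hD_eq_tD H.toGood1]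

theorem tD_congr {χ χ' : ℕ → Fˣ} (h0 : χ 0 = χ' 0) (h1 : χ 1 = χ' 1) : tD chevG2 χ = tD chevG2 χ' := by
  have : ∀ r, chr chevG2 χ r = chr chevG2 χ' r := by
    intro r
    unfold chr
    refine Finset.prod_congr rfl fun j hj => ?_
    have hj : j < 2 := Finset.mem_range.1 hj
    interval_cases j
    · rw [h0]
    · rw [h1]
  unfold tD
  simp only [this]

/-- the parameters -/
def par (s t : Fˣ) : ℕ → Fˣ := fun j => if j = 0 then s else t

/-- the torus element -/
noncomputable def hh (s t : Fˣ) : ↥(chevG2.group F) :=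
  ChevTw.hG H.toGood2 7 ((t * s ^ 2 : Fˣ) : F) * ChevTw.hG H.toGood2 6 ((t ^ 2 * s ^ 3 : Fˣ) : F)

theorem p77 : pr chevG2 7 (chevG2.simple 0) = 2 := by decide +kernel
theorem p76 : pr chevG2 7 (chevG2.simple 1) = -3 := by decide +kernel
theorem p67 : pr chevG2 6 (chevG2.simple 0) = -1 := by decide +kernel
theorem p66 : pr chevG2 6 (chevG2.simple 1) = 2 := by decide +kernel
theorem p107 : pr chevG2 10 (chevG2.simple 0) = 1 := by decide +kernel
theorem p106 : pr chevG2 10 (chevG2.simple 1) = -1 := by decide +kernel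

theorem hh_coe (s t : Fˣ) : ((hh s t : GL chevG2.Idx F) : Matrix chevG2.Idx chevG2.Idx F) = tD chevG2 (par s t) := by
  rw [hh, Subgroup.coe_mul, Units.val_mul, coeH (by decide), coeH (by decide), tD_mul_tD]
  apply tD_congr
  · simp only [chiH, par, p77, p67, if_true]
    apply Units.ext
    push_cast
    have hs := s.ne_zero
    have ht := t.ne_zero
    field_simp
  · simp only [chiH, par, p76, p66]
    apply Units.ext
    push_cast
    have hs := s.ne_zero
    have ht := t.ne_zero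
    field_simp
    try ring_nf
    try simp

theorem h10 (c : Fˣ) : ChevTw.hG H.toGood2 10 (c : F) = hh c c⁻¹ := by
  apply ChevTw.eq_of_coe
  rw [hh_coe, coeH (by decide)]
  apply tD_congr
  · simp only [chiH, par, p107, if_true, zpow_one]
  · simp only [chiH, par, p106, zpow_neg, zpow_one]
    rfl

theorem h_mul (s t s' t' : Fˣ) : hh (s * s') (t * t') = hh s t * hh (F := F) s' t' := by
  apply ChevTw.eq_of_coe
  rw [Subgroup.coe_mul, Units.val_mul, hh_coe, hh_coe, hh_coe, tD_mul_tD]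
  apply tD_congr <;> simp [par]

theorem chr_par (s t : Fˣ) : ∀ r, r < 12 → chr chevG2 (par s t) r = s ^ (ca r) * t ^ (cb r) := by
  intro r hr
  have e : chr chevG2 (par s t) r = s ^ (vec chevG2 r 0) * t ^ (vec chevG2 r 1) := by
    unfold chr
    have : Finset.range chevG2.rank = Finset.range 2 := rfl
    rw [this, Finset.prod_range_succ, Finset.prod_range_succ, Finset.prod_range_zero, one_mul]
    rfl
  rw [e]
  have h1 : ∀ r < 12, vec chevG2 r 0 = ca r := by decide +kernel
  have h2 : ∀ r < 12, vec chevG2 r 1 = cb r := by decide +kernel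
  rw [h1 r hr, h2 r hr]

theorem tor (s t : Fˣ) : ∀ r, r < 12 → ∀ u : F, hh s t * xx F r u * (hh s t)⁻¹ = xx F r (((s ^ (ca r) * t ^ (cb r) : Fˣ) : F) * u) := by
  intro r hr u
  have h : r < chevG2.nroots := hr
  rw [mul_inv_eq_iff_eq_mul]
  apply ChevTw.eq_of_coe
  rw [Subgroup.coe_mul, Subgroup.coe_mul, Units.val_mul, Units.val_mul, hh_coe, xx, xx, xG_coe, xG_coe, tD_mul_x H _ h, chr_par s t r hr]
  congr 2
  split_ifs
  · ring
  · rfl

end Cfsg.Agent.G2M.InstC
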