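import Cfsg.Agent.G2M.InstH
import Cfsg.Agent.ChevTw.Tor

/-!
# The instance of `G2G` for `G₂(F)`: monomial elements
-/
set_option autoImplicit false

namespace Cfsg.Agent.G2M.InstC

open Cfsg.Lie Cfsg.Agent.Chev

variable {F : Type*} [Field F]

/-- `n_a` -/
noncomputable def nna (F : Type*) [Field F] : ↥(chevG2.group F) := nG H.toGood2 (chevG2.simple 0) 1
/-- `n_b` -/
noncomputable def nnb (F : Type*) [Field F] : ↥(chevG2.group F) := nG H.toGood2 (chevG2.simple 1) 1

theorem ca_aux (r : ℕ) (hr : r < 12) (i : ℕ) (hi : i < 2) : eta chevG2 i r = 1 ∨ eta chevG2 i r = -1 := by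
  revert r i; decide +kernel

theorem conj_aux (i : ℕ) (hi : i < chevG2.rank) (r r' : ℕ) (hr : r < 12) (hr' : chevG2.reflectRoot i r = r')
    (he : eta chevG2 i r = 1 ∨ eta chevG2 i r = -1) :
    ∃ e : F, (e = 1 ∨ e = -1) ∧ ∀ u : F, nG H.toGood2 (chevG2.simple i) 1 * xx F r u * (nG H.toGood2 (chevG2.simple i) 1)⁻¹ = xx F r' (e * u) := by
  have h : r < chevG2.nroots := hr
  have key : ∀ u : F, nG H.toGood2 (chevG2.simple i) 1 * xx F r u * (nG H.toGood2 (chevG2.simple i) 1)⁻¹ =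
      xG H.toGood2 r' (((eta chevG2 i r : ℤ) : F) * (if r = 11 then -u else u)) := by
    intro u
    rw [xx, nG_conj H.toGood2 hi h, hr']
  refine ⟨((eta chevG2 i r : ℤ) : F) * (if r = 11 then -1 else 1) * (if r' = 11 then -1 else 1), ?_, ?_⟩
  · rcases he with he | he <;> rw [he] <;> split_ifs <;> simp
  · intro u
    rw [key, xx]
    congr 1
    split_ifs <;> ring

theorem hna : ∀ r, r < 12 → ∃ e : F, (e = 1 ∨ e = -1) ∧ ∀ u : F, nna F * xx F r u * (nna F)⁻¹ = xx F (ra r) (e * u) := by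
  intro r hr
  have h1 : ∀ r < 12, chevG2.reflectRoot 0 r = ra r := by decide +kernel
  exact conj_aux 0 (by decide) r (ra r) hr (h1 r hr) (ca_aux r hr 0 (by decide))

theorem hnb : ∀ r, r < 12 → ∃ e : F, (e = 1 ∨ e = -1) ∧ ∀ u : F, nnb F * xx F r u * (nnb F)⁻¹ = xx F (rb r) (e * u) := by
  intro r hr
  have h1 : ∀ r < 12, chevG2.reflectRoot 1 r = rb r := by decide +kernel
  exact conj_aux 1 (by decide) r (rb r) hr (h1 r hr) (ca_aux r hr 1 (by decide))

theorem q47 : pr chevG2 4 (chevG2.simple 0) = -2 := by decide +kernel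
theorem q46 : pr chevG2 4 (chevG2.simple 1) = 3 := by decide +kernel
theorem q87 : pr chevG2 8 (chevG2.simple 0) = -1 := by decide +kernel
theorem q86 : pr chevG2 8 (chevG2.simple 1) = 3 := by decide +kernel
theorem q57 : pr chevG2 5 (chevG2.simple 0) = 1 := by decide +kernel
theorem q56 : pr chevG2 5 (chevG2.simple 1) = -2 := by decide +kernel

theorem na_h (s t : Fˣ) : nna F * hh s t * (nna F)⁻¹ = hh s⁻¹ (s ^ 3 * t) := by
  have e : nna F * hh s t * (nna F)⁻¹ = (nna F * ChevTw.hG H.toGood2 7 ((t * s ^ 2 : Fˣ) : F) * (nna F)⁻¹) *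
      (nna F * ChevTw.hG H.toGood2 6 ((t ^ 2 * s ^ 3 : Fˣ) : F) * (nna F)⁻¹) := by
    rw [hh]; group
  rw [e, nna, ChevTw.nG_hG H (by decide) (by decide) (Units.ne_zero _), ChevTw.nG_hG H (by decide) (by decide) (Units.ne_zero _)]
  rw [show chevG2.reflectRoot 0 7 = 4 by decide +kernel, show chevG2.reflectRoot 0 6 = 10 by decide +kernel]
  apply ChevTw.eq_of_coe
  rw [hh_coe, Subgroup.coe_mul, Units.val_mul, coeH (by decide), coeH (by decide), tD_mul_tD]
  apply tD_congr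
  · simp only [chiH, par, q47, p107, if_true]
    apply Units.ext
    push_cast
    have hs := s.ne_zero
    have ht := t.ne_zero
    field_simp
  · simp only [chiH, par, q46, p106]
    apply Units.ext
    push_cast
    have hs := s.ne_zero
    have ht := t.ne_zero
    field_simp
    try ring_nf
    try simp

theorem nb_h (s t : Fˣ) : nnb F * hh s t * (nnb F)⁻¹ = hh (s * t) t⁻¹ := by
  have e : nnb F * hh s t * (nnb F)⁻¹ = (nnb F * ChevTw.hG H.toGood2 7 ((t * s ^ 2 : Fˣ) : F) * (nnb F)⁻¹) *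
      (nnb F * ChevTw.hG H.toGood2 6 ((t ^ 2 * s ^ 3 : Fˣ) : F) * (nnb F)⁻¹) := by
    rw [hh]; group
  rw [e, nnb, ChevTw.nG_hG H (by decide) (by decide) (Units.ne_zero _), ChevTw.nG_hG H (by decide) (by decide) (Units.ne_zero _)]
  rw [show chevG2.reflectRoot 1 7 = 8 by decide +kernel, show chevG2.reflectRoot 1 6 = 5 by decide +kernel]
  apply ChevTw.eq_of_coe
  rw [hh_coe, Subgroup.coe_mul, Units.val_mul, coeH (by decide), coeH (by decide), tD_mul_tD]
  apply tD_congr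
  · simp only [chiH, par, q87, q57, if_true]
    apply Units.ext
    push_cast
    have hs := s.ne_zero
    have ht := t.ne_zero
    field_simp
    try ring_nf
    try simp
  · simp only [chiH, par, q86, q56]
    apply Units.ext
    push_cast
    have hs := s.ne_zero
    have ht := t.ne_zero
    field_simp
    try ring_nf
    try simp

theorem gen : ∀ K : Subgroup ↥(chevG2.group F), (∀ t, xx F 6 t ∈ K) → (∀ t, xx F 7 t ∈ K) → nna F ∈ K → nnb F ∈ K → K = ⊤ := by
  intro K h6 h7 ha hb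
  apply top_of_simple H
  intro i hi
  have hi : i < 2 := hi
  interval_cases i
  · intro t
    refine ⟨h7 t, ?_⟩
    obtain ⟨e, he, h⟩ := hna (F := F) 7 (by decide)
    have h1 := h (e⁻¹ * t)
    have he0 : e ≠ 0 := by rcases he with rfl | rfl <;> simp
    rw [mul_inv_cancel_left₀ he0] at h1
    have h2 : xx F (ra 7) t = xG H.toGood2 (chevG2.neg (chevG2.simple 0)) t := xx_ne (by decide) t
    rw [← h2, ← h1]
    exact mul_mem (mul_mem ha (h7 _)) (inv_mem ha)
  · intro t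
    refine ⟨h6 t, ?_⟩
    obtain ⟨e, he, h⟩ := hnb (F := F) 6 (by decide)
    have h1 := h (e⁻¹ * t)
    have he0 : e ≠ 0 := by rcases he with rfl | rfl <;> simp
    rw [mul_inv_cancel_left₀ he0] at h1
    have h2 : xx F (rb 6) t = xG H.toGood2 (chevG2.neg (chevG2.simple 1)) t := xx_ne (by decide) t
    rw [← h2, ← h1]
    exact mul_mem (mul_mem hb (h6 _)) (inv_mem hb)

theorem r10 (t : F) (ht : t ≠ 0) : ∃ n : ↥(chevG2.group F), xx F 1 t = xx F 10 t⁻¹ * n * xx F 10 t⁻¹ ∧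
    ∃ s1 t1 : Fˣ, n = hh s1 t1 * (nna F * nnb F * (nna F)⁻¹) := by
  have hneg : chevG2.neg 10 = 1 := by decide +kernel
  have e10 : ∀ u : F, nna F * xG H.toGood2 6 u * (nna F)⁻¹ = xG H.toGood2 10 (((eta chevG2 0 6 : ℤ) : F) * u) := by
    intro u
    have := nG_conj H.toGood2 (D := chevG2) (i := 0) (by decide) (r := 6) (by decide) u
    rw [show chevG2.reflectRoot 0 6 = 10 by decide +kernel] at this
    exact this
  have e1 : ∀ u : F, nna F * xG H.toGood2 5 u * (nna F)⁻¹ = xG H.toGood2 1 (((eta chevG2 0 5 : ℤ) : F) * u) := by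
    intro u
    have := nG_conj H.toGood2 (D := chevG2) (i := 0) (by decide) (r := 5) (by decide) u
    rw [show chevG2.reflectRoot 0 5 = 1 by decide +kernel] at this
    exact this
  have hη : eta chevG2 0 5 = eta chevG2 0 6 := by decide +kernel
  rw [hη] at e1
  have hη1 := ca_aux 6 (by decide) 0 (by decide)
  obtain ⟨η, hη2, hη3⟩ : ∃ η : Fˣ, (η : F) = ((eta chevG2 0 6 : ℤ) : F) ∧ (η : F)⁻¹ = η := by
    rcases hη1 with h | h <;> rw [h]
    · exact ⟨1, by simp, by simp⟩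
    · exact ⟨-1, by simp, by simp⟩
  rw [← hη2] at e1 e10
  have hn : nna F * nnb F * (nna F)⁻¹ = nG H.toGood2 10 (η : F) := by
    have h1 : nnb F = xG H.toGood2 6 1 * xG H.toGood2 5 (-1) * xG H.toGood2 6 1 := by
      have h5 : chevG2.neg 6 = 5 := by decide +kernel
      have : nnb F = nG H.toGood2 6 1 := rfl
      rw [this, nG, h5, inv_one]
    have h2 : nna F * nnb F * (nna F)⁻¹ = (nna F * xG H.toGood2 6 1 * (nna F)⁻¹) * (nna F * xG H.toGood2 5 (-1) * (nna F)⁻¹) *
        (nna F * xG H.toGood2 6 1 * (nna F)⁻¹) := by rw [h1]; group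
    rw [h2, e10, e1, nG, hneg, hη3]
    congr 2
    · rw [mul_one]
    · congr 1; ring
    · rw [mul_one]
  have hc : -t⁻¹ ≠ 0 := neg_ne_zero.2 (inv_ne_zero ht)
  refine ⟨nG H.toGood2 10 (-t⁻¹), ?_, ?_⟩
  · rw [nG, hneg, xx_ne (by decide), xx_ne (by decide)]
    have h1 : xG H.toGood2 (D := chevG2) 10 (t⁻¹) * xG H.toGood2 10 (-t⁻¹) = 1 := by
      rw [← xG_add H.toGood2 (by decide), add_neg_cancel, xG_zero]
    have h2 : xG H.toGood2 (D := chevG2) 10 (-t⁻¹) * xG H.toGood2 10 (t⁻¹) = 1 := by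
      rw [← xG_add H.toGood2 (by decide), neg_add_cancel, xG_zero]
    have h3 : -(-t⁻¹)⁻¹ = t := by rw [inv_neg, inv_inv, _root_.neg_neg]
    rw [h3]
    calc xG H.toGood2 1 t = 1 * xG H.toGood2 1 t * 1 := by simp
      _ = _ := by rw [← h1]; nth_rewrite 2 [h1]; rw [← h2]; group
  · have hv : ∀ c : Fˣ, nG H.toGood2 (D := chevG2) 10 (c : F) = hh c c⁻¹ * nG H.toGood2 10 1 := by
      intro c
      rw [ChevTw.nG_eq H (by decide), h10]
    have h1 := hv (Units.mk0 _ hc)
    have h2 := hv η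
    rw [Units.val_mk0] at h1
    refine ⟨Units.mk0 _ hc * η⁻¹, (Units.mk0 _ hc)⁻¹ * η⁻¹⁻¹, ?_⟩
    rw [hn, h2, h_mul, h1]
    have h3 : hh (F := F) η⁻¹ η⁻¹⁻¹ * hh η η⁻¹ = 1 := by
      rw [← h_mul, inv_mul_cancel, inv_mul_cancel]
      apply ChevTw.eq_of_coe
      rw [hh_coe]
      have h4 : tD chevG2 (par (1 : Fˣ) 1) = tD chevG2 (fun _ => (1 : Fˣ)) := tD_congr (by simp [par]) (by simp [par])
      rw [h4]
      unfold tD chr
      simp
    rw [mul_assoc, ← mul_assoc (hh η⁻¹ η⁻¹⁻¹), h3, one_mul]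

/-- the instance -/
noncomputable def inst (F : Type*) [Field F] : G2G F ↥(chevG2.group F) where
  x := xx F
  h := hh
  na := nna F
  nb := nnb F
  add := add
  tor := tor
  hna := hna
  hnb := hnb
  c76 := c76
  c78 := c78
  c79 := c79
  c610 := c610
  c89 := c89
  comm := comm
  c511 := c511
  c60 := c60
  r10 := r10
  h_mul := h_mul
  na_h := na_h
  nb_h := nb_h
  gen := gen

theorem exists_inst : ∃ X : G2G F ↥(chevG2.group F), ∀ r, r < 12 → ∀ t : F, t ≠ 0 → X.x r t ≠ 1 := ⟨inst F, ne_one⟩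

end Cfsg.Agent.G2M.InstC
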