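import Cfsg.Agent.G2M.R

set_option autoImplicit false
set_option linter.unusedSectionVars false

/-! S2338, B2 step 3, the constant kappa (helper78) -/

namespace Cfsg.Agent.G2M.Kap

open Module Finset Cfsg.Agent.G2M

variable {F G : Type*} [Field F] [Fintype F] [DecidableEq F] [Group G] {V : Type*} [AddCommGroup V] [Module ℂ V]
  (X : G2G F G) {ψ : AddChar F ℂ} (ρ : Representation ℂ G V)

/-- unnormalised averages -/
noncomputable def E (r : ℕ) (y : V) : V := ∑ u : F, ρ (X.x r u) y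
noncomputable def P (ψ : AddChar F ℂ) (b : F) (y : V) : V := ∑ u : F, ψ (-(b * u)) • ρ (X.x 6 u) y

theorem mulρ (g h : G) (y : V) : ρ g (ρ h y) = ρ (g * h) y := by rw [map_mul]; rfl

theorem E_smul (r : ℕ) (c : ℂ) (y : V) : E X ρ r (c • y) = c • E X ρ r y := by
  unfold E; rw [Finset.smul_sum]; exact Finset.sum_congr rfl fun u _ => map_smul _ _ _

theorem P_smul (b : F) (c : ℂ) (y : V) : P X ρ ψ b (c • y) = c • P X ρ ψ b y := by
  unfold P; rw [Finset.smul_sum]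
  exact Finset.sum_congr rfl fun u _ => by rw [map_smul, smul_comm]

theorem E_sum {ι : Type*} (s : Finset ι) (r : ℕ) (f : ι → V) : E X ρ r (∑ i ∈ s, f i) = ∑ i ∈ s, E X ρ r (f i) := by
  unfold E
  rw [Finset.sum_comm]
  exact Finset.sum_congr rfl fun u _ => map_sum _ _ _

theorem x_E {r : ℕ} (hr : r < 12) (t : F) (y : V) : ρ (X.x r t) (E X ρ r y) = E X ρ r y := by
  unfold E
  rw [map_sum]
  refine Fintype.sum_equiv (Equiv.addLeft t) _ _ fun u => ?_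
  rw [mulρ, ← X.add r hr]; rfl

theorem x_P (b t : F) (y : V) : ρ (X.x 6 t) (P X ρ ψ b y) = ψ (b * t) • P X ρ ψ b y := by
  unfold P
  rw [map_sum, Finset.smul_sum]
  refine Fintype.sum_equiv (Equiv.addLeft t) _ _ fun u => ?_
  show ρ (X.x 6 t) (ψ (-(b * u)) • ρ (X.x 6 u) y) = ψ (b * t) • ψ (-(b * (t + u))) • ρ (X.x 6 (t + u)) y
  rw [map_smul, X.add 6 (by norm_num), mulρ, smul_smul, ← AddChar.map_add_eq_mul]
  congr 2; ring

theorem sum_P (hψ : ψ ≠ 0) (y : V) : ∑ b : F, P X ρ ψ b y = (Fintype.card F : ℂ) • y := by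
  have hprim : ψ.IsPrimitive := AddChar.IsPrimitive.of_ne_one hψ
  have hx0 : X.x 6 0 = 1 := by
    have h := X.add 6 (by norm_num) 0 0
    rw [add_zero] at h
    exact (mul_eq_left.1 h.symm)
  unfold P
  rw [Finset.sum_comm]
  have h2 : ∀ t : F, ∑ c : F, ψ (-(c * t)) • ρ (X.x 6 t) y = (if t = 0 then (Fintype.card F : ℂ) else 0) • ρ (X.x 6 t) y := by
    intro t
    rw [← Finset.sum_smul]
    congr 1
    have h3 := AddChar.sum_mulShift (-t) hprim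
    have h4 : ∀ c : F, ψ (-(c * t)) = ψ (c * -t) := fun c => by congr 1; ring
    rw [Finset.sum_congr rfl fun c _ => h4 c, h3]
    by_cases ht : t = 0
    · rw [if_pos ht, if_pos (by rw [ht, neg_zero])]
    · rw [if_neg ht, if_neg (neg_ne_zero.2 ht)]; simp
  rw [Finset.sum_congr rfl fun t _ => h2 t, Finset.sum_eq_single (0 : F)]
  · rw [if_pos rfl, hx0, map_one]; rfl
  · intro t _ ht
    rw [if_neg ht, zero_smul]
  · intro h; exact absurd (Finset.mem_univ _) h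

theorem P_zero (y : V) : P X ρ ψ 0 y = E X ρ 6 y := by
  unfold P E
  refine Finset.sum_congr rfl fun u _ => ?_
  rw [zero_mul, neg_zero, AddChar.map_zero_eq_one, one_smul]

/-- tau -/
def Tau (y : V) : Prop := (∀ t, ρ (X.x 10 t) y = y) ∧ (∀ t, ρ (X.x 11 t) y = y)

theorem tau6 {y : V} (h : Tau X ρ y) (s : F) : Tau X ρ (ρ (X.x 6 s) y) := by
  constructor
  · intro t
    have h1 := X.c610 s t
    have h2 : X.x 10 t * X.x 6 s = X.x 6 s * (X.x 10 t * X.x 11 (s * t)) := by rw [← h1]; group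
    rw [mulρ, h2, ← mulρ, ← mulρ, h.2, h.1]
  · intro t
    have h1 := X.comm 6 11 (by simp) s t
    rw [mulρ, ← h1, ← mulρ, h.2]

theorem sgn {e : F} (he : e = 1 ∨ e = -1) (u : F) : e * (e * u) = u := by
  rcases he with rfl | rfl <;> ring

theorem taunb {y : V} (h : Tau X ρ y) : Tau X ρ (ρ X.nb y) := by
  constructor
  · intro t
    obtain ⟨e, he, h1⟩ := X.hnb 11 (by norm_num)
    have h2 : X.nb * X.x 11 (e * t) * X.nb⁻¹ = X.x 10 t := by
      rw [h1, sgn he]; rfl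
    rw [mulρ, ← h2, inv_mul_cancel_right, ← mulρ, h.2]
  · intro t
    obtain ⟨e, he, h1⟩ := X.hnb 10 (by norm_num)
    have h2 : X.nb * X.x 10 (e * t) * X.nb⁻¹ = X.x 11 t := by
      rw [h1, sgn he]; rfl
    rw [mulρ, ← h2, inv_mul_cancel_right, ← mulρ, h.1]

theorem taunb' {y : V} (h : Tau X ρ y) : Tau X ρ (ρ X.nb⁻¹ y) := by
  constructor
  · intro t
    obtain ⟨e, he, h1⟩ := X.hnb 10 (by norm_num)
    have h2 : X.nb * X.x 10 t * X.nb⁻¹ = X.x 11 (e * t) := h1 t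
    have h3 : X.x 10 t * X.nb⁻¹ = X.nb⁻¹ * X.x 11 (e * t) := by rw [← h2]; group
    rw [mulρ, h3, ← mulρ, h.2]
  · intro t
    obtain ⟨e, he, h1⟩ := X.hnb 11 (by norm_num)
    have h2 : X.nb * X.x 11 t * X.nb⁻¹ = X.x 10 (e * t) := h1 t
    have h3 : X.x 11 t * X.nb⁻¹ = X.nb⁻¹ * X.x 10 (e * t) := by rw [← h2]; group
    rw [mulρ, h3, ← mulρ, h.1]

theorem five : ∃ e : F, (e = 1 ∨ e = -1) ∧ ∀ s, X.x 5 s = X.nb * X.x 6 (e * s) * X.nb⁻¹ := by
  obtain ⟨e, he, h1⟩ := X.hnb 6 (by norm_num)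
  refine ⟨e, he, fun s => ?_⟩
  rw [h1, sgn he]; rfl

theorem tau5 {y : V} (h : Tau X ρ y) (s : F) : Tau X ρ (ρ (X.x 5 s) y) := by
  obtain ⟨e, he, h1⟩ := five X
  rw [h1, ← mulρ, ← mulρ]
  exact taunb X ρ (tau6 X ρ (taunb' X ρ h) _)

theorem tau_sum {ι : Type*} (s : Finset ι) (f : ι → V) (h : ∀ i ∈ s, Tau X ρ (f i)) : Tau X ρ (∑ i ∈ s, f i) := by
  constructor
  · intro t; rw [map_sum]; exact Finset.sum_congr rfl fun i hi => (h i hi).1 t
  · intro t; rw [map_sum]; exact Finset.sum_congr rfl fun i hi => (h i hi).2 t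

theorem tau_smul {y : V} (c : ℂ) (h : Tau X ρ y) : Tau X ρ (c • y) :=
  ⟨fun t => by rw [map_smul, h.1], fun t => by rw [map_smul, h.2]⟩

/-- the constant: unnormalised `P_b E_5 v_b = (q+1) v_b`. -/
theorem s3_kappa [FiniteDimensional ℂ V] (hψ : ψ ≠ 0) (hq : 2 < Fintype.card F)
    (h1 : ∀ b, b ≠ 0 → dj X ψ ρ [(6, b), (10, 0), (11, 0)] = 1)
    {v : V} (hv0 : v ≠ 0) (h6 : ∀ t, ρ (X.x 6 t) v = v) (h10 : ∀ t, ρ (X.x 10 t) v = v) (h11 : ∀ t, ρ (X.x 11 t) v = v)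
    (hline : ∀ w, (∀ t, ρ (X.x 6 t) w = w) → (∀ t, ρ (X.x 10 t) w = w) → (∀ t, ρ (X.x 11 t) w = w) → ∃ c : ℂ, w = c • v)
    (hα : ∀ t : F, t ≠ 0 → ∑ u : F, ρ (X.x 6 u) (ρ (X.x 5 t) v) = -v)
    {b : F} (hb : b ≠ 0) {vb : V} (hvb : vb ∈ J X ψ ρ [(6, b), (10, 0), (11, 0)]) :
    ∑ u : F, ψ (-(b * u)) • ρ (X.x 6 u) (∑ s : F, ρ (X.x 5 s) vb) = ((Fintype.card F : ℂ) + 1) • vb := by
  classical
  have hq0 : (Fintype.card F : ℂ) ≠ 0 := by exact_mod_cast Fintype.card_ne_zero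
  have hx0 : ∀ r < 12, X.x r 0 = 1 := by
    intro r hr
    have h := X.add r hr 0 0
    rw [add_zero] at h
    exact (mul_eq_left.1 h.symm)
  have htv : Tau X ρ v := ⟨h10, h11⟩
  -- membership in J
  have hJ : ∀ c : F, ∀ y : V, (∀ t, ρ (X.x 6 t) y = ψ (c * t) • y) → Tau X ρ y → y ∈ J X ψ ρ [(6, c), (10, 0), (11, 0)] := by
    intro c y hy hT
    rw [mem_J_cons, mem_J_cons, mem_J_cons]
    refine ⟨hy, fun t => ?_, fun t => ?_, ?_⟩
    · rw [hT.1, zero_mul, AddChar.map_zero_eq_one, one_smul]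
    · rw [hT.2, zero_mul, AddChar.map_zero_eq_one, one_smul]
    · intro p hp; simp at hp
  have hJ' : ∀ c : F, ∀ y ∈ J X ψ ρ [(6, c), (10, 0), (11, 0)], (∀ t, ρ (X.x 6 t) y = ψ (c * t) • y) ∧ Tau X ρ y := by
    intro c y hy
    rw [mem_J_cons, mem_J_cons, mem_J_cons] at hy
    refine ⟨hy.1, fun t => ?_, fun t => ?_⟩
    · rw [hy.2.1, zero_mul, AddChar.map_zero_eq_one, one_smul]
    · rw [hy.2.2.1, zero_mul, AddChar.map_zero_eq_one, one_smul]
  have hone : ∀ c : F, c ≠ 0 → ∃ y ∈ J X ψ ρ [(6, c), (10, 0), (11, 0)], y ≠ 0 ∧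
      ∀ y' ∈ J X ψ ρ [(6, c), (10, 0), (11, 0)], ∃ a : ℂ, y' = a • y := by
    intro c hc
    obtain ⟨⟨y, hy⟩, hy0, hy1⟩ := finrank_eq_one_iff'.1 (h1 c hc)
    refine ⟨y, hy, fun h => hy0 (Subtype.ext h), fun y' hy' => ?_⟩
    obtain ⟨a, ha⟩ := hy1 ⟨y', hy'⟩
    exact ⟨a, (congrArg Subtype.val ha).symm⟩
  have hT6 : ∀ y, Tau X ρ y → Tau X ρ (E X ρ 6 y) := fun y hy => tau_sum X ρ _ _ fun u _ => tau6 X ρ hy u
  have hT5 : ∀ y, Tau X ρ y → Tau X ρ (E X ρ 5 y) := fun y hy => tau_sum X ρ _ _ fun u _ => tau5 X ρ hy u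
  have hTP : ∀ c y, Tau X ρ y → Tau X ρ (P X ρ ψ c y) := fun c y hy => tau_sum X ρ _ _ fun u _ =>
    tau_smul X ρ _ (tau6 X ρ hy u)
  -- n0
  set n0 : V := ρ X.nb v with hn0
  have hTn0 : Tau X ρ n0 := taunb X ρ htv
  have h5n0 : ∀ t, ρ (X.x 5 t) n0 = n0 := by
    intro t
    obtain ⟨e, he, h5⟩ := five X
    rw [h5, hn0, mulρ, inv_mul_cancel_right, ← mulρ, h6]
  have hE5n0 : E X ρ 5 n0 = (Fintype.card F : ℂ) • n0 := by
    unfold E
    rw [Finset.sum_congr rfl fun u _ => h5n0 u, Finset.sum_const, Finset.card_univ, Nat.cast_smul_eq_nsmul]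
  have hline5 : ∀ y, Tau X ρ y → ∃ c : ℂ, E X ρ 5 y = c • n0 := by
    intro y hy
    have hT := taunb' X ρ (hT5 y hy)
    obtain ⟨c, hc⟩ := hline (ρ X.nb⁻¹ (E X ρ 5 y)) (by
      intro t
      obtain ⟨e, he, h5⟩ := five X
      have h7 : X.x 6 t * X.nb⁻¹ = X.nb⁻¹ * X.x 5 (e * t) := by rw [h5, sgn he]; group
      rw [mulρ, h7, ← mulρ, x_E X ρ (by norm_num)]) hT.1 hT.2
    refine ⟨c, ?_⟩
    have : E X ρ 5 y = ρ X.nb (ρ X.nb⁻¹ (E X ρ 5 y)) := by
      rw [mulρ, mul_inv_cancel, map_one]; rfl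
    rw [this, hc, map_smul]
  -- E6 E5 v = v
  have hE65 : E X ρ 6 (E X ρ 5 v) = v := by
    have h7 : E X ρ 6 (E X ρ 5 v) = ∑ t : F, ∑ u : F, ρ (X.x 6 u) (ρ (X.x 5 t) v) := by
      have : E X ρ 5 v = ∑ t : F, ρ (X.x 5 t) v := rfl
      rw [this, E_sum]; rfl
    rw [h7, ← Finset.add_sum_erase _ _ (Finset.mem_univ (0 : F)), Finset.sum_congr rfl fun t ht => hα t (Finset.ne_of_mem_erase ht)]
    rw [hx0 5 (by norm_num), map_one, Finset.sum_const, Finset.card_erase_of_mem (Finset.mem_univ _), Finset.card_univ]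
    have h8 : ∑ u : F, ρ (X.x 6 u) ((1 : V →ₗ[ℂ] V) v) = Fintype.card F • v := by
      have h8' : ∑ u : F, ρ (X.x 6 u) ((1 : V →ₗ[ℂ] V) v) = ∑ _u : F, v := Finset.sum_congr rfl fun u _ => h6 u
      rw [h8', Finset.sum_const, Finset.card_univ]
    rw [h8, smul_neg]
    have h9 : Fintype.card F • v = (Fintype.card F - 1) • v + v := by
      rw [← succ_nsmul, Nat.sub_add_cancel (by omega)]
    rw [h9]; abel
  obtain ⟨c, hc⟩ := hline5 v htv
  have hc0 : c ≠ 0 := by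
    rintro rfl
    rw [zero_smul] at hc
    apply hv0
    rw [← hE65, hc]
    unfold E
    simp
  have hn0E : n0 = c⁻¹ • E X ρ 5 v := by rw [hc, smul_smul, inv_mul_cancel₀ hc0, one_smul]
  have hE6n0 : E X ρ 6 n0 = c⁻¹ • v := by rw [hn0E, E_smul, hE65]
  have hn00 : n0 ≠ 0 := by
    intro h
    rw [h, smul_zero] at hc
    apply hv0
    rw [← hE65, hc]
    unfold E
    simp
  -- kappa_b
  have hk : ∀ d : F, d ≠ 0 → ∃ k : ℂ, (∀ y ∈ J X ψ ρ [(6, d), (10, 0), (11, 0)], P X ρ ψ d (E X ρ 5 y) = k • y) ∧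
      E X ρ 5 (P X ρ ψ d n0) = k • n0 := by
    intro d hd
    obtain ⟨y, hy, hy0, hyl⟩ := hone d hd
    have hyT := (hJ' d y hy).2
    have hPm : ∀ z, Tau X ρ z → P X ρ ψ d z ∈ J X ψ ρ [(6, d), (10, 0), (11, 0)] := fun z hz =>
      hJ d _ (fun t => x_P X ρ d t z) (hTP d z hz)
    obtain ⟨f, hf⟩ := hline5 y hyT
    obtain ⟨s, hs⟩ := hyl _ (hPm n0 hTn0)
    refine ⟨f * s, ?_, ?_⟩
    · intro y' hy'
      obtain ⟨a, rfl⟩ := hyl y' hy'
      rw [E_smul, P_smul, hf, P_smul, hs, smul_smul, smul_smul, smul_smul]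
      congr 1; ring
    · rw [hs, E_smul, hf, smul_smul, mul_comm]
  choose! k hk1 hk2 using hk
  -- all equal
  have heq : ∀ d d' : F, d ≠ 0 → d' ≠ 0 → k d = k d' := by
    intro d d' hd hd'
    obtain ⟨y, hy, hy0, -⟩ := hone d hd
    -- torus element taking char d to char d'
    let τ : Fˣ := Units.mk0 d hd * (Units.mk0 d' hd')⁻¹
    have hτ : ((τ : Fˣ) : F) = d * d'⁻¹ := by simp [τ]
    have ht6 : ∀ u : F, X.h 1 τ * X.x 6 u * (X.h 1 τ)⁻¹ = X.x 6 ((d * d'⁻¹) * u) := by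
      intro u
      have h7 := X.tor 1 τ 6 (by norm_num) u
      have h8 : (((1 : Fˣ) ^ (ca 6) * τ ^ (cb 6) : Fˣ) : F) = d * d'⁻¹ := by
        have : cb 6 = 1 := rfl
        rw [this, one_zpow, one_mul, zpow_one, hτ]
      rwa [h8] at h7
    have ht5 : ∀ u : F, X.h 1 τ * X.x 5 u * (X.h 1 τ)⁻¹ = X.x 5 ((d * d'⁻¹)⁻¹ * u) := by
      intro u
      have h7 := X.tor 1 τ 5 (by norm_num) u
      have h8 : (((1 : Fˣ) ^ (ca 5) * τ ^ (cb 5) : Fˣ) : F) = (d * d'⁻¹)⁻¹ := by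
        have : cb 5 = -1 := rfl
        rw [this, one_zpow, one_mul, zpow_neg_one, Units.val_inv_eq_inv_val, hτ]
      rwa [h8] at h7
    have hr0 : d * d'⁻¹ ≠ 0 := mul_ne_zero hd (inv_ne_zero hd')
    have hr : ∀ r < 12, ∃ a : F, a ≠ 0 ∧ ∀ u : F, X.h 1 τ * X.x r u * (X.h 1 τ)⁻¹ = X.x r (a * u) := by
      intro r hr
      exact ⟨_, Units.ne_zero _, fun u => X.tor 1 τ r hr u⟩
    -- tau stable
    have hTh : ∀ z, Tau X ρ z → Tau X ρ (ρ (X.h 1 τ) z) := by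
      intro z hz
      constructor
      · intro t
        obtain ⟨a, ha, h7⟩ := hr 10 (by norm_num)
        have h8 : X.x 10 t * X.h 1 τ = X.h 1 τ * X.x 10 (a⁻¹ * t) := by
          have := h7 (a⁻¹ * t)
          rw [mul_inv_cancel_left₀ ha] at this
          rw [← this]; group
        rw [mulρ, h8, ← mulρ, hz.1]
      · intro t
        obtain ⟨a, ha, h7⟩ := hr 11 (by norm_num)
        have h8 : X.x 11 t * X.h 1 τ = X.h 1 τ * X.x 11 (a⁻¹ * t) := by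
          have := h7 (a⁻¹ * t)
          rw [mul_inv_cancel_left₀ ha] at this
          rw [← this]; group
        rw [mulρ, h8, ← mulρ, hz.2]
    have hy6 := (hJ' d y hy).1
    have h6h : ∀ u : F, X.x 6 u * X.h 1 τ = X.h 1 τ * X.x 6 ((d * d'⁻¹)⁻¹ * u) := by
      intro u
      have := ht6 ((d * d'⁻¹)⁻¹ * u)
      rw [mul_inv_cancel_left₀ hr0] at this
      rw [← this]; group
    have h5h : ∀ u : F, X.x 5 u * X.h 1 τ = X.h 1 τ * X.x 5 ((d * d'⁻¹) * u) := by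
      intro u
      have := ht5 ((d * d'⁻¹) * u)
      rw [inv_mul_cancel_left₀ hr0] at this
      rw [← this]; group
    have hyd' : ρ (X.h 1 τ) y ∈ J X ψ ρ [(6, d'), (10, 0), (11, 0)] := by
      apply hJ
      · intro t
        rw [mulρ, h6h, ← mulρ, hy6, map_smul]
        congr 2
        field_simp
      · exact hTh y (hJ' d y hy).2
    have hE : E X ρ 5 (ρ (X.h 1 τ) y) = ρ (X.h 1 τ) (E X ρ 5 y) := by
      unfold E
      rw [map_sum]
      refine Fintype.sum_equiv (Equiv.mulLeft₀ (d * d'⁻¹) hr0) _ _ fun u => ?_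
      rw [mulρ, h5h, ← mulρ]; rfl
    have hP : ∀ z, P X ρ ψ d' (ρ (X.h 1 τ) z) = ρ (X.h 1 τ) (P X ρ ψ d z) := by
      intro z
      unfold P
      rw [map_sum]
      refine Fintype.sum_equiv (Equiv.mulLeft₀ (d * d'⁻¹)⁻¹ (inv_ne_zero hr0)) _ _ fun u => ?_
      show ψ (-(d' * u)) • ρ (X.x 6 u) (ρ (X.h 1 τ) z) =
        ρ (X.h 1 τ) (ψ (-(d * ((d * d'⁻¹)⁻¹ * u))) • ρ (X.x 6 ((d * d'⁻¹)⁻¹ * u)) z)
      rw [mulρ, h6h, ← mulρ, map_smul]
      congr 3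
      field_simp
    have h9 := hk1 d' hd' _ hyd'
    rw [hE, hP, hk1 d hd y hy, map_smul] at h9
    have hne : ρ (X.h 1 τ) y ≠ 0 := by
      intro h
      apply hy0
      have : y = ρ (X.h 1 τ)⁻¹ (ρ (X.h 1 τ) y) := by
        rw [mulρ, inv_mul_cancel, map_one]; rfl
      rw [this, h, map_zero]
    exact smul_left_injective ℂ hne h9
  -- sum of the k
  have hsum : ∑ d ∈ univ.erase (0 : F), k d = (Fintype.card F : ℂ) ^ 2 - 1 := by
    have h7 : E X ρ 5 (∑ d : F, P X ρ ψ d n0) = (Fintype.card F : ℂ) • (Fintype.card F : ℂ) • n0 := by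
      rw [sum_P X ρ hψ, E_smul, hE5n0]
    rw [E_sum, ← Finset.add_sum_erase _ _ (Finset.mem_univ (0 : F)), P_zero, hE6n0, E_smul, ← hn0E,
      Finset.sum_congr rfl fun d hd => hk2 d (Finset.ne_of_mem_erase hd), ← Finset.sum_smul] at h7
    have h8 : (1 + ∑ d ∈ univ.erase (0 : F), k d) • n0 = ((Fintype.card F : ℂ) * (Fintype.card F : ℂ)) • n0 := by
      rw [add_smul, one_smul, h7, smul_smul]
    have h9 := smul_left_injective ℂ hn00 h8
    linear_combination h9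
  have hkb : k b = (Fintype.card F : ℂ) + 1 := by
    rw [Finset.sum_congr rfl fun d hd => heq d b (Finset.ne_of_mem_erase hd) hb, Finset.sum_const,
      Finset.card_erase_of_mem (Finset.mem_univ _), Finset.card_univ, nsmul_eq_mul, Nat.cast_sub (by omega), Nat.cast_one] at hsum
    have hq1 : (Fintype.card F : ℂ) - 1 ≠ 0 := by
      intro h
      have : (Fintype.card F : ℂ) = 1 := by linear_combination h
      have : Fintype.card F = 1 := by exact_mod_cast this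
      omega
    apply mul_left_cancel₀ hq1
    rw [hsum]; ring
  have := hk1 b hb vb hvb
  rw [hkb] at this
  exact this

end Cfsg.Agent.G2M.Kap

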