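import Cfsg.Agent.G2M.R

set_option autoImplicit false

/-! S2338, conjugation rules. -/

namespace Cfsg.Agent.G2M

open Module Finset

variable {F G : Type*} [Field F] [Fintype F] [DecidableEq F] [Group G] {V : Type*} [AddCommGroup V] [Module ℂ V] [FiniteDimensional ℂ V]
  (X : G2G F G) {ψ : AddChar F ℂ} (ρ : Representation ℂ G V)

theorem J_congr {l l' : List (ℕ × F)} (h : ∀ p, p ∈ l ↔ p ∈ l') : J X ψ ρ l = J X ψ ρ l' := by
  ext v
  constructor
  · intro hv p hp t; exact hv p ((h p).2 hp) t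
  · intro hv p hp t; exact hv p ((h p).1 hp) t

/-- the order of the list does not matter -/
theorem dj_perm {l l' : List (ℕ × F)} (h : ∀ p, p ∈ l ↔ p ∈ l') : dj X ψ ρ l = dj X ψ ρ l' := by
  unfold dj
  rw [J_congr X ρ h]

/-- general conjugation: if `g x_r(u) g⁻¹ = x_{r'}(a u)` for all `(r, c)` in the list, then the eigenspace goes to
the list of the `(r', a⁻¹ c)`. -/
theorem dj_conj (g : G) (l : List (ℕ × F)) (f : ℕ → ℕ) (a : ℕ → F) (ha : ∀ p ∈ l, a p.1 ≠ 0)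
    (h : ∀ p ∈ l, ∀ u : F, g * X.x p.1 u * g⁻¹ = X.x (f p.1) (a p.1 * u)) :
    dj X ψ ρ l = dj X ψ ρ (l.map fun p => (f p.1, (a p.1)⁻¹ * p.2)) := by
  have hm : ∀ (x y : G) (v : V), ρ (x * y) v = ρ x (ρ y v) := by intro x y v; rw [map_mul]; rfl
  refine dj_eq_of_map X ρ g ?_ ?_
  · intro v hv p' hp' t
    obtain ⟨p, hp, rfl⟩ := List.mem_map.1 hp'
    have h1 : X.x (f p.1) t * g = g * X.x p.1 ((a p.1)⁻¹ * t) := by
      have h2 := h p hp ((a p.1)⁻¹ * t)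
      rw [mul_inv_cancel_left₀ (ha p hp)] at h2
      rw [← h2]; group
    show ρ (X.x (f p.1) t) (ρ g v) = ψ ((a p.1)⁻¹ * p.2 * t) • ρ g v
    rw [← hm, h1, hm, hv p hp, map_smul]
    congr 2; ring
  · intro v hv p hp t
    have h1 : X.x p.1 t * g⁻¹ = g⁻¹ * X.x (f p.1) (a p.1 * t) := by
      rw [← h p hp t]; group
    have h2 := hv (f p.1, (a p.1)⁻¹ * p.2) (List.mem_map.2 ⟨p, hp, rfl⟩) (a p.1 * t)
    have h2 : ρ (X.x (f p.1) (a p.1 * t)) v = ψ ((a p.1)⁻¹ * p.2 * (a p.1 * t)) • v := h2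
    rw [← hm, h1, hm, h2, map_smul]
    congr 2
    have := ha p hp
    field_simp

/-- torus -/
theorem dj_tor (s t : Fˣ) (l : List (ℕ × F)) (hl : ∀ p ∈ l, p.1 < 12) :
    dj X ψ ρ l = dj X ψ ρ (l.map fun p => (p.1, ((s ^ (ca p.1) * t ^ (cb p.1) : Fˣ) : F) * p.2)) := by
  have h := dj_conj X (ψ := ψ) ρ (X.h s t)⁻¹ l id (fun r => (((s ^ (ca r) * t ^ (cb r) : Fˣ)⁻¹ : Fˣ) : F))
    (fun p _ => Units.ne_zero _) (fun p hp u => by
      have h1 := X.tor s t p.1 (hl p hp) ((((s ^ (ca p.1) * t ^ (cb p.1) : Fˣ)⁻¹ : Fˣ) : F) * u)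
      rw [← mul_assoc, ← Units.val_mul, mul_inv_cancel, Units.val_one, one_mul] at h1
      show (X.h s t)⁻¹ * X.x p.1 u * (X.h s t)⁻¹⁻¹ = X.x p.1 _
      rw [← h1]; group)
  rw [h]
  congr 1
  refine List.map_congr_left fun p _ => ?_
  show (p.1, ((((s ^ (ca p.1) * t ^ (cb p.1) : Fˣ)⁻¹ : Fˣ) : F))⁻¹ * p.2) = _
  rw [Units.val_inv_eq_inv_val, inv_inv]

theorem dj_na : ∃ e : ℕ → F, (∀ r, e r = 1 ∨ e r = -1) ∧ ∀ l : List (ℕ × F), (∀ p ∈ l, p.1 < 12) →
    dj X ψ ρ l = dj X ψ ρ (l.map fun p => (ra p.1, e p.1 * p.2)) := by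
  classical
  choose! e he h using X.hna
  refine ⟨fun r => if r < 12 then e r else 1, ?_, ?_⟩
  · intro r
    by_cases hr : r < 12
    · simp only [if_pos hr]; exact he r hr
    · left; simp only [if_neg hr]
  · intro l hl
    rw [dj_conj X (ψ := ψ) ρ X.na l ra e (fun p hp => by
      rcases he p.1 (hl p hp) with h1 | h1 <;> rw [h1] <;> simp) (fun p hp u => h p.1 (hl p hp) u)]
    congr 1
    refine List.map_congr_left fun p hp => ?_
    simp only [if_pos (hl p hp)]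
    rcases he p.1 (hl p hp) with h1 | h1 <;> rw [h1] <;> simp

theorem dj_nb : ∃ e : ℕ → F, (∀ r, e r = 1 ∨ e r = -1) ∧ ∀ l : List (ℕ × F), (∀ p ∈ l, p.1 < 12) →
    dj X ψ ρ l = dj X ψ ρ (l.map fun p => (rb p.1, e p.1 * p.2)) := by
  classical
  choose! e he h using X.hnb
  refine ⟨fun r => if r < 12 then e r else 1, ?_, ?_⟩
  · intro r
    by_cases hr : r < 12
    · simp only [if_pos hr]; exact he r hr
    · left; simp only [if_neg hr]
  · intro l hl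
    rw [dj_conj X (ψ := ψ) ρ X.nb l rb e (fun p hp => by
      rcases he p.1 (hl p hp) with h1 | h1 <;> rw [h1] <;> simp) (fun p hp u => h p.1 (hl p hp) u)]
    congr 1
    refine List.map_congr_left fun p hp => ?_
    simp only [if_pos (hl p hp)]
    rcases he p.1 (hl p hp) with h1 | h1 <;> rw [h1] <;> simp

end Cfsg.Agent.G2M
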